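import Cfsg.Agent.Lib.Fusion.System.Bicyclic.Derived

/-!
# Involutions of the derived group and commutators with `b`

When `G'` is not cyclic and `b ^ 4 = 1`, the four group `W` of involutions of `G'` is central in
`⟨b⟩ Φ(G)`, equals the centralizer of `b` in `G'`, and consists of commutators `[g, b]` with
`g ∈ Φ(G)` unless `G' = W`.
-/

set_option autoImplicit false
set_option maxHeartbeats 1000000
set_option linter.style.haveILetI false
set_option linter.unusedSectionVars false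

open Subgroup
open scoped commutatorElement

namespace CfsgLib.Fusion.Bicyclic

universe u

variable {G : Type u} [Group G] [Finite G] (H : Hyp G) (hnc : ¬ IsCyclic (commutator G))
include H hnc

/-- A subgroup covering `G'` modulo squares contains it. -/
theorem le_of_mod_r2 {S : Subgroup G} (hS : commutator G ≤ S ⊔ r2 G) (hSR : S ≤ commutator G) :
    commutator G ≤ S := by
  haveI : Fact (Nat.Prime 2) := ⟨Nat.prime_two⟩
  have htop : S.subgroupOf (commutator G) = ⊤ := by
    refine frattini_nongenerating (eq_top_iff.2 fun n _ => ?_)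
    have hle : commutator G ≤
        (S.subgroupOf (commutator G) ⊔ frattini (commutator G)).map (commutator G).subtype := by
      refine hS.trans (sup_le ?_ ((closure_le _).2 ?_))
      · rw [Subgroup.map_sup, subgroupOf_map_subtype, inf_eq_left.2 hSR]
        exact le_sup_left
      · rintro _ ⟨s, hs, rfl⟩
        refine ⟨⟨s, hs⟩ * ⟨s, hs⟩, mem_sup_right ?_, rfl⟩
        rw [← sq]
        exact CfsgLib.Coprime.pow_mem_frattini (H.pgroup.to_subgroup _) _
    obtain ⟨m, hm, hme⟩ := hle n.2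
    rwa [show n = m from Subtype.ext hme.symm]
  exact subgroupOf_eq_top.1 htop

/-- Commutators of `a` with elements of `derK`. -/
theorem comm_a_derK (d : Gens G) {k : G} (hk : k ∈ derK G) :
    ∃ t ∈ commutator G, ⁅d.a, k⁆ = ⁅d.a, t⁆ * ⁅d.a, t⁆ := by
  have F := H.facts hnc d
  have key : ∀ t ∈ commutator G, ⁅d.a, t * t⁆ = ⁅d.a, t⁆ * ⁅d.a, t⁆ := fun t ht => by
    have hat := (inferInstance : (commutator G).Normal).conj_mem t ht d.a
    simp only [commutatorElement_def]
    calc d.a * (t * t) * d.a⁻¹ * (t * t)⁻¹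
        = (d.a * t * d.a⁻¹) * ((d.a * t * d.a⁻¹) * t⁻¹) * t⁻¹ := by group
      _ = (d.a * t * d.a⁻¹) * (t⁻¹ * (d.a * t * d.a⁻¹)) * t⁻¹ := by
        rw [(H.comm hat (inv_mem ht)).eq]
      _ = _ := by group
  rcases F.derK_cases k hk with h | h
  · obtain ⟨t, ht, rfl⟩ := H.mem_r2 h
    exact ⟨t, ht, key t ht⟩
  · set c := ⁅d.a, d.b⁆
    set ν := ⁅d.a, c⁆
    obtain ⟨t, ht, hte⟩ := H.mem_r2 (mul_mem h (inv_mem F.pow_nu))
    rw [show k * ν * (d.a ^ 2 ^ d.r * ν)⁻¹ = k * (d.a ^ 2 ^ d.r)⁻¹ by group] at hte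
    refine ⟨t, ht, ?_⟩
    rw [← key t ht, ← hte]
    simp only [commutatorElement_def]
    group

theorem Gens.R_le_of_mem (d : Gens G) {S : Subgroup G} (hSR : S ≤ commutator G) {s : G}
    (hs : s ∈ commutator G) (hsK : s ∉ derK G) (h1 : s ∈ S) (h2 : ⁅d.a, s⁆ ∈ S) :
    commutator G ≤ S := by
  have F := H.facts hnc d
  refine le_of_mod_r2 H hnc ?_ hSR
  set c := ⁅d.a, d.b⁆ with hc
  set ν := ⁅d.a, c⁆ with hν
  obtain ⟨k, hk, rfl⟩ : ∃ k ∈ derK G, s = c * k :=
    ⟨c⁻¹ * s, (d.mem_derK_or hs).resolve_left hsK, by group⟩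
  obtain ⟨t, ht, hte⟩ := comm_a_derK H hnc d hk
  have htR : ⁅d.a, t⁆ ∈ commutator G := commutator_mem_commutator (mem_top _) (mem_top _)
  have hνS : ν ∈ S ⊔ r2 G := by
    have e : ν = ⁅d.a, c * k⁆ * (c * (⁅d.a, t⁆ * ⁅d.a, t⁆) * c⁻¹)⁻¹ := by
      rw [← hte, hν]; simp only [commutatorElement_def]; group
    rw [e]
    exact mul_mem (mem_sup_left h2)
      (mem_sup_right (inv_mem (r2_normal.conj_mem _ (sq_mem_r2 htR) c)))
  have hK : derK G ≤ S ⊔ r2 G := fun m hm => by
    rcases F.derK_cases m hm with h | h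
    · exact mem_sup_right h
    · have h1 := mul_mem (mem_sup_right (S := S) h) (inv_mem hνS)
      rwa [mul_inv_cancel_right] at h1
  have hcS : c ∈ S ⊔ r2 G := by
    have h := mul_mem (mem_sup_left (T := r2 G) h1) (inv_mem (hK hk))
    rwa [mul_inv_cancel_right] at h
  exact d.commutator_le.trans (sup_le (zpowers_le.2 hcS) hK)

/-- Two involutions of `G'`. -/
theorem exists_involutions (d : Gens G) : ∃ u v : G, u ∈ commutator G ∧ v ∈ commutator G ∧
    u * u = 1 ∧ v * v = 1 ∧ u ≠ 1 ∧ v ≠ 1 ∧ u ≠ v := by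
  classical
  have F := H.facts hnc d
  letI : CommGroup (commutator G) :=
    { (inferInstance : Group (commutator G)) with
      mul_comm := fun s t => Subtype.ext (H.comm s.2 t.2).eq }
  set f : commutator G →* commutator G := powMonoidHom 2 with hf
  have hker : ∀ x : f.ker, ((x : commutator G) : G) * ((x : commutator G) : G) = 1 := fun x => by
    have h : (x : commutator G) ^ 2 = 1 := MonoidHom.mem_ker.1 x.2
    rw [sq] at h
    exact congrArg Subtype.val h
  have hrange : ∀ {s : G} (hs : s ∈ commutator G), (⟨s, hs⟩ : commutator G) ∈ f.range →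
      s ∈ r2 G := by
    rintro s hs ⟨t, ht⟩
    rw [show s = (f t : G) from (congrArg Subtype.val ht).symm, hf, powMonoidHom_apply, sq]
    exact sq_mem_r2 t.2
  by_contra hne
  have hle : Nat.card f.ker ≤ 2 := by
    by_contra hlt
    push_neg at hlt
    haveI : Nontrivial f.ker := Finite.one_lt_card_iff_nontrivial.1 (by omega)
    obtain ⟨x, hx⟩ := exists_ne (1 : f.ker)
    obtain ⟨y, hy⟩ : ∃ y : f.ker, y ≠ 1 ∧ y ≠ x := by
      by_contra h
      push_neg at h
      have : (Set.univ : Set f.ker) ⊆ {1, x} := fun z _ => by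
        by_cases hz : z = 1
        · exact Or.inl hz
        · exact Or.inr (h z hz)
      have := Set.ncard_le_ncard this
      rw [Set.ncard_univ, Set.ncard_pair hx.symm] at this
      omega
    exact hne ⟨x, y, (x : commutator G).2, (y : commutator G).2, hker x, hker y,
      fun e => hx (Subtype.ext (Subtype.ext e)), fun e => hy.1 (Subtype.ext (Subtype.ext e)),
      fun e => hy.2 (Subtype.ext (Subtype.ext e.symm))⟩
  have hidx : f.range.index ≤ 2 := by
    have h1 := f.range.card_mul_index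
    have h2 := f.ker.card_mul_index
    rw [index_ker] at h2
    have h3 : f.range.index = Nat.card f.ker := by
      have hpos : 0 < Nat.card f.range := Nat.card_pos
      exact Nat.eq_of_mul_eq_mul_left hpos (h1.trans (h2.symm.trans (mul_comm _ _)))
    omega
  have hcR := d.c_mem
  have hνK : ⁅d.a, ⁅d.a, d.b⁆⁆ ∈ derK G := by
    rw [← commutatorElement_inv]; exact inv_mem (comm_mem_derK hcR d.a)
  have hcn : (⟨_, hcR⟩ : commutator G) ∉ f.range := fun h => d.comm (r2_le_derK (hrange hcR h))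
  have hνn : (⟨_, derK_le hνK⟩ : commutator G) ∉ f.range :=
    fun h => F.nu_notMem (hrange (derK_le hνK) h)
  rcases (show f.range.index = 1 ∨ f.range.index = 2 by
    have := Nat.pos_of_ne_zero (Subgroup.index_ne_zero_of_finite (H := f.range)); omega) with h | h
  · rw [index_eq_one] at h; exact hcn (h ▸ mem_top _)
  · have h' := (mul_mem_iff_of_index_two h).2 (iff_of_false hcn hνn)
    refine d.comm ?_
    have h1 := mul_mem (r2_le_derK (hrange (mul_mem hcR (derK_le hνK)) h')) (inv_mem hνK)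
    rwa [mul_inv_cancel_right] at h1

/-- `a` acts on the involutions of `G'` with square one. -/
theorem conj_conj_invol (d : Gens G) {s : G} (hs : s ∈ commutator G) (hs2 : s * s = 1) :
    Commute (d.a * d.a) s ∧ ⁅d.a, ⁅d.a, s⁆⁆ = 1 := by
  haveI : Fact (Nat.Prime 2) := ⟨Nat.prime_two⟩
  set s₂ := d.a * s * d.a⁻¹ with h₂
  set s₃ := d.a * s₂ * d.a⁻¹ with h₃
  have hn : ∀ {t}, t ∈ commutator G → d.a * t * d.a⁻¹ ∈ commutator G :=
    fun ht => (inferInstance : (commutator G).Normal).conj_mem _ ht _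
  have m₂ : s₂ ∈ commutator G := hn hs
  have m₃ : s₃ ∈ commutator G := hn m₂
  have hsq₂ : s₂ * s₂ = 1 := by
    rw [h₂, show d.a * s * d.a⁻¹ * (d.a * s * d.a⁻¹) = d.a * (s * s) * d.a⁻¹ by group, hs2]; group
  have hsq₃ : s₃ * s₃ = 1 := by
    rw [h₃, show d.a * s₂ * d.a⁻¹ * (d.a * s₂ * d.a⁻¹) = d.a * (s₂ * s₂) * d.a⁻¹ by group, hsq₂]
    group
  have h33 : s₃ = s := by
    by_cases h12 : s₂ = s
    · rw [h₃, h12, ← h₂, h12]
    by_cases hs1 : s = 1
    · rw [h₃, h₂, hs1]; group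
    have hS := fun {t} (ht : t ∈ commutator G) => commutator_le_sqSub (G := G) ht
    rcases H.involution_cover (hS hs) (hS m₂) (hS m₃) (H.comm hs m₂)
      (H.comm hs m₃) (H.comm m₂ m₃) hs2 hsq₂ hsq₃ hs1
      (fun e => hs1 (by rw [show s = d.a⁻¹ * s₂ * d.a by rw [h₂]; group, e]; group)) (Ne.symm h12)
      with e | e | e | e
    · refine absurd ?_ hs1
      rw [show s = d.a⁻¹ * (d.a⁻¹ * s₃ * d.a) * d.a by rw [h₃, h₂]; group, e]; group
    · exact e
    · refine absurd ?_ h12
      rw [show s₂ = d.a⁻¹ * s₃ * d.a by rw [h₃]; group, e, h₂]; group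
    · exfalso
      apply h12
      have h4 : d.a * s₃ * d.a⁻¹ = s := by
        rw [e, show d.a * (s * s₂) * d.a⁻¹ = s₂ * s₃ by rw [h₃, h₂]; group, e,
          (H.comm hs m₂).eq, ← mul_assoc, hsq₂, one_mul]
      have h5 : Commute (d.a ^ (3 : ℤ)) s := by
        show _ = _
        conv_rhs => rw [show s = d.a * (d.a * (d.a * s * d.a⁻¹) * d.a⁻¹) * d.a⁻¹ from h4.symm]
        rw [show (3 : ℤ) = ((3 : ℕ) : ℤ) from rfl, zpow_natCast, pow_succ, pow_succ, pow_one]
        group
      obtain ⟨k, hk⟩ := mem_zpowers_iff.1 (CfsgLib.Invol.MetaTwo.odd_zpow_mem H.pgroup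
        (a := d.a) (i := 3) ⟨1, by norm_num⟩)
      have h6 : Commute d.a s := hk ▸ h5.zpow_left k
      rw [h₂, h6.eq, mul_inv_cancel_right]
  refine ⟨?_, ?_⟩
  · show _ = _
    conv_rhs => rw [← h33, h₃, h₂]
    group
  · have e : ⁅d.a, s⁆ = s₂ * s := by
      rw [commutatorElement_def, inv_eq_of_mul_eq_one_right hs2]
    rw [e, commutatorElement_def, show d.a * (s₂ * s) * d.a⁻¹ = s₃ * s₂ by rw [h₃, h₂]; group, h33,
      ← (H.comm m₂ hs).eq, mul_inv_cancel]

/-- `G'` is a four group, or its involutions lie in `derK`. -/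
theorem invol_cases (d : Gens G) : (∀ s ∈ commutator G, s * s = 1) ∨
    ∀ s ∈ commutator G, s * s = 1 → s ∈ derK G := by
  by_contra hne
  simp only [not_or, not_forall, exists_prop] at hne
  obtain ⟨⟨t, ht, ht2⟩, s, hs, hs2, hsK⟩ := hne
  refine ht2 ?_
  let S : Subgroup G :=
    { carrier := {x | x ∈ commutator G ∧ x * x = 1}
      one_mem' := ⟨one_mem _, one_mul 1⟩
      mul_mem' := fun {x y} hx hy => ⟨mul_mem hx.1 hy.1, by
        rw [show x * y * (x * y) = x * (y * x) * y by group, (H.comm hy.1 hx.1).eq,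
          show x * (x * y) * y = x * x * (y * y) by group, hx.2, hy.2, one_mul]⟩
      inv_mem' := fun {x} hx => ⟨inv_mem hx.1, by rw [← mul_inv_rev, hx.2, inv_one]⟩ }
  have hconj : d.a * s * d.a⁻¹ ∈ S := ⟨(inferInstance : (commutator G).Normal).conj_mem s hs _, by
    rw [show d.a * s * d.a⁻¹ * (d.a * s * d.a⁻¹) = d.a * (s * s) * d.a⁻¹ by group, hs2]; group⟩
  exact (d.R_le_of_mem H hnc (S := S) (fun x hx => hx.1) hs hsK ⟨hs, hs2⟩
    (by rw [commutatorElement_def]; exact mul_mem hconj (inv_mem (⟨hs, hs2⟩ : s ∈ S))) ht).2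

omit H hnc in
theorem mul_conj_mem {b s : G} (hs : s ∈ commutator G) : b * s * b⁻¹ * s ∈ commutator G :=
  mul_mem ((inferInstance : (commutator G).Normal).conj_mem s hs b) hs

variable (d : Gens G) (hz : d.b * d.b * (d.b * d.b) = 1)

/-- `b c b⁻¹ c` is a square of an element of `derK`. -/
theorem q_c : ∃ y ∈ derK G, d.b * ⁅d.a, d.b⁆ * d.b⁻¹ * ⁅d.a, d.b⁆ = y * y := by
  obtain ⟨t, ht, hte⟩ := comm_a_derK H hnc d d.sq
  refine ⟨⁅d.a, t⁆, ?_, ?_⟩
  · rw [← commutatorElement_inv]; exact inv_mem (comm_mem_derK ht d.a)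
  · rw [(H.comm ((inferInstance : (commutator G).Normal).conj_mem _ d.c_mem d.b) d.c_mem).eq, ← hte]
    simp only [commutatorElement_def]; group

include hz

/-- `b` inverts `derK`. -/
theorem conj_derK {k : G} (hk : k ∈ derK G) : d.b * k * d.b⁻¹ = k⁻¹ := by
  have F := H.facts hnc d
  set c := ⁅d.a, d.b⁆ with hc
  set ν := ⁅d.a, c⁆ with hν
  set q := fun s : G => d.b * s * d.b⁻¹ * s with hq
  have hcR := d.c_mem
  have hνR : ν ∈ commutator G := commutator_mem_commutator (mem_top _) (mem_top _)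
  have hqm : ∀ {s}, s ∈ commutator G → q s ∈ commutator G := fun hs => mul_conj_mem hs
  have hmul : ∀ {s t}, s ∈ commutator G → t ∈ commutator G → q (s * t) = q s * q t := by
    intro s t hs ht
    have hbt := (inferInstance : (commutator G).Normal).conj_mem t ht d.b
    show d.b * (s * t) * d.b⁻¹ * (s * t) = d.b * s * d.b⁻¹ * s * (d.b * t * d.b⁻¹ * t)
    calc d.b * (s * t) * d.b⁻¹ * (s * t)
        = d.b * s * d.b⁻¹ * (d.b * t * d.b⁻¹ * s) * t := by group
      _ = _ := by rw [(H.comm hbt hs).eq]; group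
  have hqc : q c = ⁅d.a, d.b * d.b⁆ := by
    show d.b * c * d.b⁻¹ * c = _
    rw [(H.comm ((inferInstance : (commutator G).Normal).conj_mem c hcR d.b) hcR).eq, hc]
    simp only [commutatorElement_def]; group
  have hqν : q ν = 1 := by
    have hconjq : ∀ {s}, s ∈ commutator G → q (d.a * s * d.a⁻¹) = d.a * q s * d.a⁻¹ := by
      intro s hs
      show d.b * (d.a * s * d.a⁻¹) * d.b⁻¹ * (d.a * s * d.a⁻¹) = d.a * (d.b * s * d.b⁻¹ * s) * d.a⁻¹
      have hbs := (inferInstance : (commutator G).Normal).conj_mem s hs d.b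
      have habs := (inferInstance : (commutator G).Normal).conj_mem _ hbs d.a
      have h1 : ⁅d.b, d.a⁆ ∈ commutator G := commutator_mem_commutator (mem_top _) (mem_top _)
      calc d.b * (d.a * s * d.a⁻¹) * d.b⁻¹ * (d.a * s * d.a⁻¹)
          = ⁅d.b, d.a⁆ * (d.a * (d.b * s * d.b⁻¹) * d.a⁻¹) * ⁅d.b, d.a⁆⁻¹ *
              (d.a * s * d.a⁻¹) := by simp only [commutatorElement_def]; group
        _ = _ := by rw [(H.comm h1 habs).eq, mul_inv_cancel_right]; group
    have hν' : ν = d.a * c * d.a⁻¹ * c⁻¹ := rfl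
    have hci : q c⁻¹ = (q c)⁻¹ := eq_inv_of_mul_eq_one_left (by
      rw [← hmul (inv_mem hcR) hcR, inv_mul_cancel]
      show d.b * 1 * d.b⁻¹ * 1 = 1
      group)
    rw [hν', hmul ((inferInstance : (commutator G).Normal).conj_mem c hcR d.a) (inv_mem hcR),
      hconjq hcR, hci, hqc]
    exact (conj_conj_invol H hnc d (derK_le d.sq) hz).2
  let S : Subgroup G :=
    { carrier := {s | s ∈ commutator G ∧ q s * q s = 1}
      one_mem' := ⟨one_mem _, by show d.b * 1 * d.b⁻¹ * 1 * (d.b * 1 * d.b⁻¹ * 1) = 1; group⟩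
      mul_mem' := fun {x y} hx hy => ⟨mul_mem hx.1 hy.1, by
        rw [hmul hx.1 hy.1, show q x * q y * (q x * q y) = q x * (q y * q x) * q y by group,
          (H.comm (hqm hy.1) (hqm hx.1)).eq,
          show q x * (q x * q y) * q y = q x * q x * (q y * q y) by group, hx.2, hy.2, one_mul]⟩
      inv_mem' := fun {x} hx => ⟨inv_mem hx.1, by
        have e : q x⁻¹ = (q x)⁻¹ := eq_inv_of_mul_eq_one_left (by
          rw [← hmul (inv_mem hx.1) hx.1, inv_mul_cancel]
          show d.b * 1 * d.b⁻¹ * 1 = 1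
          group)
        rw [e, ← mul_inv_rev, hx.2, inv_one]⟩ }
  have hsq : d.b * d.b ∈ commutator G := derK_le d.sq
  have hcS : c ∈ S := ⟨hcR, by
    rw [hqc, commutatorElement_def, inv_eq_of_mul_eq_one_right hz]
    have h1 := (inferInstance : (commutator G).Normal).conj_mem _ hsq d.a
    calc d.a * (d.b * d.b) * d.a⁻¹ * (d.b * d.b) * (d.a * (d.b * d.b) * d.a⁻¹ * (d.b * d.b))
        = d.a * (d.b * d.b) * d.a⁻¹ * ((d.b * d.b) * (d.a * (d.b * d.b) * d.a⁻¹)) *
            (d.b * d.b) := by group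
      _ = d.a * ((d.b * d.b) * (d.b * d.b)) * d.a⁻¹ * ((d.b * d.b) * (d.b * d.b)) := by
          rw [(H.comm hsq h1).eq]; group
      _ = 1 := by rw [hz]; group⟩
  have hSR : commutator G ≤ S := d.R_le_of_mem H hnc (fun x hx => hx.1) hcR d.comm hcS
    ⟨hνR, by rw [hqν, one_mul]⟩
  have hq2 : ∀ m ∈ r2 G, q m = 1 := fun m hm => by
    obtain ⟨t, ht, rfl⟩ := H.mem_r2 hm
    rw [hmul ht ht]; exact (hSR ht).2
  have hq1 : q k = 1 := by
    rcases F.derK_cases k hk with h | h
    · exact hq2 k h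
    · have h1 := hq2 _ h
      rwa [hmul (derK_le hk) hνR, hqν, mul_one] at h1
  exact eq_inv_of_mul_eq_one_left hq1

/-- `b` centralizes the involutions of `G'`. -/
theorem b_comm_invol {s : G} (hs : s ∈ commutator G) (hs2 : s * s = 1) : Commute d.b s := by
  have hinv : ∀ k ∈ derK G, k * k = 1 → Commute d.b k := fun k hk hk2 => by
    have h := conj_derK H hnc d hz hk
    rw [inv_eq_of_mul_eq_one_right hk2] at h
    show _ = _
    conv_rhs => rw [← h]
    group
  rcases invol_cases H hnc d with hall | hK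
  swap
  · exact hinv s (hK s hs hs2) hs2
  obtain ⟨y, hy, hye⟩ := q_c H hnc d
  rw [hall y (derK_le hy), mul_eq_one_iff_eq_inv,
    inv_eq_of_mul_eq_one_right (hall _ d.c_mem)] at hye
  have hbc : Commute d.b ⁅d.a, d.b⁆ := by
    show _ = _
    conv_rhs => rw [← hye]
    group
  let S : Subgroup G := (centralizer ({d.b} : Set G)) ⊓ commutator G
  have hS : commutator G ≤ S := d.R_le_of_mem H hnc (inf_le_right) d.c_mem d.comm
    (mem_inf.2 ⟨mem_centralizer_singleton_iff.2 hbc.eq.symm, d.c_mem⟩) (by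
      have hν : ⁅d.a, ⁅d.a, d.b⁆⁆ ∈ derK G := by
        rw [← commutatorElement_inv]; exact inv_mem (comm_mem_derK d.c_mem d.a)
      exact mem_inf.2 ⟨mem_centralizer_singleton_iff.2
        (hinv _ hν (hall _ (derK_le hν))).eq.symm, derK_le hν⟩)
  exact (mem_centralizer_singleton_iff.1 (mem_inf.1 (hS hs)).1).symm

/-- The elements outside the cosets of `a` centralize the involutions of `G'`. -/
theorem comm_invol {i j : ℤ} (hi : Even i) {t : G} (ht : t ∈ commutator G) {s : G}
    (hs : s ∈ commutator G) (hs2 : s * s = 1) : Commute (d.a ^ i * d.b ^ j * t) s := by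
  obtain ⟨n, rfl⟩ := hi
  refine ((Commute.mul_left ?_ ((b_comm_invol H hnc d hz hs hs2).zpow_left j)).mul_left
    (H.comm ht hs))
  rw [zpow_add, ← (Commute.refl d.a).mul_zpow]
  exact (conj_conj_invol H hnc d hs hs2).1.zpow_left n

/-- The centralizer of `b` in `G'`. -/
theorem cent_b {s : G} (hs : s ∈ commutator G) (hbs : Commute d.b s) : s * s = 1 := by
  have hconj : d.b * s * d.b⁻¹ = s := by rw [hbs.eq, mul_inv_cancel_right]
  rcases d.mem_derK_or hs with hk | hk
  · have h := conj_derK H hnc d hz hk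
    rw [hconj] at h
    nth_rewrite 2 [h]
    exact mul_inv_cancel s
  rcases invol_cases H hnc d with hall | hK
  · exact hall s hs
  exfalso
  obtain ⟨y, hy, hye⟩ := q_c H hnc d
  set c := ⁅d.a, d.b⁆
  have hkR := derK_le hk
  have hss : s * s = y * y := by
    have h := conj_derK H hnc d hz hk
    calc s * s = d.b * s * d.b⁻¹ * s := by rw [hconj]
      _ = d.b * c * d.b⁻¹ * ((d.b * (c⁻¹ * s) * d.b⁻¹) * c) * (c⁻¹ * s) := by group
      _ = d.b * c * d.b⁻¹ * (c * (c⁻¹ * s)⁻¹) * (c⁻¹ * s) := by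
        rw [h, (H.comm (inv_mem hkR) d.c_mem).eq]
      _ = _ := by rw [← hye]; group
  have hsy : (s * y⁻¹) * (s * y⁻¹) = 1 := by
    rw [show s * y⁻¹ * (s * y⁻¹) = s * (y⁻¹ * s) * y⁻¹ by group,
      (H.comm (inv_mem (derK_le hy)) hs).eq,
      show s * (s * y⁻¹) * y⁻¹ = s * s * (y * y)⁻¹ by group, hss, mul_inv_cancel]
  have hsK : s ∈ derK G := by
    simpa using mul_mem (hK _ (mul_mem hs (inv_mem (derK_le hy))) hsy) hy
  refine d.comm ?_
  simpa using mul_mem hsK (inv_mem hk)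

/-- Commutators with `b`. -/
theorem exists_delta (hall : ¬ ∀ s ∈ commutator G, s * s = 1) {w : G} (hw : w ∈ commutator G)
    (hw2 : w * w = 1) : ∃ g ∈ sqSub G, ⁅g, d.b⁆ = w := by
  have F := H.facts hnc d
  set c := ⁅d.a, d.b⁆ with hc
  set ν := ⁅d.a, c⁆ with hν
  obtain ⟨y, hy, hye⟩ := q_c H hnc d
  have hcR := d.c_mem
  have hδ : ∀ {s}, s ∈ commutator G → ⁅s, d.b⁆ = s * s * (d.b * s * d.b⁻¹ * s)⁻¹ := fun _ => by
    simp only [commutatorElement_def]; group
  have key : ∀ m ∈ r2 G, ∃ s ∈ commutator G, ⁅s, d.b⁆ = m := by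
    intro m hm
    obtain ⟨t, ht, rfl⟩ := H.mem_r2 hm
    rcases d.mem_derK_or ht with hk | hk
    · exact ⟨t, ht, by rw [hδ ht, conj_derK H hnc d hz hk]; group⟩
    · refine ⟨t * y, mul_mem ht (derK_le hy), ?_⟩
      have hkR := derK_le hk
      have h := conj_derK H hnc d hz hk
      have hyy := conj_derK H hnc d hz hy
      have hq : d.b * (t * y) * d.b⁻¹ * (t * y) = y * y := by
        calc d.b * (t * y) * d.b⁻¹ * (t * y)
            = d.b * c * d.b⁻¹ * ((d.b * (c⁻¹ * t) * d.b⁻¹) * ((d.b * y * d.b⁻¹) * c)) *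
                ((c⁻¹ * t) * y) := by group
          _ = d.b * c * d.b⁻¹ * (c * ((c⁻¹ * t)⁻¹ * y⁻¹)) * ((c⁻¹ * t) * y) := by
            rw [h, hyy, ← mul_assoc (c⁻¹ * t)⁻¹,
              (H.comm (mul_mem (inv_mem hkR) (inv_mem (derK_le hy))) hcR).eq]
          _ = d.b * c * d.b⁻¹ * c := by
            rw [show (c⁻¹ * t) * y = y * (c⁻¹ * t) from (H.comm hkR (derK_le hy)).eq]
            group
          _ = _ := hye
      rw [hδ (mul_mem ht (derK_le hy)), hq,
        show t * y * (t * y) = t * (y * t) * y by group, (H.comm (derK_le hy) ht).eq]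
      group
  have hRS : commutator G ≤ sqSub G := commutator_le_sqSub
  rcases F.derK_cases w (((invol_cases H hnc d).resolve_left hall) w hw hw2) with h | h
  · obtain ⟨s, hs, hse⟩ := key w h
    exact ⟨s, hRS hs, hse⟩
  · have h2 : ⁅d.a * d.a, d.b⁆ = ν * (c * c) := by
      rw [hν, hc]; simp only [commutatorElement_def]; group
    have ht : w * ⁅d.a * d.a, d.b⁆⁻¹ ∈ r2 G := by
      rw [h2, show w * (ν * (c * c))⁻¹ = w * (c * c)⁻¹ * w⁻¹ * (w * ν * (ν * ν)⁻¹) by group]
      exact mul_mem (r2_normal.conj_mem _ (inv_mem (sq_mem_r2 hcR)) w)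
        (mul_mem h (inv_mem (sq_mem_r2 (commutator_mem_commutator (mem_top _) (mem_top _)))))
    obtain ⟨s, hs, hse⟩ := key _ (r2_normal.conj_mem _ ht (d.a * d.a)⁻¹)
    refine ⟨d.a * d.a * s, mul_mem (sq_mem _) (hRS hs), ?_⟩
    calc ⁅d.a * d.a * s, d.b⁆
        = d.a * d.a * ⁅s, d.b⁆ * (d.a * d.a)⁻¹ * ⁅d.a * d.a, d.b⁆ := by
          simp only [commutatorElement_def]; group
      _ = _ := by rw [hse]; group

omit hz in
/-- The commutator of `a²` with `b` when `G'` is a four group. -/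
theorem delta_four (hall : ∀ s ∈ commutator G, s * s = 1) :
    ⁅d.a * d.a, d.b⁆ = d.a ^ 2 ^ d.r ∧ d.a ^ 2 ^ d.r ≠ 1 := by
  have F := H.facts hnc d
  have hr2 : r2 G ≤ ⊥ := (closure_le _).2 fun x ⟨s, hs, he⟩ => by
    rw [SetLike.mem_coe, mem_bot, he]; exact hall s hs
  have h1 := mem_bot.1 (hr2 F.pow_nu)
  rw [mul_eq_one_iff_eq_inv, inv_eq_of_mul_eq_one_right
    (hall _ (commutator_mem_commutator (mem_top _) (mem_top _)))] at h1
  refine ⟨?_, fun e => F.pow_notMem (e ▸ one_mem _)⟩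
  rw [h1, show ⁅d.a * d.a, d.b⁆ = ⁅d.a, ⁅d.a, d.b⁆⁆ * (⁅d.a, d.b⁆ * ⁅d.a, d.b⁆) by
    simp only [commutatorElement_def]; group, hall _ d.c_mem, mul_one]

omit hz in
/-- An involution `b` inverts `G'`. -/
theorem inverts (hb : d.b * d.b = 1) {s : G} (hs : s ∈ commutator G) :
    d.b * s * d.b⁻¹ = s⁻¹ := by
  have hz' : d.b * d.b * (d.b * d.b) = 1 := by rw [hb, one_mul]
  let S : Subgroup G :=
    { carrier := {x | x ∈ commutator G ∧ d.b * x * d.b⁻¹ = x⁻¹}
      one_mem' := ⟨one_mem _, by group⟩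
      mul_mem' := fun {x y} hx hy => ⟨mul_mem hx.1 hy.1, by
        rw [show d.b * (x * y) * d.b⁻¹ = (d.b * x * d.b⁻¹) * (d.b * y * d.b⁻¹) by group, hx.2, hy.2,
          mul_inv_rev, (H.comm (inv_mem hx.1) (inv_mem hy.1)).eq]⟩
      inv_mem' := fun {x} hx => ⟨inv_mem hx.1, by
        rw [show d.b * x⁻¹ * d.b⁻¹ = (d.b * x * d.b⁻¹)⁻¹ by group, hx.2]⟩ }
  have hν : ⁅d.a, ⁅d.a, d.b⁆⁆ ∈ derK G := by
    rw [← commutatorElement_inv]; exact inv_mem (comm_mem_derK d.c_mem d.a)
  have hc : d.b * ⁅d.a, d.b⁆ * d.b⁻¹ = ⁅d.a, d.b⁆⁻¹ := eq_inv_of_mul_eq_one_left (by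
    rw [(H.comm ((inferInstance : (commutator G).Normal).conj_mem _ d.c_mem d.b) d.c_mem).eq]
    calc _ = d.a * (d.b * d.b) * d.a⁻¹ * (d.b * d.b)⁻¹ := by
          simp only [commutatorElement_def]; group
      _ = 1 := by rw [hb]; group)
  exact ((d.R_le_of_mem H hnc (S := S) (fun x hx => hx.1) d.c_mem d.comm ⟨d.c_mem, hc⟩
    ⟨derK_le hν, conj_derK H hnc d hz' hν⟩) hs).2

omit hz in
/-- An element of order dividing four lies outside the cosets of `a`. -/
theorem even_of_pow_four {i j : ℤ} {t : G} (ht : t ∈ commutator G)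
    (hg : (d.a ^ i * d.b ^ j * t) ^ 4 = 1) : Even i := by
  by_contra hi
  rw [Int.not_even_iff_odd] at hi
  set g := d.a ^ i * d.b ^ j * t with hgdef
  have hgen : closure ({g, d.b} : Set G) = ⊤ := by
    haveI : Fact (Nat.Prime 2) := ⟨Nat.prime_two⟩
    refine frattini_nongenerating (eq_top_iff.2 (d.gen.ge.trans ((closure_le _).2 ?_)))
    rintro z (rfl | rfl)
    · have h1 : d.a ^ i ∈ closure ({g, d.b} : Set G) ⊔ frattini G := by
        have h2 := mul_mem (mul_mem (mem_sup_left (T := frattini G)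
          (subset_closure (Set.mem_insert g ({d.b} : Set G))))
          (inv_mem (mem_sup_right (CfsgLib.Coprime.commutator_le_frattini H.pgroup ht))))
          (inv_mem (zpow_mem (mem_sup_left (subset_closure (Set.mem_insert_of_mem g
            (Set.mem_singleton d.b)))) j))
        rwa [hgdef, mul_inv_cancel_right, mul_inv_cancel_right] at h2
      exact zpowers_le.2 h1 (CfsgLib.Invol.MetaTwo.odd_zpow_mem H.pgroup hi)
    · exact mem_sup_left (subset_closure (Set.mem_insert_of_mem g (Set.mem_singleton _)))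
  obtain ⟨d', ha', -⟩ := exists_gens_of_pair H.pgroup H.notMeta hgen d.sq
  refine (H.facts hnc d').pow_notMem ?_
  obtain ⟨m, hm⟩ : 4 ∣ 2 ^ d'.r := (pow_dvd_pow 2 d'.two_le : 2 ^ 2 ∣ 2 ^ d'.r)
  rw [ha', hm, pow_mul, hg, one_pow]
  exact one_mem _

omit hnc hz in
/-- A new second generator. -/
theorem exists_rebase {i j : ℤ} (hi : Even i) (hj : Odd j) {t : G} (ht : t ∈ commutator G)
    (hx : (d.a ^ i * d.b ^ j * t) * (d.a ^ i * d.b ^ j * t) ∈ commutator G) :
    ∃ d' : Gens G, d'.a = d.a ∧ d'.b = d.a ^ i * d.b ^ j * t := by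
  haveI : Fact (Nat.Prime 2) := ⟨Nat.prime_two⟩
  set x := d.a ^ i * d.b ^ j * t with hxdef
  have hgen : closure ({d.a, x} : Set G) = ⊤ := by
    refine frattini_nongenerating (eq_top_iff.2 (d.gen.ge.trans ((closure_le _).2 ?_)))
    rintro z (rfl | rfl)
    · exact mem_sup_left (subset_closure (Set.mem_insert _ _))
    · have h1 : d.b ^ j ∈ closure ({d.a, x} : Set G) ⊔ frattini G := by
        have h2 := mul_mem (inv_mem (zpow_mem (mem_sup_left (T := frattini G)
          (subset_closure (Set.mem_insert d.a ({x} : Set G)))) i))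
          (mul_mem (mem_sup_left (subset_closure (Set.mem_insert_of_mem d.a
            (Set.mem_singleton x)))) (inv_mem (mem_sup_right
              (CfsgLib.Coprime.commutator_le_frattini H.pgroup ht))))
        rwa [hxdef, mul_inv_cancel_right, inv_mul_cancel_left] at h2
      exact zpowers_le.2 h1 (CfsgLib.Invol.MetaTwo.odd_zpow_mem H.pgroup hj)
  refine exists_gens_of_pair H.pgroup H.notMeta hgen ?_
  set π := QuotientGroup.mk' (derK G) with hπ
  have hπ1 : ∀ z, z ∈ derK G → π z = 1 := fun z hz => (QuotientGroup.eq_one_iff z).2 hz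
  obtain ⟨n, hn⟩ := hi
  obtain ⟨m, hm⟩ := hj
  have ha : π (d.a ^ (i + i)) = 1 := by
    have hq : Abelianization.of x * Abelianization.of x = 1 := by
      rw [← map_mul, ← MonoidHom.mem_ker, Abelianization.ker_of]; exact hx
    have hbb : Abelianization.of d.b * Abelianization.of d.b = 1 := by
      rw [← map_mul, ← MonoidHom.mem_ker, Abelianization.ker_of]; exact derK_le d.sq
    have h1 : d.a ^ (i + i) * d.b ^ (0 : ℤ) ∈ commutator G := by
      rw [zpow_zero, mul_one, ← Abelianization.ker_of, MonoidHom.mem_ker, map_zpow]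
      simp only [hxdef, map_mul, map_zpow] at hq
      rw [show Abelianization.of t = 1 by
          rw [← MonoidHom.mem_ker, Abelianization.ker_of]; exact ht, mul_one, mul_mul_mul_comm,
        ← mul_zpow (Abelianization.of d.b), hbb, one_zpow, mul_one, ← zpow_add] at hq
      exact hq
    obtain ⟨e, he⟩ := (d.rel _ _ h1).1
    refine hπ1 _ ?_
    rw [he, zpow_mul, show ((2 : ℤ) ^ d.r) = ((2 ^ d.r : ℕ) : ℤ) by push_cast; rfl, zpow_natCast]
    exact zpow_mem d.pow e
  have hbb : π d.b * π d.b = 1 := by rw [← map_mul]; exact hπ1 _ d.sq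
  have hbj : π (d.b ^ j) = π d.b := by
    rw [map_zpow, hm, zpow_add, two_mul, zpow_add, ← (Commute.refl (π d.b)).mul_zpow, hbb,
      one_zpow, one_mul, zpow_one]
  have hzc : ∀ q, Commute (π t) q := mk_comm ht
  have ht2 : π t * π t = 1 := mk_sq ht
  set e := d.a⁻¹ * d.b * d.a * d.b⁻¹ with he
  have heR : e ∈ commutator G := by
    rw [show e = ⁅d.a⁻¹, d.b⁆ by rw [he, commutatorElement_def]; group]
    exact commutator_mem_commutator (mem_top _) (mem_top _)
  have hconj : π d.b * π d.a * (π d.b)⁻¹ = π d.a * π e := by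
    rw [← map_inv, ← map_mul, ← map_mul, ← map_mul]; congr 1; rw [he]; group
  have hba : π d.b * π (d.a ^ i) = π (d.a ^ i) * π d.b := by
    have h := zpow_mul_zpow hconj (mk_comm heR) i 1
    rw [zpow_one, mul_one, hn, zpow_add (π e), ← (Commute.refl (π e)).mul_zpow,
      show π e * π e = 1 from mk_sq heR, one_zpow, mul_one, ← hn] at h
    rw [map_zpow]; exact h
  refine (QuotientGroup.eq_one_iff _).1 ?_
  show π (x * x) = 1
  rw [map_mul, hxdef, map_mul, map_mul, hbj]
  calc π (d.a ^ i) * π d.b * π t * (π (d.a ^ i) * π d.b * π t)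
      = π (d.a ^ i) * π d.b * (π t * (π (d.a ^ i) * π d.b)) * π t := by group
    _ = π (d.a ^ i) * (π d.b * π (d.a ^ i)) * π d.b * (π t * π t) := by
      rw [(hzc (π (d.a ^ i) * π d.b)).eq]; group
    _ = π (d.a ^ (i + i)) * (π d.b * π d.b) := by
      rw [hba, ht2, zpow_add, map_mul]; group
    _ = 1 := by rw [ha, hbb, one_mul]

end CfsgLib.Fusion.Bicyclic
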