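import Cfsg.Agent.Lib.Fusion.System.Bicyclic.Inverted

/-!
# The displacement group is abelian with its involutions in `Φ(G)`
-/

set_option autoImplicit false
set_option maxHeartbeats 1000000
set_option linter.style.haveILetI false
set_option linter.unusedSectionVars false

open Subgroup
open scoped commutatorElement

namespace CfsgLib.Fusion.Bicyclic

universe u

variable {G : Type u} [Group G]

/-- `g` centralizes the involutions of `G'`. -/
def CentInvol (g : G) : Prop := ∀ s ∈ commutator G, s * s = 1 → Commute g s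

/-- The displacements commute and their involutions are in `Φ(G)`. -/
def IsCaseA {P : Subgroup G} (α : MulAut P) : Prop :=
  (∀ p ∈ comDisp α, ∀ q ∈ comDisp α, p * q = q * p) ∧
    ∀ q ∈ comDisp α, q * q = 1 → (q : G) ∈ sqSub G

variable [Finite G] {P : Subgroup G} {t : G} {τ α : MulAut P}

omit [Finite G] in
theorem Inverted.nontrivial (I : Inverted P t τ α) : Nontrivial (comDisp α) := by
  obtain ⟨p, hp⟩ : ∃ p, α p ≠ p := by
    by_contra h
    push Not at h
    exact I.ne (MulEquiv.ext h)
  exact ⟨⟨⟨_, disp_mem α p⟩, 1, fun e => hp (inv_mul_eq_one.1 (congrArg Subtype.val e)).symm⟩⟩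

variable (H : Hyp G)
include H

/-- A fixed displacement is trivial, in the abelian case. -/
theorem Inverted.eq_one_of_fix (I : Inverted P t τ α)
    (hc : ∀ p ∈ comDisp α, ∀ q ∈ comDisp α, p * q = q * p) {x : P} (hx : x ∈ comDisp α)
    (hfix : α x = x) : x = 1 :=
  congrArg Subtype.val (Bicyclic.eq_one_of_fix (x := (⟨x, hx⟩ : comDisp α))
    ((pgroup_sub H P).to_subgroup _) (fun p q => Subtype.ext (hc _ p.2 _ q.2))
    (β := dispAut α I.cube) (by
      refine MulEquiv.ext fun q => Subtype.ext ?_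
      simp only [pow_succ, pow_zero, one_mul, MulAut.mul_apply, MulAut.one_apply, dispAut_apply]
      exact I.apply_three _)
    (comDisp_dispAut (pgroup_sub H P) I.cube) (Subtype.ext hfix))

variable (hne : P ≠ ⊤) (hnc : ¬ IsCyclic (commutator G))
include hne hnc

/-- The involutions of `G'` lie in `Q`, are centralized by `P` and not by `t`. -/
theorem caseA_facts (I : Inverted P t τ α) (hA : IsCaseA α) :
    (∀ s ∈ commutator G, s * s = 1 → ∃ q ∈ comDisp α, (q : G) = s) ∧
    (∀ p ∈ P, CentInvol p) ∧ ¬ CentInvol t := by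
  obtain ⟨hc, hinv⟩ := hA
  set Q := comDisp α
  haveI := I.nontrivial
  have hQ := (pgroup_sub H P).to_subgroup Q
  have hβ3 : dispAut α I.cube ^ 3 = 1 := MulEquiv.ext fun q => Subtype.ext (by
    simp only [pow_succ, pow_zero, one_mul, MulAut.mul_apply, MulAut.one_apply, dispAut_apply]
    exact I.apply_three _)
  have htop := comDisp_dispAut (pgroup_sub H P) I.cube
  have hcQ : ∀ p q : Q, p * q = q * p := fun p q => Subtype.ext (hc _ p.2 _ q.2)
  obtain ⟨⟨y, hyQ⟩, hy2, hy1, hym⟩ := exists_moved_involution hQ hcQ hβ3 htop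
  have hnorm : y * α y * α (α y) = 1 := congrArg Subtype.val (norm_eq_one hcQ hβ3 htop ⟨y, hyQ⟩)
  have hy2' : y * y = 1 := congrArg Subtype.val hy2
  have hy1' : y ≠ 1 := fun e => hy1 (Subtype.ext e)
  have hym' : α y ≠ y := fun e => hym (Subtype.ext e)
  have h2 : ∀ {x : P}, x * x = 1 → (α x) * (α x) = 1 := fun h => by rw [← map_mul, h, map_one]
  have hαy := comDisp_apply_mem α hyQ
  have hsq : ∀ {x : P}, x ∈ Q → x * x = 1 → (x : G) ∈ sqSub G := fun hx h => hinv _ hx h
  have hG2 : ∀ {x : P}, x * x = 1 → (x : G) * x = 1 := fun h => congrArg Subtype.val h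
  have hmemR : ∀ {x : P}, x ∈ Q → x * x = 1 → (x : G) ∈ commutator G := fun hx h =>
    invol_mem H hnc (hsq hx h) (hG2 h)
  have hcover : ∀ s ∈ commutator G, s * s = 1 →
      s = 1 ∨ s = y ∨ s = (α y : P) ∨ s = (y * α y : P) := fun s hs hs2 => by
    rw [Subgroup.coe_mul]
    exact H.involution_cover (commutator_le_sqSub (hmemR hyQ hy2'))
      (commutator_le_sqSub (hmemR hαy (h2 hy2'))) (commutator_le_sqSub hs)
      (H.comm (hmemR hyQ hy2') (hmemR hαy (h2 hy2'))) (H.comm (hmemR hyQ hy2') hs)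
      (H.comm (hmemR hαy (h2 hy2')) hs) (hG2 hy2') (hG2 (h2 hy2')) hs2
      (fun e => hy1' (Subtype.ext e))
      (fun e => hy1' ((map_eq_one_iff _ α.injective).1 (Subtype.ext e)))
      fun e => hym' (Subtype.ext e.symm)
  have hWQ : ∀ s ∈ commutator G, s * s = 1 → ∃ q ∈ Q, (q : G) = s := by
    intro s hs hs2
    rcases hcover s hs hs2 with rfl | rfl | rfl | rfl
    · exact ⟨1, one_mem Q, rfl⟩
    · exact ⟨y, hyQ, rfl⟩
    · exact ⟨α y, hαy, rfl⟩
    · exact ⟨y * α y, mul_mem hyQ hαy, rfl⟩
  -- the elements fixed by `α` centralize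
  obtain ⟨-, f, hf, hfQ⟩ := I.facts H hne
  have hfy : f * y * f⁻¹ = y := by
    set z := f * y * f⁻¹ with hz
    have hzQ : z ∈ Q := (inferInstance : Q.Normal).conj_mem y hyQ f
    have hz2 : z * z = 1 := by
      rw [hz, show f * y * f⁻¹ * (f * y * f⁻¹) = f * (y * y) * f⁻¹ by group, hy2']; group
    have hα2 : α (α y) = y * α y := by
      have h1 := mul_eq_one_iff_inv_eq.1 hnorm
      rw [← h1, inv_eq_of_mul_eq_one_right]
      rw [show y * α y * (y * α y) = y * (α y * y) * α y by group, hc _ hαy _ hyQ,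
        show y * (y * α y) * α y = (y * y) * (α y * α y) by group, hy2', h2 hy2', one_mul]
    have hcubed : ∀ {g : P}, g * y * g⁻¹ = y → g ^ (3 : ℤ) = f ^ (3 : ℤ) → z = y := by
      intro g hg hgf
      have hc3 : Commute (f ^ (3 : ℤ)) y := by
        rw [← hgf]
        exact (show Commute g y from mul_inv_eq_iff_eq_mul.1 hg).zpow_left 3
      obtain ⟨k, hk⟩ := mem_zpowers_iff.1 (CfsgLib.Invol.MetaTwo.odd_zpow_mem (pgroup_sub H P)
        (a := f) (i := 3) ⟨1, by norm_num⟩)
      have : Commute f y := hk ▸ hc3.zpow_left k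
      rw [hz, this.eq, mul_inv_cancel_right]
    have hconjα : ∀ x : P, f * α x * f⁻¹ = α (f * x * f⁻¹) := fun x => by
      rw [map_mul, map_mul, map_inv, hf]
    have hcyc : ∀ w : P, (w = α y ∨ w = α (α y)) → z = w → z = y := by
      intro w hw hzw
      -- `f` acts on the three involutions with order dividing three
      have h3 : f ^ (3 : ℤ) * y * (f ^ (3 : ℤ))⁻¹ = y := by
        have e1 : f ^ (3 : ℤ) * y * (f ^ (3 : ℤ))⁻¹ = f * (f * z * f⁻¹) * f⁻¹ := by
          rw [hz, show (3 : ℤ) = ((3 : ℕ) : ℤ) from rfl, zpow_natCast, pow_succ, pow_succ, pow_one]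
          group
        have hA' : f * α y * f⁻¹ = α z := by rw [hconjα, ← hz]
        have hB : f * α (α y) * f⁻¹ = α (α z) := by rw [hconjα, hA']
        rw [e1, hzw]
        rcases hw with rfl | rfl
        · rw [hA', hzw, hB, hzw, I.apply_three]
        · rw [hB, hzw, I.apply_three, hA', hzw, I.apply_three]
      have hc3 : Commute (f ^ (3 : ℤ)) y := mul_inv_eq_iff_eq_mul.1 h3
      obtain ⟨k, hk⟩ := mem_zpowers_iff.1 (CfsgLib.Invol.MetaTwo.odd_zpow_mem (pgroup_sub H P)
        (a := f) (i := 3) ⟨1, by norm_num⟩)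
      have : Commute f y := hk ▸ hc3.zpow_left k
      rw [hz, this.eq, mul_inv_cancel_right]
    rcases hcover z (hmemR hzQ hz2) (hG2 hz2) with h | h | h | h
    · refine absurd ?_ hy1'
      have hz1 : z = 1 := Subtype.ext h
      rw [show y = f⁻¹ * z * f by rw [hz]; group, hz1]; group
    · exact Subtype.ext h
    · exact hcyc _ (Or.inl rfl) (Subtype.ext h)
    · exact hcyc _ (Or.inr rfl) (by rw [hα2]; exact Subtype.ext h)
  have hfαy : f * α y * f⁻¹ = α y := by
    rw [show f * α y * f⁻¹ = α (f * y * f⁻¹) by rw [map_mul, map_mul, map_inv, hf], hfy]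
  have hPy : ∀ w ∈ Q, f * w * f⁻¹ = w → ∀ p : P, p * w = w * p := by
    intro w hw hfw p
    have hle : (⊤ : Subgroup P) ≤ centralizer ({w} : Set P) := by
      rw [← hfQ]
      exact sup_le (zpowers_le.2 (mem_centralizer_singleton_iff.2 (mul_inv_eq_iff_eq_mul.1 hfw)))
        fun q hq => mem_centralizer_singleton_iff.2 (hc q hq w hw)
    exact mem_centralizer_singleton_iff.1 (hle (mem_top p))
  have hcent : ∀ p ∈ P, CentInvol p := by
    intro p hp s hs hs2
    have e1 : p * (y : G) = y * p := congrArg Subtype.val (hPy y hyQ hfy ⟨p, hp⟩)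
    have e2 : p * ((α y : P) : G) = (α y : P) * p :=
      congrArg Subtype.val (hPy _ hαy hfαy ⟨p, hp⟩)
    rcases hcover s hs hs2 with rfl | rfl | rfl | rfl
    · exact Commute.one_right p
    · exact e1
    · exact e2
    · rw [Subgroup.coe_mul]; exact (show Commute p (y : G) from e1).mul_right e2
  refine ⟨hWQ, hcent, fun ht => hym' ?_⟩
  have htfix : ∀ {x : P}, x ∈ Q → x * x = 1 → x⁻¹ * τ x ∈ (⊥ : Subgroup P) := fun {x} hx h => by
    rw [mem_bot, inv_mul_eq_one]
    refine Subtype.ext ?_
    rw [I.apply, (ht _ (hmemR hx h) (hG2 h)).eq, mul_inv_cancel_right]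
  have hτy : τ y = y := (inv_mul_eq_one.1 (mem_bot.1 (htfix hyQ hy2'))).symm
  have := I.trivial_of_fix (N := ⊥) (by simp) (htfix hyQ hy2') (htfix hαy (h2 hy2')) fun u => by
    rw [hτy, mem_bot, mul_inv_eq_one, mul_inv_eq_iff_eq_mul]
    exact Subtype.ext ((hcent _ u.2 _ (hmemR (comDisp_apply_mem α hαy) (h2 (h2 hy2')))
      (hG2 (h2 (h2 hy2')))).eq)
  exact (inv_mul_eq_one.1 (mem_bot.1 this)).symm

/-- The abelian case with `P` the centralizer of the involutions of `G'`. -/
theorem caseA_false (I : Inverted P t τ α) (hA : IsCaseA α) (hK : ∀ g, CentInvol g → g ∈ P) :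
    False := by
  haveI : Fact (Nat.Prime 2) := ⟨Nat.prime_two⟩
  obtain ⟨hWQ, hcent, htW⟩ := caseA_facts H hne hnc I hA
  set Q := comDisp α
  have hsqP : sqSub G ≤ P := fun g hg => hK g fun s hs hs2 => comm_sqSub_invol H hnc hg hs hs2
  -- the two cosets
  obtain ⟨z, hzR, hzo, hzC⟩ := CfsgLib.Invol.exists_fixed_of_normalized (p := 2)
    (P := (⊤ : Subgroup G)) (H.pgroup.to_subgroup ⊤) (H.pgroup.to_subgroup (commutator G))
    (fun h => hnc (by rw [h]; infer_instance))
    (le_of_le_of_eq le_top (normalizer_eq_top_iff.2 inferInstance).symm)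
  have hzc : ∀ g : G, Commute g z := fun g => mem_centralizer_singleton_iff.1 (hzC (mem_top g))
  have hz2 : z * z = 1 := by rw [← pow_two, ← hzo, pow_orderOf_eq_one]
  have hz1 : z ≠ 1 := fun h => by rw [h, orderOf_one] at hzo; omega
  have hmove : ∀ g : G, g ∉ P → ∀ s ∈ commutator G, s * s = 1 → s ≠ 1 → s ≠ z →
      g * s * g⁻¹ = s * z := by
    intro g hg s hs hs2 hs1 hsz
    have hgs := (inferInstance : (commutator G).Normal).conj_mem s hs g
    have hgs2 : g * s * g⁻¹ * (g * s * g⁻¹) = 1 := by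
      rw [show g * s * g⁻¹ * (g * s * g⁻¹) = g * (s * s) * g⁻¹ by group, hs2]; group
    have hS := fun {w} (hw : w ∈ commutator G) => commutator_le_sqSub (G := G) hw
    rcases H.involution_cover (hS hs) (hS hzR) (hS hgs) (H.comm hs hzR) (H.comm hs hgs)
      (H.comm hzR hgs) hs2 hz2 hgs2 hs1 hz1 hsz with h | h | h | h
    · exact absurd (by rw [show s = g⁻¹ * (g * s * g⁻¹) * g by group, h]; group) hs1
    · exfalso
      refine hg (hK g fun w hw hw2 => ?_)
      have hgs' : Commute g s := mul_inv_eq_iff_eq_mul.1 h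
      rcases H.involution_cover (hS hs) (hS hzR) (hS hw) (H.comm hs hzR) (H.comm hs hw)
        (H.comm hzR hw) hs2 hz2 hw2 hs1 hz1 hsz with e | e | e | e <;> rw [e]
      · exact Commute.one_right g
      · exact hgs'
      · exact hzc g
      · exact hgs'.mul_right (hzc g)
    · exact absurd (by
        rw [show s = g⁻¹ * (g * s * g⁻¹) * g by group, h, (hzc g⁻¹).eq, inv_mul_cancel_right]) hsz
    · exact h
  have hcos : ∀ g : G, g ∈ P ∨ t⁻¹ * g ∈ P := by
    intro g
    by_cases hg : g ∈ P
    · exact Or.inl hg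
    refine Or.inr (hK _ fun s hs hs2 => ?_)
    by_cases h1 : s = 1
    · rw [h1]; exact Commute.one_right _
    by_cases h2 : s = z
    · rw [h2]; exact hzc _
    refine mul_inv_eq_iff_eq_mul.1 ?_
    rw [show t⁻¹ * g * s * (t⁻¹ * g)⁻¹ = t⁻¹ * (g * s * g⁻¹) * t by group,
      hmove g hg s hs hs2 h1 h2, ← hmove t I.notMem s hs hs2 h1 h2]
    group
  -- squares are fixed modulo the Frattini subgroup
  have hP := pgroup_sub H P
  have hτΦ : ∀ {x : P}, x ∈ frattini P → τ x ∈ frattini P := fun {x} hx =>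
    (Subgroup.characteristic_iff_map_eq.1 inferInstance τ).le ⟨x, hx, rfl⟩
  set π := QuotientGroup.mk' (frattini P)
  have hfixsq : ∀ g ∈ sqSub G, ∀ x : P, (x : G) = g → π (τ x) = π x := by
    intro g hg
    induction hg using closure_induction with
    | mem _ hx =>
      obtain ⟨w, rfl⟩ := hx
      intro x hx
      rcases hcos w with hw | hw
      · obtain rfl : x = ⟨w, hw⟩ * ⟨w, hw⟩ := Subtype.ext hx
        have hm : (⟨w, hw⟩ * ⟨w, hw⟩ : P) ∈ frattini P := by
          rw [← sq]; exact CfsgLib.Coprime.pow_mem_frattini hP _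
        exact ((QuotientGroup.eq_one_iff _).2 (hτΦ hm)).trans
          ((QuotientGroup.eq_one_iff _).2 hm).symm
      · set p : P := ⟨t⁻¹ * w, hw⟩
        set T : P := ⟨t * t, I.sq⟩
        obtain rfl : x = τ p * T * p := Subtype.ext (by
          rw [hx, Subgroup.coe_mul, Subgroup.coe_mul, I.apply]
          show w * w = t * (t⁻¹ * w) * t⁻¹ * (t * t) * (t⁻¹ * w)
          group)
        have h2 : τ (τ p) = T * p * T⁻¹ := Subtype.ext (by
          rw [I.apply, I.apply, Subgroup.coe_mul, Subgroup.coe_mul, Subgroup.coe_inv]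
          show t * (t * (p : G) * t⁻¹) * t⁻¹ = t * t * (p : G) * (t * t)⁻¹
          group)
        have ht : τ T = T := Subtype.ext (by
          rw [I.apply]
          show t * (t * t) * t⁻¹ = t * t
          group)
        have hc := frattini_quot_comm hP
        simp only [map_mul, map_inv, h2, ht]
        rw [inv_mul_cancel_right, hc (π T * π p) (π (τ p)), mul_assoc]
    | one =>
      intro x hx
      obtain rfl : x = 1 := Subtype.ext hx
      exact congrArg π (map_one τ)
    | mul y z hy hz ihy ihz =>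
      intro x hx
      obtain rfl : x = ⟨y, hsqP hy⟩ * ⟨z, hsqP hz⟩ := Subtype.ext hx
      rw [map_mul, map_mul, map_mul, ihy _ rfl, ihz _ rfl]
    | inv y hy ih =>
      intro x hx
      obtain rfl : x = (⟨y, hsqP hy⟩ : P)⁻¹ := Subtype.ext hx
      rw [map_inv, map_inv, map_inv, ih _ rfl]
  have hsq : ∀ p : P, π (τ p) = π p → (p : G) ∈ sqSub G := by
    intro p hp
    by_contra hps
    refine I.exists_moved H hne fun q _ => QuotientGroup.eq.1 ?_
    show π q = π (τ q)
    by_cases hqs : (q : G) ∈ sqSub G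
    · exact (hfixsq _ hqs q rfl).symm
    have h1 : ((p⁻¹ * q : P) : G) ∈ sqSub G := inv_mul_mem_sqSub H hne p.2 q.2 hps hqs
    have h2 : π (τ (p⁻¹ * q)) = π (p⁻¹ * q) := hfixsq _ h1 _ rfl
    simp only [map_mul, map_inv, hp] at h2
    exact (mul_left_cancel h2).symm
  -- no fixed points
  obtain ⟨hone, f, hf, hfQ⟩ := I.facts H hne
  have hfs : (f : G) ∈ sqSub G := by
    refine hsq f ?_
    by_cases hfΦ : f ∈ frattini P
    · exact ((QuotientGroup.eq_one_iff _).2 (hτΦ hfΦ)).trans
        ((QuotientGroup.eq_one_iff f).2 hfΦ).symm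
    obtain ⟨u, hu⟩ := I.inv
    have hv : (τ f)⁻¹ * α (τ f) ∈ frattini P := by
      have h := hu f
      rw [hf] at h
      have h1 : π (α (α (τ f))) = π (τ f) := by
        conv_rhs => rw [h, map_mul, map_mul, frattini_quot_comm hP, map_inv, inv_mul_cancel_left]
      have h2 : (α (α (α (τ f))))⁻¹ * α (τ f) ∈ frattini P := by
        rw [← map_inv, ← map_mul]
        exact (Subgroup.characteristic_iff_map_eq.1 inferInstance α).le
          ⟨_, QuotientGroup.eq.1 h1, rfl⟩
      rwa [I.apply_three] at h2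
    refine QuotientGroup.eq.2 ?_
    refine hone (τ f) f hv (by simp [hf]) (fun h => hfΦ ?_) hfΦ
    have := (Subgroup.characteristic_iff_map_eq.1 inferInstance τ.symm).le ⟨_, h, rfl⟩
    simpa using this
  have hf1 : f = 1 := by
    obtain ⟨k, hk⟩ := IsPGroup.iff_orderOf.1 hP f
    rcases k with _ | k
    · rwa [pow_zero, orderOf_eq_one_iff] at hk
    exfalso
    set c := f ^ 2 ^ k with hc
    have hc2 : c * c = 1 := by
      rw [hc, ← pow_add, ← two_mul, ← pow_succ', ← hk, pow_orderOf_eq_one]
    have hcs : (c : G) ∈ sqSub G := by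
      rw [hc, Subgroup.coe_pow]; exact pow_mem hfs _
    obtain ⟨q, hq, hqe⟩ := hWQ _ (invol_mem H hnc hcs (congrArg Subtype.val hc2))
      (congrArg Subtype.val hc2)
    have hcQ : c ∈ Q := Subtype.ext hqe ▸ hq
    have hc1 := I.eq_one_of_fix H hA.1 hcQ (by rw [hc, map_pow, hf])
    have := orderOf_dvd_of_pow_eq_one (hc ▸ hc1 : f ^ 2 ^ k = 1)
    rw [hk] at this
    exact absurd ((Nat.pow_dvd_pow_iff_le_right one_lt_two).1 this) (by omega)
  rw [hf1, zpowers_one_eq_bot, bot_sup_eq] at hfQ
  have hab : ∀ p q : P, p * q = q * p := fun p q =>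
    hA.1 p (hfQ.ge (mem_top p)) q (hfQ.ge (mem_top q))
  haveI : Nontrivial P := by
    obtain ⟨p, hp⟩ : ∃ p, α p ≠ p := by
      by_contra h
      push Not at h
      exact I.ne (MulEquiv.ext h)
    exact ⟨⟨p, α p, hp.symm⟩⟩
  obtain ⟨hidx, -⟩ := index_frattini_four hP I.cube hfQ (index_frattini_sub H hne)
  obtain ⟨q, hq⟩ : ∃ q : P, q⁻¹ * τ q ∉ frattini P := by
    by_contra h
    push Not at h
    exact I.exists_moved H hne fun q _ => h q
  have hqΦ : q ∉ frattini P := fun h => hq (mul_mem (inv_mem h) (hτΦ h))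
  have hτq : τ q ∉ frattini P := fun h => hqΦ (by
    have := (Subgroup.characteristic_iff_map_eq.1 inferInstance τ.symm).le ⟨_, h, rfl⟩
    simpa using this)
  have hgenP : closure ({q, τ q} : Set P) = ⊤ := CfsgLib.PGroup.MetaTwo.sup_frattini_eq_top hidx _
    (subset_closure (Set.mem_insert _ _))
    (subset_closure (Set.mem_insert_of_mem _ (Set.mem_singleton _))) hqΦ hτq hq
  -- the derived group is cyclic
  set e : G := t * q * t⁻¹ * (q : G)⁻¹ with he
  set N := zpowers e
  have hte : t * e * t⁻¹ = e⁻¹ := by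
    have h1 : t * t * q * (t * t)⁻¹ = q := by
      have h0 : t * t * (q : G) = q * (t * t) := congrArg Subtype.val (hab ⟨t * t, I.sq⟩ q)
      rw [h0, mul_inv_cancel_right]
    calc t * e * t⁻¹ = (t * t * q * (t * t)⁻¹) * (t * q * t⁻¹)⁻¹ := by rw [he]; group
      _ = e⁻¹ := by rw [h1, he]; group
  have hPe : ∀ p ∈ P, p * e = e * p := fun p hp => by
    have := congrArg Subtype.val (hab ⟨p, hp⟩ (τ q * q⁻¹))
    simpa [I.apply, he] using this
  have hgen : ∀ g : G, g ∈ closure ({t, (q : G)} : Set G) := by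
    intro g
    have hPle : P ≤ closure ({t, (q : G)} : Set G) := fun p hp => by
      have h1 : (⟨p, hp⟩ : P) ∈ (closure ({t, (q : G)} : Set G)).comap P.subtype := by
        refine (closure_le _).2 ?_ (hgenP.ge (mem_top _))
        rintro w (rfl | rfl)
        · exact subset_closure (Set.mem_insert_of_mem _ (Set.mem_singleton _))
        · show ((τ q : P) : G) ∈ closure ({t, (q : G)} : Set G)
          rw [I.apply]
          exact mul_mem (mul_mem (subset_closure (Set.mem_insert _ _))
            (subset_closure (Set.mem_insert_of_mem _ (Set.mem_singleton _))))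
            (inv_mem (subset_closure (Set.mem_insert _ _)))
      exact h1
    rcases hcos g with hg | hg
    · exact hPle hg
    · have := mul_mem (subset_closure (Set.mem_insert t _)) (hPle hg)
      rwa [mul_inv_cancel_left] at this
  haveI : N.Normal := normalizer_eq_top_iff.1 (eq_top_iff.2 fun g _ => by
    refine (closure_le _).2 ?_ (hgen g)
    have hkey : ∀ {w : G}, (w * e * w⁻¹ = e ∨ w * e * w⁻¹ = e⁻¹) →
        w ∈ normalizer (N : Set G) := fun {w} h => by
      rw [← CfsgLib.Coprime.conjBy_eq_self_iff, CfsgLib.Coprime.conjBy, MonoidHom.map_zpowers]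
      show zpowers (w * e * w⁻¹) = _
      rcases h with h | h <;> rw [h]
      rw [zpowers_inv]
    rintro w (rfl | rfl)
    · exact hkey (Or.inr hte)
    · exact hkey (Or.inl (by rw [hPe _ q.2, mul_inv_cancel_right])))
  refine hnc (isCyclic_of_le (H' := N) ?_)
  set πN := QuotientGroup.mk' N
  have htq : πN t * πN (q : G) = πN (q : G) * πN t := by
    have h1 : πN e = 1 := (QuotientGroup.eq_one_iff _).2 (mem_zpowers e)
    rw [he, map_mul, map_mul, map_mul, map_inv, map_inv, mul_inv_eq_one,
      mul_inv_eq_iff_eq_mul] at h1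
    exact h1
  have hc : ∀ g : G, Commute (πN g) (πN t) ∧ Commute (πN g) (πN (q : G)) := fun g => by
    induction hgen g using closure_induction with
    | mem w hw => rcases hw with rfl | rfl <;> constructor <;> first | rfl | exact htq | exact htq.symm
    | one => rw [map_one]; exact ⟨Commute.one_left _, Commute.one_left _⟩
    | mul x y _ _ hx hy => rw [map_mul]; exact ⟨hx.1.mul_left hy.1, hx.2.mul_left hy.2⟩
    | inv x _ hx => rw [map_inv]; exact ⟨hx.1.inv_left, hx.2.inv_left⟩
  rw [_root_.commutator_def, Subgroup.commutator_le]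
  intro g _ k hk
  clear hk
  refine (QuotientGroup.eq_one_iff (N := N) _).1 ?_
  show πN ⁅g, k⁆ = 1
  rw [map_commutatorElement, commutatorElement_eq_one_iff_commute]
  induction hgen k using closure_induction with
  | mem w hw =>
    rcases hw with rfl | rfl
    · exact (hc g).1
    · exact (hc g).2
  | one => rw [map_one]; exact Commute.one_right _
  | mul x y _ _ hx hy => rw [map_mul]; exact hx.mul_right hy
  | inv x _ hx => rw [map_inv]; exact hx.inv_right

end CfsgLib.Fusion.Bicyclic
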