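import Cfsg.Agent.Lib.Fusion.System.Bicyclic.CaseBData

/-!
# The displacement group outside `Φ(G)`: generalities
-/

set_option autoImplicit false
set_option maxHeartbeats 1000000
set_option linter.style.haveILetI false
set_option linter.unusedSectionVars false

open Subgroup
open scoped commutatorElement

namespace CfsgLib.Fusion.Bicyclic

universe u

variable {G : Type u} [Group G]

theorem BData.z_mem {P : Subgroup G} {α : MulAut P} {x y z : P} (B : BData α x y z) :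
    z ∈ comDisp α := B.xx ▸ mul_mem B.xQ B.xQ

variable [Finite G] {P : Subgroup G} {t : G} {τ α : MulAut P} {x y z : P}
  (H : Hyp G) (hne : P ≠ ⊤) (hnc : ¬ IsCyclic (commutator G))
include H hne hnc

/-- `P` and `N(Q)` avoid the cosets of `a`, and the involutions of `G'` are central in `P`. -/
theorem BData.setup (B : BData α x y z) (I : Inverted P t τ α)
    (hcent : centralizer (P : Set G) ≤ P) :
    ∃ d : Gens G, d.b = x ∧ d.b * d.b * (d.b * d.b) = 1 ∧ (∀ p ∈ P, IsEven d p) ∧ IsEven d t ∧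
      (∀ g, IsEven d g → CentInvol g) ∧ (∀ s ∈ commutator G, s * s = 1 → s ∈ P) := by
  obtain ⟨d₀⟩ := exists_gens H.pgroup H.notMeta H.bicyclic
  have hx4 : (x : G) ^ 4 = 1 := by
    have h := congrArg Subtype.val (show x * x * (x * x) = 1 by rw [B.xx, B.z2])
    simp only [Subgroup.coe_mul, Subgroup.coe_one] at h
    rw [pow_succ, pow_succ, pow_succ, pow_one, mul_assoc]
    exact h
  obtain ⟨i, j, s, hs, hxe⟩ := d₀.spl x
  have hi : Even i := even_of_pow_four H hnc d₀ hs (hxe ▸ hx4)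
  have hj : Odd j := Int.not_even_iff_odd.1 fun ⟨m, hm⟩ => B.xs (by
    rw [hxe, hm, zpow_add, ← (Commute.refl d₀.b).mul_zpow]
    refine mul_mem (mul_mem ?_ (zpow_mem (commutator_le_sqSub (derK_le d₀.sq)) m))
      (commutator_le_sqSub hs)
    obtain ⟨n, rfl⟩ := hi
    rw [zpow_add]
    exact sq_mem _)
  have hxx : (x : G) * x ∈ commutator G := by
    rw [← Subgroup.coe_mul, B.xx]; exact B.zR
  obtain ⟨d, -, hb⟩ := exists_rebase H d₀ hi hj hs (hxe ▸ hxx)
  rw [← hxe] at hb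
  have hz : d.b * d.b * (d.b * d.b) = 1 := by
    have h := congrArg Subtype.val (show x * x * (x * x) = 1 by rw [B.xx, B.z2])
    simpa [hb] using h
  set QG := (comDisp α).map P.subtype
  have huniq : ∀ p ∈ QG, ∀ q ∈ QG, p ∈ sqSub G → q ∈ sqSub G → p * p = 1 → q * q = 1 → p ≠ 1 →
      q ≠ 1 → p = q := by
    rintro _ ⟨p, hp, rfl⟩ _ ⟨q, hq, rfl⟩ hps hqs hp2 hq2 hp1 hq1
    exact congrArg Subtype.val (B.uniq p hp q hq hps hqs (Subtype.ext hp2) (Subtype.ext hq2)
      (fun h => hp1 (by rw [h]; rfl)) (fun h => hq1 (by rw [h]; rfl)))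
  have hbQ : d.b ∈ QG := ⟨x, B.xQ, hb.symm⟩
  have hPeven : ∀ p ∈ P, IsEven d p := fun p hp => even_of_normalizes H hnc d hbQ huniq (by
    rintro _ ⟨q, hq, rfl⟩
    exact ⟨_, (inferInstance : (comDisp α).Normal).conj_mem q hq ⟨p, hp⟩, rfl⟩)
  have hteven : IsEven d t := even_of_normalizes H hnc d hbQ huniq (by
    rintro _ ⟨q, hq, rfl⟩
    exact ⟨τ q, I.tau_disp H hne hq, I.apply q⟩)
  have hci : ∀ g, IsEven d g → CentInvol g := by
    rintro g ⟨i, j, s, hs, hi, rfl⟩ w hw hw2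
    exact comm_invol H hnc d hz hi hs hw hw2
  exact ⟨d, hb, hz, hPeven, hteven, hci, fun s hs hs2 => hcent (mem_centralizer_iff.2 fun p hp =>
    (hci p (hPeven p hp) s hs hs2).eq)⟩

/-- Commutators with `P` lie in `⟨z⟩`, and the fixed points of `α` centralize `Q`. -/
theorem BData.comm_le (B : BData α x y z) (I : Inverted P t τ α) :
    ∀ p p' : P, p * p' * p⁻¹ * p'⁻¹ = 1 ∨ p * p' * p⁻¹ * p'⁻¹ = z := by
  set Q := comDisp α
  have hQn : ∀ {q : P}, q ∈ Q → ∀ p : P, p * q * p⁻¹ ∈ Q := fun hq p =>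
    (inferInstance : (comDisp α).Normal).conj_mem _ hq p
  let Z : Subgroup P :=
    { carrier := {e | e = 1 ∨ e = z}
      one_mem' := Or.inl rfl
      mul_mem' := by
        rintro a b (rfl | rfl) (rfl | rfl)
        · exact Or.inl (one_mul 1)
        · exact Or.inr (one_mul _)
        · exact Or.inr (mul_one _)
        · exact Or.inl B.z2
      inv_mem' := by
        rintro a (rfl | rfl)
        · exact Or.inl inv_one
        · exact Or.inr (inv_eq_of_mul_eq_one_right B.z2) }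
  have hZc : ∀ e ∈ Z, ∀ p : P, p * e = e * p := by
    rintro e (rfl | rfl) p
    · rw [mul_one, one_mul]
    · exact B.central p
  have hZα : ∀ e ∈ Z, α e ∈ Z := by
    rintro e (rfl | rfl)
    · rw [map_one]; exact one_mem _
    · rw [B.fix]; exact Or.inr rfl
  have hyQ := B.yQ
  -- `y` modulo `⟨z⟩`
  have hy : ∀ p : P, p * y * p⁻¹ * y⁻¹ ∈ Z := by
    intro p
    have hps : ((p * y * p⁻¹ : P) : G) ∈ sqSub G := sqSub_normal.conj_mem _ B.ys p
    rcases B.sq_cases _ (hQn hyQ p) hps with h | h | h | h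
    · refine absurd ?_ B.yne.1
      rw [show y = p⁻¹ * (p * y * p⁻¹) * p by group, h]; group
    · refine absurd ?_ B.yne.2
      rw [show y = p⁻¹ * (p * y * p⁻¹) * p by group, h, mul_assoc, ← B.central p, ← mul_assoc,
        inv_mul_cancel, one_mul]
    · rw [h, mul_inv_cancel]; exact one_mem _
    · rw [h, B.central y, mul_inv_cancel_right]; exact Or.inr rfl
  -- `Q` modulo `⟨z⟩`
  have hQ : ∀ p : P, ∀ q ∈ Q, p * q * p⁻¹ * q⁻¹ ∈ Z := by
    intro p
    let S : Subgroup P :=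
      { carrier := {q | p * q * p⁻¹ * q⁻¹ ∈ Z}
        one_mem' := by show p * 1 * p⁻¹ * 1⁻¹ ∈ Z; simp
        mul_mem' := fun {a b} ha hb => by
          have e : p * (a * b) * p⁻¹ * (a * b)⁻¹ =
              (p * a * p⁻¹ * a⁻¹) * (a * (p * b * p⁻¹ * b⁻¹) * a⁻¹) := by group
          show p * (a * b) * p⁻¹ * (a * b)⁻¹ ∈ Z
          rw [e]
          refine Z.mul_mem ha ?_
          rw [hZc _ hb a, mul_inv_cancel_right]
          exact hb
        inv_mem' := fun {a} ha => by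
          have e : p * a⁻¹ * p⁻¹ * (a⁻¹)⁻¹ = a⁻¹ * (p * a * p⁻¹ * a⁻¹)⁻¹ * a := by group
          show p * a⁻¹ * p⁻¹ * (a⁻¹)⁻¹ ∈ Z
          rw [e, hZc _ (Z.inv_mem ha) a⁻¹, inv_mul_cancel_right]
          exact Z.inv_mem ha }
    refine B.gen S (hy p) ?_
    have h := hZα _ (hy (α.symm p))
    simp only [map_mul, map_inv, MulEquiv.apply_symm_apply] at h
    exact h
  obtain ⟨-, f, hf, hfQ⟩ := I.facts H hne
  -- `f` centralizes `Q`
  have hfy : f * y * f⁻¹ * y⁻¹ = 1 := by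
    rcases hy f with h | h
    · exact h
    set e := f * y * f⁻¹ * y⁻¹ with he
    have hconj : ∀ w : P, f * α w * f⁻¹ * (α w)⁻¹ = α (f * w * f⁻¹ * w⁻¹) := fun w => by
      simp only [map_mul, map_inv, hf]
    have hec : ∀ p : P, p * e = e * p := hZc e (Or.inr h)
    have hαe : α e = e := by rw [h, B.fix]
    have hmv : ∀ w : P, f * w * f⁻¹ * w⁻¹ = e → f * w * f⁻¹ = e * w := fun w hw => by
      rw [← hw, inv_mul_cancel_right]
    have e1 := hmv y rfl
    have e2 := hmv (α y) (by rw [hconj, ← he, hαe])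
    have e3 := hmv (α (α y)) (by rw [hconj, hconj, ← he, hαe, hαe])
    have hn : f * (y * α y * α (α y)) * f⁻¹ = e * e * e * (y * α y * α (α y)) := by
      rw [show f * (y * α y * α (α y)) * f⁻¹ =
        (f * y * f⁻¹) * (f * α y * f⁻¹) * (f * α (α y) * f⁻¹) by group, e1, e2, e3]
      calc e * y * (e * α y) * (e * α (α y)) = e * (y * e) * α y * e * α (α y) := by group
        _ = e * e * (y * α y * e) * α (α y) := by rw [hec y]; group
        _ = _ := by rw [hec (y * α y)]; group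
    have hNc : f * (y * α y * α (α y)) * f⁻¹ = y * α y * α (α y) := by
      rw [hZc _ (by exact B.norm) f, mul_inv_cancel_right]
    rw [hNc, right_eq_mul] at hn
    rw [h, B.z2, one_mul] at hn
    exact h.trans hn
  have hfc : ∀ q ∈ Q, f * q = q * f := by
    intro q hq
    refine mem_centralizer_singleton_iff.1 (B.gen (centralizer ({f} : Set P)) ?_ ?_ hq) |>.symm
    · exact mem_centralizer_singleton_iff.2 (mul_inv_eq_iff_eq_mul.1 (mul_inv_eq_one.1 hfy)).symm
    · refine mem_centralizer_singleton_iff.2 ?_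
      have h := congrArg α (mul_inv_eq_iff_eq_mul.1 (mul_inv_eq_one.1 hfy))
      simp only [map_mul, hf] at h
      exact h.symm
  have hall : ∀ p : P, ∃ i : ℤ, ∃ q ∈ Q, p = q * f ^ i := fun p => by
    obtain ⟨q, hq, k, hk, rfl⟩ := CfsgLib.Coprime.mem_sup_exists (N := Q) (H := zpowers f)
      (le_of_le_of_eq le_top (normalizer_eq_top_iff.2 inferInstance).symm)
      ((sup_comm (zpowers f) Q ▸ hfQ).ge (mem_top p))
    obtain ⟨i, rfl⟩ := mem_zpowers_iff.1 hk
    exact ⟨i, q, hq, rfl⟩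
  intro p p'
  suffices h : p * p' * p⁻¹ * p'⁻¹ ∈ Z from h
  obtain ⟨i, q, hq, rfl⟩ := hall p
  obtain ⟨j, q', hq', rfl⟩ := hall p'
  have c1 : Commute (f ^ i) q' := (show Commute f q' from hfc q' hq').zpow_left i
  have c2 : Commute (f ^ j) q := (show Commute f q from hfc q hq).zpow_left j
  have hij : q * f ^ i * (q' * f ^ j) * (q * f ^ i)⁻¹ * (q' * f ^ j)⁻¹ =
      q * q' * q⁻¹ * q'⁻¹ := by
    calc _ = q * (f ^ i * q') * f ^ j * (f ^ i)⁻¹ * q⁻¹ * (f ^ j)⁻¹ * q'⁻¹ := by group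
      _ = q * q' * (f ^ j * q⁻¹) * (f ^ j)⁻¹ * q'⁻¹ := by rw [c1.eq]; group
      _ = _ := by rw [c2.inv_right.eq]; group
  rw [hij]
  exact hQ q q' hq'

omit hne hnc in
/-- An element `g` of `Φ(G)` moving `b` by an involution of `G'` acts on `P` by such involutions. -/
theorem exists_conj_invol (hne : P ≠ ⊤) (hnc : ¬ IsCyclic (commutator G)) (d : Gens G)
    (hz : d.b * d.b * (d.b * d.b) = 1) (hbP : d.b ∈ P) (hbs : d.b ∉ sqSub G)
    (hci : ∀ s ∈ commutator G, s * s = 1 → Commute d.b s) {g w : G} (hg : g ∈ sqSub G)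
    (hw : w ∈ commutator G) (hw2 : w * w = 1) (hgw : ⁅g, d.b⁆ = w)
    (hcb : ∀ n ∈ P, ∃ e ∈ commutator G, e * e = 1 ∧ d.b * n * d.b⁻¹ = e * n) :
    ∀ (k : ℕ), ∀ n ∈ P, ∃ s ∈ commutator G, s * s = 1 ∧ g ^ k * n * (g ^ k)⁻¹ = s * n := by
  have hconj : d.b * g * d.b⁻¹ = w * g := by
    have h1 : (g * d.b * g⁻¹ * d.b⁻¹) = w := by rw [← hgw, commutatorElement_def]
    have h2 : d.b * g * d.b⁻¹ = (g * d.b * g⁻¹ * d.b⁻¹)⁻¹ * g := by group
    rw [h2, h1, inv_eq_of_mul_eq_one_right hw2]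
  have hsq : ∀ n ∈ P, n ∈ sqSub G → ∃ s ∈ commutator G, s * s = 1 ∧ g * n * g⁻¹ = s * n := by
    intro n hn hns
    have hsR : ⁅g, n⁆ ∈ commutator G := commutator_mem_commutator (mem_top _) (mem_top _)
    refine ⟨⁅g, n⁆, hsR, cent_b H hnc d hz hsR ?_, by rw [commutatorElement_def]; group⟩
    obtain ⟨e, heR, he2, hbn⟩ := hcb n hn
    have hc : ∀ {m c : G}, m ∈ sqSub G → c ∈ commutator G → c * c = 1 → Commute m c :=
      fun hm hc hc2 => comm_sqSub_invol H hnc hm hc hc2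
    refine mul_inv_eq_iff_eq_mul.1 ?_
    rw [commutatorElement_def]
    calc d.b * (g * n * g⁻¹ * n⁻¹) * d.b⁻¹
        = (d.b * g * d.b⁻¹) * (d.b * n * d.b⁻¹) * (d.b * g * d.b⁻¹)⁻¹ * (d.b * n * d.b⁻¹)⁻¹ := by
          group
      _ = w * (g * e) * n * (g⁻¹ * w⁻¹) * n⁻¹ * e⁻¹ := by rw [hconj, hbn]; group
      _ = w * e * ((g * n * g⁻¹) * w⁻¹) * n⁻¹ * e⁻¹ := by rw [(hc hg heR he2).eq]; group
      _ = w * e * w⁻¹ * ((g * n * g⁻¹ * n⁻¹) * e⁻¹) := by
        rw [((hc (sqSub_normal.conj_mem n hns g) hw hw2).inv_right).eq]; group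
      _ = _ := by
        rw [(H.comm hw heR).eq, mul_inv_cancel_right,
          (H.comm (commutatorElement_def g n ▸ hsR) (inv_mem heR)).eq, mul_inv_cancel_left]
  have hstep : ∀ n ∈ P, ∃ s ∈ commutator G, s * s = 1 ∧ g * n * g⁻¹ = s * n := by
    intro n hn
    by_cases hns : n ∈ sqSub G
    · exact hsq n hn hns
    obtain ⟨s, hs, hs2, he⟩ := hsq (d.b⁻¹ * n) (mul_mem (inv_mem hbP) hn)
      (inv_mul_mem_sqSub H hne hbP hn hbs hns)
    refine ⟨w * s, mul_mem hw hs, ?_, ?_⟩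
    · rw [show w * s * (w * s) = w * (s * w) * s by group, (H.comm hs hw).eq,
        show w * (w * s) * s = w * w * (s * s) by group, hw2, hs2, one_mul]
    · have hgx : g * d.b * g⁻¹ = w * d.b := by rw [← hgw, commutatorElement_def]; group
      calc g * n * g⁻¹ = (g * d.b * g⁻¹) * (g * (d.b⁻¹ * n) * g⁻¹) := by group
        _ = w * (d.b * s) * (d.b⁻¹ * n) := by rw [hgx, he]; group
        _ = _ := by rw [(hci s hs hs2).eq]; group
  intro k
  induction k with
  | zero => exact fun n _ => ⟨1, one_mem _, one_mul 1, by simp⟩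
  | succ k ih =>
    intro n hn
    obtain ⟨s, hs, hs2, he⟩ := hstep n hn
    obtain ⟨s', hs', hs2', he'⟩ := ih n hn
    refine ⟨s * s', mul_mem hs hs', ?_, ?_⟩
    · rw [show s * s' * (s * s') = s * (s' * s) * s' by group, (H.comm hs' hs).eq,
        show s * (s * s') * s' = s * s * (s' * s') by group, hs2, hs2', one_mul]
    · have hk : g ^ k ∈ sqSub G := pow_mem hg k
      calc g ^ (k + 1) * n * (g ^ (k + 1))⁻¹ = g ^ k * (g * n * g⁻¹) * (g ^ k)⁻¹ := by
            rw [pow_succ]; group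
        _ = (g ^ k * s) * n * (g ^ k)⁻¹ := by rw [he]; group
        _ = s * (g ^ k * n * (g ^ k)⁻¹) := by rw [(comm_sqSub_invol H hnc hk hs hs2).eq]; group
        _ = _ := by rw [he']; group

end CfsgLib.Fusion.Bicyclic
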