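import Cfsg.Agent.Lib.Fusion.System.Bicyclic.CaseA

/-!
# The displacement group is a four group or a quaternion group outside `Φ(G)`
-/

set_option autoImplicit false
set_option maxHeartbeats 1000000
set_option linter.style.haveILetI false
set_option linter.unusedSectionVars false

open Subgroup

namespace CfsgLib.Fusion.Bicyclic

universe u

variable {G : Type u} [Group G]

/-- The displacement group is `⟨x, y⟩` with `z = x²`, where `x ∉ Φ(G)` and `y ∈ Φ(G)`. -/
structure BData {P : Subgroup G} (α : MulAut P) (x y z : P) : Prop where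
  xQ : x ∈ comDisp α
  xs : (x : G) ∉ sqSub G
  xx : x * x = z
  z2 : z * z = 1
  fix : α z = z
  central : ∀ p : P, p * z = z * p
  zR : (z : G) ∈ commutator G
  yQ : y ∈ comDisp α
  ys : (y : G) ∈ sqSub G
  yne : y ≠ 1 ∧ y ≠ z
  sq_cases : ∀ q ∈ comDisp α, (q : G) ∈ sqSub G → q = 1 ∨ q = z ∨ q = y ∨ q = y * z
  norm : y * α y * α (α y) = 1 ∨ y * α y * α (α y) = z
  gen : ∀ S : Subgroup P, y ∈ S → α y ∈ S → comDisp α ≤ S
  uniq : ∀ p ∈ comDisp α, ∀ q ∈ comDisp α, (p : G) ∈ sqSub G → (q : G) ∈ sqSub G → p * p = 1 →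
    q * q = 1 → p ≠ 1 → q ≠ 1 → p = q
  four : z = 1 → ∀ q ∈ comDisp α, q * q = 1
  na : z ≠ 1 → ¬ ∀ p ∈ comDisp α, ∀ q ∈ comDisp α, p * q = q * p

variable [Finite G] {P : Subgroup G} {t : G} {τ α : MulAut P} (H : Hyp G)
include H

variable (hne : P ≠ ⊤) (hnc : ¬ IsCyclic (commutator G))
include hne hnc

theorem exists_bdata (I : Inverted P t τ α) (hA : ¬ IsCaseA α) : ∃ x y z : P, BData α x y z := by
  classical
  haveI : Fact (Nat.Prime 2) := ⟨Nat.prime_two⟩
  haveI := I.nontrivial
  set Q := comDisp α with hQdef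
  have hQ := (pgroup_sub H P).to_subgroup Q
  set β := dispAut α I.cube
  have hβ3 : β ^ 3 = 1 := MulEquiv.ext fun q => Subtype.ext (by
    simp only [β, pow_succ, pow_zero, one_mul, MulAut.mul_apply, MulAut.one_apply, dispAut_apply]
    exact I.apply_three _)
  have htop := comDisp_dispAut (pgroup_sub H P) I.cube
  set f : Q →* G := P.subtype.comp Q.subtype
  have hf : Function.Injective f := P.subtype_injective.comp Q.subtype_injective
  have hfne : f.range ≠ ⊤ := fun h => hne (eq_top_iff.2 fun g _ => by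
    obtain ⟨q, rfl⟩ := h.ge (mem_top g)
    exact (q : P).2)
  obtain ⟨hidx, hmov⟩ := index_frattini_four hQ hβ3 htop (index_frattini_le H f hf hfne)
  have hchar : ∀ w, w ∈ frattini Q → β w ∈ frattini Q := fun w hw =>
    (Subgroup.characteristic_iff_map_eq.1 inferInstance β).le ⟨w, hw, rfl⟩
  have hgen : ∀ {q : Q}, q ∉ frattini Q → closure ({q, β q} : Set Q) = ⊤ := fun {q} hq =>
    CfsgLib.PGroup.MetaTwo.sup_frattini_eq_top hidx _ (subset_closure (Set.mem_insert _ _))
      (subset_closure (Set.mem_insert_of_mem _ (Set.mem_singleton _))) hq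
      (fun h => hq (by
        have := (Subgroup.characteristic_iff_map_eq.1 inferInstance β.symm).le ⟨_, h, rfl⟩
        simpa using this)) (hmov q hq)
  -- a generator outside `Φ(G)` gives one inside
  have hy : ∀ x : Q, f x ∉ sqSub G → ∃ y : Q, f y ∈ sqSub G ∧ y ∉ frattini Q := by
    intro x hxs
    have hxΦ : x ∉ frattini Q := fun h => hxs (frattini_le_sqSub H f h)
    by_cases h : f (β x) ∈ sqSub G
    · exact ⟨β x, h, fun h' => hxΦ (by
        have := (Subgroup.characteristic_iff_map_eq.1 inferInstance β.symm).le ⟨_, h', rfl⟩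
        simpa using this)⟩
    · refine ⟨x⁻¹ * β x, ?_, hmov x hxΦ⟩
      rw [map_mul, map_inv]
      exact inv_mul_mem_sqSub H hfne ⟨x, rfl⟩ ⟨β x, rfl⟩ hxs h
  have hcoset : ∀ {p q : Q}, p ∉ frattini Q → q ∉ frattini Q → p⁻¹ * q ∉ frattini Q →
      ∀ w : Q, f p ∈ sqSub G → f q ∈ sqSub G → f w ∈ sqSub G := fun {p q} hp hq hpq w hps hqs => by
    have := CfsgLib.PGroup.MetaTwo.sup_frattini_eq_top hidx ((sqSub G).comap f) hps hqs hp hq hpq
    exact this.ge (mem_top w)
  have hgenS : ∀ {y : Q}, y ∉ frattini Q → ∀ S : Subgroup P, (y : P) ∈ S → α y ∈ S → Q ≤ S :=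
    fun {y} hy S h1 h2 q hq => by
      have h : (⟨q, hq⟩ : Q) ∈ S.comap Q.subtype := by
        refine (closure_le _).2 ?_ ((hgen hy).ge (mem_top _))
        rintro w (rfl | rfl)
        · exact h1
        · exact h2
      exact h
  by_cases hab : ∀ p ∈ Q, ∀ q ∈ Q, p * q = q * p
  · obtain ⟨x, hxQ, hx2, hxs⟩ : ∃ x, x ∈ Q ∧ x * x = 1 ∧ (x : G) ∉ sqSub G := by
      by_contra h
      push Not at h
      exact hA ⟨hab, h⟩
    have hxΦ : (⟨x, hxQ⟩ : Q) ∉ frattini Q := fun h => hxs (frattini_le_sqSub H f h)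
    have hsq : ∀ q : Q, q * q = 1 := fun q => by
      induction (hgen hxΦ).ge (mem_top q) using closure_induction with
      | mem w hw =>
        rcases hw with rfl | rfl
        · exact Subtype.ext hx2
        · rw [← map_mul, show (⟨x, hxQ⟩ : Q) * ⟨x, hxQ⟩ = 1 from Subtype.ext hx2, map_one]
      | one => exact one_mul 1
      | mul a b _ _ ha hb =>
        rw [show a * b * (a * b) = a * (b * a) * b by group,
          show b * a = a * b from Subtype.ext (hab _ b.2 _ a.2),
          show a * (a * b) * b = a * a * (b * b) by group, ha, hb, one_mul]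
      | inv a _ ha => rw [← mul_inv_rev, ha, inv_one]
    have hΦ : ∀ w : Q, w ∈ frattini Q → w = 1 := fun w hw =>
      mem_bot.1 (CfsgLib.FrattiniLe.frattini_le_of_pow_of_commutator (p := 2) (F := ⊥)
        (fun u => mem_bot.2 (by rw [sq]; exact hsq u)) (by
          rw [_root_.commutator_def, Subgroup.commutator_le]
          exact fun u _ v _ => mem_bot.2 (commutatorElement_eq_one_iff_mul_comm.2
            (Subtype.ext (hab _ u.2 _ v.2)))) hw)
    obtain ⟨y, hys, hyΦ⟩ := hy ⟨x, hxQ⟩ hxs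
    have hone : ∀ q : Q, f q ∈ sqSub G → q = 1 ∨ q = y := by
      intro q hq
      by_contra hne'
      push Not at hne'
      exact hxs (hcoset hyΦ (fun h => hne'.1 (hΦ q h))
        (fun h => hne'.2 (inv_mul_eq_one.1 (hΦ _ h)).symm) ⟨x, hxQ⟩ hys hq)
    refine ⟨x, y, 1, hxQ, hxs, hx2, one_mul 1, map_one α, fun p => by rw [mul_one, one_mul],
      one_mem _, y.2, hys, ⟨fun h => hyΦ (by rw [show y = 1 from Subtype.ext h]; exact one_mem _),
        fun h => hyΦ (by rw [show y = 1 from Subtype.ext h]; exact one_mem _)⟩,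
      fun q hq hqs => ?_, ?_, hgenS hyΦ, fun p hp q hq hps hqs _ _ hp1 hq1 => ?_,
      fun _ q hq => congrArg Subtype.val (hsq ⟨q, hq⟩), fun h => absurd rfl h⟩
    · rcases hone ⟨q, hq⟩ hqs with h | h
      · exact Or.inl (congrArg Subtype.val h)
      · exact Or.inr (Or.inr (Or.inl (congrArg Subtype.val h)))
    · exact Or.inl (congrArg Subtype.val
        (norm_eq_one (fun p q : Q => Subtype.ext (hab _ p.2 _ q.2)) hβ3 htop y))
    · exact (congrArg Subtype.val ((hone ⟨p, hp⟩ hps).resolve_left fun h =>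
        hp1 (congrArg Subtype.val h))).trans (congrArg Subtype.val ((hone ⟨q, hq⟩ hqs).resolve_left
          fun h => hq1 (congrArg Subtype.val h))).symm
  -- the quaternion group
  have hna : ¬ IsPGroup 2 (MulAut Q) := by
    intro h
    obtain ⟨k, hk⟩ := h β
    obtain ⟨q, hq⟩ := exists_ne (1 : Q)
    have hb : β = 1 := orderOf_eq_one_iff.1 (Nat.eq_one_of_dvd_coprimes
      (show Nat.Coprime (2 ^ k) 3 from Nat.Coprime.pow_left _ (by norm_num))
      (orderOf_dvd_of_pow_eq_one hk) (orderOf_dvd_of_pow_eq_one hβ3))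
    have hbot : comDisp β = ⊥ := (eq_bot_iff).2 ((closure_le _).2 fun w ⟨v, hv⟩ => by
      rw [← hv, hb]; simp)
    exact hq (mem_bot.1 (hbot ▸ htop.ge (mem_top q)))
  obtain ⟨e⟩ : Nonempty (Q ≃* QuaternionGroup 2) :=
    (CfsgLib.PGroup.MetaTwo.homocyclic_or_quaternion hQ (isMetacyclic_disp H f hf hfne hβ3 htop)
      hna).resolve_right fun ⟨n, _, ⟨φ⟩⟩ => hab fun p hp q hq => by
        have : (⟨p, hp⟩ : Q) * ⟨q, hq⟩ = ⟨q, hq⟩ * ⟨p, hp⟩ := φ.injective (by
          rw [map_mul, map_mul, mul_comm])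
        exact congrArg Subtype.val this
  obtain ⟨z₀, hz0, hz02, hz0u, hz0s, hz0c⟩ : ∃ z₀ : QuaternionGroup 2, z₀ ≠ 1 ∧ z₀ * z₀ = 1 ∧
      (∀ g, g * g = 1 → g = 1 ∨ g = z₀) ∧ (∀ g, g * g = 1 ∨ g * g = z₀) ∧
      (∀ g, g * z₀ = z₀ * g) := ⟨QuaternionGroup.a 2, by decide, by decide, by decide, by decide,
        by decide⟩
  set z : Q := e.symm z₀
  have hz1 : z ≠ 1 := fun h => hz0 (by simpa [z] using congrArg e h)
  have hz2 : z * z = 1 := e.injective (by simp [z, hz02])
  have hzu : ∀ q : Q, q * q = 1 → q = 1 ∨ q = z := fun q hq => by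
    rcases hz0u (e q) (by rw [← map_mul, hq, map_one]) with h | h
    · exact Or.inl (e.injective (by rw [h, map_one]))
    · exact Or.inr (e.injective (by simp [z, h]))
  have hzs : ∀ q : Q, q * q = 1 ∨ q * q = z := fun q => by
    rcases hz0s (e q) with h | h <;> rw [← map_mul] at h
    · exact Or.inl (e.injective (by rw [h, map_one]))
    · exact Or.inr (e.injective (by simp [z, h]))
  have hzc : ∀ q : Q, q * z = z * q := fun q => e.injective (by
    rw [map_mul, map_mul, MulEquiv.apply_symm_apply]; exact hz0c _)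
  -- the Frattini subgroup of `Q`
  have hΦcard : Nat.card (frattini Q) = 2 := by
    have h1 := (frattini Q).card_mul_index
    rw [hidx, Nat.card_congr e.toEquiv, Nat.card_eq_fintype_card (α := QuaternionGroup 2),
      QuaternionGroup.card] at h1
    omega
  obtain ⟨q₀, hq₀⟩ : ∃ q : Q, q * q = z := by
    by_contra h
    push Not at h
    refine hab fun p hp q hq => ?_
    have hi : ∀ w : Q, w⁻¹ = w := fun w =>
      inv_eq_of_mul_eq_one_right ((hzs w).resolve_right (h w))
    have : (⟨p, hp⟩ : Q) * ⟨q, hq⟩ = ⟨q, hq⟩ * ⟨p, hp⟩ := by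
      rw [← hi (⟨p, hp⟩ * ⟨q, hq⟩), mul_inv_rev, hi, hi]
    exact congrArg Subtype.val this
  have hzΦ : z ∈ frattini Q := by
    rw [← hq₀, ← sq]; exact CfsgLib.Coprime.pow_mem_frattini hQ q₀
  have hΦ : ∀ w : Q, w ∈ frattini Q → w = 1 ∨ w = z := by
    intro w hw
    by_contra h
    push Not at h
    let g : Fin 3 → frattini Q := ![1, ⟨z, hzΦ⟩, ⟨w, hw⟩]
    obtain ⟨i, j, hij, he⟩ := exists_pair_of_card_lt g (by rw [Nat.card_fin, hΦcard]; omega)
    have hv := congrArg Subtype.val he
    fin_cases i <;> fin_cases j <;>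
      first
        | exact hij rfl
        | exact hz1 hv
        | exact hz1 hv.symm
        | exact h.1 hv
        | exact h.1 hv.symm
        | exact h.2 hv
        | exact h.2 hv.symm
  have hQn : ∀ p : P, ∀ q : Q, p * (q : P) * p⁻¹ ∈ Q := fun p q =>
    (inferInstance : (comDisp α).Normal).conj_mem _ q.2 p
  have hzP : ∀ p : P, p * (z : P) = z * p := by
    intro p
    have hw : (⟨_, hQn p z⟩ : Q) * ⟨_, hQn p z⟩ = 1 := Subtype.ext (by
      show p * (z : P) * p⁻¹ * (p * (z : P) * p⁻¹) = 1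
      rw [show p * (z : P) * p⁻¹ * (p * (z : P) * p⁻¹) = p * ((z : P) * z) * p⁻¹ by group,
        show (z : P) * z = 1 from congrArg Subtype.val hz2]
      group)
    rcases hzu _ hw with h | h
    · refine absurd (Subtype.ext (?_ : (z : P) = 1)) hz1
      have h' : p * (z : P) * p⁻¹ = 1 := congrArg Subtype.val h
      rw [show (z : P) = p⁻¹ * (p * (z : P) * p⁻¹) * p by group, h']; group
    · exact mul_inv_eq_iff_eq_mul.1 (congrArg Subtype.val h)
  -- not inside `Φ(G)`
  obtain ⟨u, v, hu, hv, hu2, hv2, hu1, hv1, huv⟩ :=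
    exists_involutions H hnc (exists_gens H.pgroup H.notMeta H.bicyclic).some
  have hzR : ∀ {q : Q}, q * q = z → f z ∈ commutator G := fun {q} hq => by
    refine invol_mem H hnc ?_ (by rw [← map_mul, hz2, map_one])
    rw [← hq, map_mul]; exact sq_mem _
  have hfzR := hzR hq₀
  obtain ⟨x, hxs⟩ : ∃ x : Q, f x ∉ sqSub G := by
    by_contra hall
    push Not at hall
    obtain ⟨w, hw, hw2, hw1, hwz⟩ :
        ∃ w, w ∈ commutator G ∧ w * w = 1 ∧ w ≠ 1 ∧ w ≠ f z := by
      by_cases h : u = f z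
      · exact ⟨v, hv, hv2, hv1, fun e => huv (h.trans e.symm)⟩
      · exact ⟨u, hu, hu2, hu1, h⟩
    set N := (zpowers z).map f
    set L := f.range ⊔ zpowers w
    have hcw : ∀ q : Q, Commute (f q) w := fun q => comm_sqSub_invol H hnc (hall q) hw hw2
    have hnorm : zpowers w ≤ normalizer (f.range : Set G) := by
      refine zpowers_le.2 (mem_normalizer_iff.2 fun g => ?_)
      constructor
      · rintro ⟨q, rfl⟩
        exact ⟨q, by rw [← (hcw q).eq, mul_inv_cancel_right]⟩
      · rintro ⟨q, hq⟩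
        exact ⟨q, mul_left_cancel (a := w)
          (mul_right_cancel (b := w⁻¹) (by rw [← hq, ← (hcw q).eq, mul_inv_cancel_right]))⟩
    have hNc : ∀ h ∈ L, Commute h (f z) := by
      intro h hh
      obtain ⟨_, ⟨q, rfl⟩, k, hk, rfl⟩ := CfsgLib.Coprime.mem_sup_exists hnorm hh
      obtain ⟨i, rfl⟩ := mem_zpowers_iff.1 hk
      exact Commute.mul_left (by
        show f q * f z = f z * f q
        rw [← map_mul, hzc, map_mul]) ((hcw z).symm.zpow_left i)
    have hN : ∀ {g : G}, g ∈ N → g = 1 ∨ g = f z := by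
      rintro g ⟨c, hc, rfl⟩
      obtain ⟨i, rfl⟩ := mem_zpowers_iff.1 hc
      rcases hzu (z ^ i) (by rw [← (Commute.refl z).mul_zpow, hz2, one_zpow]) with h | h <;> rw [h]
      · exact Or.inl (map_one f)
      · exact Or.inr rfl
    have hfN : ∀ {q : Q}, f q ∈ N → q = 1 ∨ q = z := fun {q} h => by
      rcases hN h with e | e
      · exact Or.inl (hf (by rw [e, map_one]))
      · exact Or.inr (hf e)
    have hq₀1 : q₀ ∉ frattini Q := fun h => by
      rcases hΦ _ h with e | e <;> rw [e] at hq₀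
      · exact hz1 (by rw [← hq₀, one_mul])
      · exact hz1 (hz2 ▸ hq₀).symm
    have hnotw : ∀ q : Q, w * f q ∉ N := fun q h => by
      have hwQ : ∃ q' : Q, f q' = w := by
        rcases hN h with e | e
        · exact ⟨q⁻¹, by rw [map_inv, ← mul_eq_one_iff_eq_inv.1 e]⟩
        · exact ⟨z * q⁻¹, by rw [map_mul, map_inv, ← e, mul_inv_cancel_right]⟩
      obtain ⟨q', rfl⟩ := hwQ
      rcases hzu q' (hf (by rw [map_mul, hw2, map_one])) with e | e
      · exact hw1 (by rw [e, map_one])
      · exact hwz (by rw [e])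
    rcases H.cover' (L := L) (N := N)
      (sup_le (by rintro _ ⟨q, rfl⟩; exact hall q) (zpowers_le.2 (commutator_le_sqSub hw)))
      (fun h hh n hn => by
        have hn' := hn
        rcases hN hn with rfl | rfl
        · simp
        · rwa [(hNc h hh).eq, mul_inv_cancel_right])
      (fun h hh => by
        obtain ⟨_, ⟨q, rfl⟩, k, hk, rfl⟩ := CfsgLib.Coprime.mem_sup_exists hnorm hh
        obtain ⟨i, rfl⟩ := mem_zpowers_iff.1 hk
        have hc := (hcw q).zpow_right i
        have e : f q * w ^ i * (f q * w ^ i) = f (q * q) := by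
          calc f q * w ^ i * (f q * w ^ i) = f q * (w ^ i * f q) * w ^ i := by group
            _ = f q * f q * (w * w) ^ i := by rw [← hc.eq, (Commute.refl w).mul_zpow]; group
            _ = _ := by rw [hw2, one_zpow, mul_one, map_mul]
        rw [e]
        rcases hzs q with h | h <;> rw [h]
        · exact ⟨1, one_mem _, rfl⟩
        · exact ⟨z, mem_zpowers z, rfl⟩)
      (x := f q₀) (y := f (β q₀)) (z := w) (mem_sup_left ⟨_, rfl⟩) (mem_sup_left ⟨_, rfl⟩)
      (mem_sup_right (mem_zpowers w)) with h | h | h | h | h | h | h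
    · rcases hfN h with e | e <;> exact hq₀1 (e ▸ by first | exact one_mem _ | exact hzΦ)
    · have hb : β q₀ ∈ frattini Q := by
        rcases hfN h with e | e <;> rw [e] <;> first | exact one_mem _ | exact hzΦ
      exact hq₀1 (by
        have := (Subgroup.characteristic_iff_map_eq.1 inferInstance β.symm).le ⟨_, hb, rfl⟩
        simpa using this)
    · rw [← map_mul] at h
      have hb : q₀ * β q₀ ∈ frattini Q := by
        rcases hfN h with e | e <;> rw [e] <;> first | exact one_mem _ | exact hzΦ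
      refine hmov q₀ hq₀1 ?_
      rw [show q₀⁻¹ * β q₀ = (q₀ * q₀)⁻¹ * (q₀ * β q₀) by group, hq₀]
      exact mul_mem (inv_mem hzΦ) hb
    · exact hnotw 1 (by rwa [map_one, mul_one])
    · exact hnotw q₀ h
    · exact hnotw (β q₀) h
    · exact hnotw (q₀ * β q₀) (by rwa [map_mul])
  have hxx : x * x = z := (hzs x).resolve_left fun h => by
    rcases hzu x h with e | e <;> rw [e] at hxs
    · exact hxs (by rw [map_one]; exact one_mem _)
    · exact hxs (commutator_le_sqSub hfzR)
  obtain ⟨y, hys, hyΦ⟩ := hy x hxs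
  have hzf : β z = z := ((hzu (β z) (by rw [← map_mul, hz2, map_one])).resolve_left
    fun h => hz1 ((map_eq_one_iff _ β.injective).1 h))
  have hn : y * β y * β (β y) ∈ frattini Q :=
    (QuotientGroup.eq_one_iff _).1 (norm_eq_one (frattini_quot_comm hQ) (frAut_cube hβ3)
      (comDisp_frAut htop) (y : Q ⧸ frattini Q))
  refine ⟨x, y, z, x.2, hxs, congrArg Subtype.val hxx, congrArg Subtype.val hz2,
    congrArg Subtype.val hzf, hzP, hfzR, y.2, hys, ⟨fun h => hyΦ ?_, fun h => hyΦ ?_⟩,
    fun q hq hqs => ?_, ?_, hgenS hyΦ, fun p hp q hq _ _ hp2 hq2 hp1 hq1 => ?_, fun h =>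
      absurd (Subtype.ext h : z = 1) hz1, fun _ => hab⟩
  · rw [show y = 1 from Subtype.ext h]; exact one_mem _
  · rw [show y = z from Subtype.ext h]; exact hzΦ
  · by_contra hne'
    push Not at hne'
    refine hxs (hcoset hyΦ (fun h => ?_) (fun h => ?_) x hys (q := ⟨q, hq⟩) hqs)
    · rcases hΦ _ h with e | e
      · exact hne'.1 (congrArg Subtype.val e)
      · exact hne'.2.1 (congrArg Subtype.val e)
    · rcases hΦ _ h with e | e
      · exact hne'.2.2.1 (congrArg Subtype.val (inv_mul_eq_one.1 e)).symm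
      · exact hne'.2.2.2 (congrArg Subtype.val (inv_mul_eq_iff_eq_mul.1 e))
  · rcases hΦ _ hn with h | h
    · exact Or.inl (congrArg Subtype.val h)
    · exact Or.inr (congrArg Subtype.val h)
  · exact (congrArg Subtype.val ((hzu ⟨p, hp⟩ (Subtype.ext hp2)).resolve_left fun h =>
      hp1 (congrArg Subtype.val h))).trans (congrArg Subtype.val ((hzu ⟨q, hq⟩
        (Subtype.ext hq2)).resolve_left fun h => hq1 (congrArg Subtype.val h))).symm

end CfsgLib.Fusion.Bicyclic
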