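import Cfsg.Agent.Lib.Fusion.System.Bicyclic.CaseB

/-!
# No essential subgroup with a quaternion displacement group
-/

set_option autoImplicit false
set_option maxHeartbeats 1000000
set_option linter.style.haveILetI false
set_option linter.unusedSectionVars false

open Subgroup
open scoped commutatorElement

namespace CfsgLib.Fusion.Bicyclic

universe u

variable {G : Type u} [Group G] [Finite G] {P : Subgroup G} {t : G} {τ α : MulAut P} {x y z : P}
  (H : Hyp G) (hne : P ≠ ⊤) (hnc : ¬ IsCyclic (commutator G))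
include H hne hnc

theorem quaternion_false {X : Subgroup (MulAut P)} (E : Ess P X) (B : BData α x y z)
    (I : Inverted P t τ α) (hz1 : z ≠ 1) : False := by
  haveI : Fact (Nat.Prime 2) := ⟨Nat.prime_two⟩
  obtain ⟨d, hb, hz, hPeven, hteven, hci, hWP⟩ := B.setup H hne hnc I E.cent
  have hcomm := B.comm_le H hne hnc I
  have hWc : ∀ {s : G} (hs : s ∈ commutator G) (hs2 : s * s = 1) (p : P),
      p * ⟨s, hWP s hs hs2⟩ = ⟨s, hWP s hs hs2⟩ * p := fun {s} hs hs2 p =>
    Subtype.ext (hci p (hPeven p p.2) s hs hs2).eq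
  have hzG : (z : G) * z = 1 := congrArg Subtype.val B.z2
  have hzs : (z : G) ∈ sqSub G := commutator_le_sqSub B.zR
  have hzu : ∀ q ∈ comDisp α, (q : G) ∈ sqSub G → (q : G) * q = 1 → q = 1 ∨ q = z := by
    intro q hq hqs hq2
    by_contra h
    push Not at h
    exact h.2 (B.uniq q hq z B.z_mem hqs hzs (Subtype.ext hq2) B.z2 h.1 hz1)
  -- the derived group is not a four group
  have hall : ¬ ∀ s ∈ commutator G, s * s = 1 := by
    intro hall
    refine I.exists_moved H hne fun q hq => ?_
    have hm : q⁻¹ * τ q ∈ comDisp α := mul_mem (inv_mem hq) (I.tau_disp H hne hq)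
    have hR : ((q⁻¹ * τ q : P) : G) ∈ commutator G := by
      rw [Subgroup.coe_mul, Subgroup.coe_inv, I.apply,
        show (q : G)⁻¹ * (t * q * t⁻¹) = ⁅(q : G)⁻¹, t⁆ by rw [commutatorElement_def]; group]
      exact commutator_mem_commutator (mem_top _) (mem_top _)
    rcases hzu _ hm (commutator_le_sqSub hR) (hall _ hR) with h | h <;> rw [h]
    · exact one_mem _
    · rw [← B.xx, ← sq]; exact CfsgLib.Coprime.pow_mem_frattini (pgroup_sub H P) x
  -- an element moving `x` to another coset
  obtain ⟨u, v, hu, hv, hu2, hv2, hu1, hv1, huv⟩ := exists_involutions H hnc d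
  obtain ⟨w, hw, hw2, hw1, hwz⟩ : ∃ w, w ∈ commutator G ∧ w * w = 1 ∧ w ≠ 1 ∧ w ≠ z := by
    by_cases h : u = z
    · exact ⟨v, hv, hv2, hv1, fun e => huv (h.trans e.symm)⟩
    · exact ⟨u, hu, hu2, hu1, h⟩
  obtain ⟨g, hg, hgw⟩ := exists_delta H hnc d hz hall hw hw2
  rw [hb] at hgw
  have hgP : g ∉ P := fun hgP => by
    set q : P := ⟨g, hgP⟩ * x * (⟨g, hgP⟩ : P)⁻¹ * x⁻¹
    have hq : q ∈ comDisp α :=
      mul_mem ((inferInstance : (comDisp α).Normal).conj_mem x B.xQ _) (inv_mem B.xQ)
    have hqe : (q : G) = w := by rw [← hgw, commutatorElement_def]; rfl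
    rcases hzu q hq (hqe ▸ commutator_le_sqSub hw) (hqe ▸ hw2) with h | h
    · exact hw1 (by rw [← hqe, h]; rfl)
    · exact hwz (by rw [← hqe, h])
  -- `g` acts trivially modulo the centre
  have hpow := exists_conj_invol H hne hnc d hz (hb ▸ x.2) (hb ▸ B.xs)
    (fun s hs hs2 => hci _ (hb ▸ hPeven x x.2) s hs hs2) hg hw hw2 (hb ▸ hgw) fun n hn => by
      refine ⟨d.b * n * d.b⁻¹ * n⁻¹, ?_, ?_, by group⟩ <;>
        rcases hcomm x ⟨n, hn⟩ with h | h <;> have h' := congrArg Subtype.val h <;>
        simp only [Subgroup.coe_mul, Subgroup.coe_inv] at h' <;> rw [hb, h']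
      · exact one_mem _
      · exact B.zR
      · exact one_mul 1
      · exact hzG
  obtain ⟨m, hmP, hm2⟩ := exists_last H.pgroup hgP
  set h := g ^ 2 ^ m
  obtain ⟨τ', β, -, -, J⟩ := exists_inverted H E (t := h) (fun n hn => by
    obtain ⟨s, hs, hs2, he⟩ := hpow (2 ^ m) n hn
    rw [he]; exact mul_mem (hWP s hs hs2) hn) hmP hm2
  -- then `P` is abelian
  have hzc : z ∈ center P := mem_center_iff.2 fun p => B.central p
  have hfix : ∀ p : P, p⁻¹ * τ' p ∈ center P := by
    intro p
    obtain ⟨s, hs, hs2, he⟩ := hpow (2 ^ m) p p.2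
    have hτ : τ' p = p * ⟨s, hWP s hs hs2⟩ := by
      rw [hWc hs hs2 p]
      exact Subtype.ext ((J.apply p).trans he)
    rw [hτ, inv_mul_cancel_left]
    exact mem_center_iff.2 fun q => hWc hs hs2 q
  have hQc : comDisp β ≤ center P := (closure_le _).2 fun q ⟨p, hp⟩ => hp ▸
    J.trivial_of_fix (N := center P)
      (fun n hn => (Subgroup.characteristic_iff_map_eq.1 inferInstance β).le ⟨n, hn, rfl⟩)
      (hfix p) (hfix (β p)) fun u => by
        rcases hcomm u (β (β (τ' p))) with e | e <;> rw [e]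
        · exact one_mem _
        · exact hzc
  obtain ⟨-, f, -, hfQ⟩ := J.facts H hne
  have habel : ∀ p q : P, p * q = q * p := by
    intro p q
    have hle : ∀ e : P, e ∈ zpowers f ⊔ comDisp β → e * f = f * e := fun e he => by
      refine mem_centralizer_singleton_iff.1 ((sup_le (zpowers_le.2
        (mem_centralizer_singleton_iff.2 rfl)) fun r hr => mem_centralizer_singleton_iff.2 ?_ :
        zpowers f ⊔ comDisp β ≤ centralizer ({f} : Set P)) he)
      exact (mem_center_iff.1 (hQc hr) f).symm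
    refine mem_centralizer_singleton_iff.1 ((sup_le (zpowers_le.2
      (mem_centralizer_singleton_iff.2 ?_)) fun r hr => mem_centralizer_singleton_iff.2 ?_ :
        zpowers f ⊔ comDisp β ≤ centralizer ({q} : Set P)) (hfQ.ge (mem_top p)))
    · exact (hle q (hfQ.ge (mem_top q))).symm
    · exact (mem_center_iff.1 (hQc hr) q).symm
  exact B.na hz1 fun p _ q _ => habel p q

end CfsgLib.Fusion.Bicyclic
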