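import Cfsg.Agent.Lib.PGroup.MetacyclicTwoAut
import Cfsg.Agent.Lib.PGroup.FrattiniLe

/-!
# An automorphism of order three of a 2-group with at most three generators

It has a displacement group `Q` with cyclic quotient and with Frattini quotient of order four, and
at most one nontrivial fixed point in the Frattini quotient.
-/

set_option autoImplicit false
set_option linter.style.haveILetI false
set_option linter.unusedSectionVars false

open Subgroup

namespace CfsgLib.Fusion.Bicyclic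

universe u

section Elementary

variable {M : Type u} [Group M] [Finite M]

theorem fix_of_sq {σ : MulAut M} (hσ : Odd (orderOf σ)) {v : M} (h : σ (σ v) = v) : σ v = v := by
  obtain ⟨k, hk⟩ := hσ
  have hpow : ∀ n : ℕ, (σ ^ (2 * n)) v = v := fun n => by
    induction n with
    | zero => rfl
    | succ n ih =>
      rw [mul_add, mul_one, pow_add, MulAut.mul_apply, sq, MulAut.mul_apply, h, ih]
  have h1 := pow_orderOf_eq_one σ
  rw [hk, pow_succ', ] at h1
  have := congrArg (fun f : MulAut M => f v) h1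
  simpa [MulAut.mul_apply, hpow k] using this

theorem odd_orderOf_pow {σ : MulAut M} (hσ : Odd (orderOf σ)) (n : ℕ) : Odd (orderOf (σ ^ n)) :=
  Odd.of_dvd_nat hσ (orderOf_pow_dvd n)

theorem exists_pair_of_card_lt {α β : Type*} [Finite β] (f : α → β) (h : Nat.card β < Nat.card α) :
    ∃ i j, i ≠ j ∧ f i = f j := by
  by_contra hne
  push Not at hne
  have := Nat.card_le_card_of_injective f fun i j e => by_contra fun hij => hne i j hij e
  omega

theorem card_ne_one_lt {n : ℕ} (h : Nat.card M ≤ n + 1) : Nat.card {x : M // x ≠ 1} ≤ n := by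
  have := Finite.card_subtype_lt (p := fun x : M => x ≠ 1) (x := 1) (by simp)
  omega

/-- An automorphism of odd order inverted by an involutory one has order dividing three. -/
theorem cube_of_inverted (hexp : ∀ v : M, v * v = 1) (hcard : Nat.card M ≤ 8) {σ τ : MulAut M}
    (hσ : Odd (orderOf σ)) (hτ : τ * τ = 1) (hinv : τ * σ * τ⁻¹ = σ⁻¹) : σ ^ 3 = 1 := by
  haveI : Fact (Nat.Prime 2) := ⟨Nat.prime_two⟩
  have hcomm : ∀ x y : M, x * y = y * x := fun x y => by
    have hi : ∀ w : M, w⁻¹ = w := fun w => inv_eq_of_mul_eq_one_right (hexp w)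
    calc x * y = (x * y)⁻¹ := (hi _).symm
      _ = y * x := by rw [mul_inv_rev, hi, hi]
  letI : CommGroup M := { (inferInstance : Group M) with mul_comm := hcomm }
  -- a fixed point `f` such that `M` has at most three cosets other than `⟨f⟩`
  obtain ⟨f, hf, hsmall⟩ : ∃ f : M, σ f = f ∧
      (f = 1 ∧ Nat.card M ≤ 4 ∨ f ≠ 1) := by
    by_cases h4 : Nat.card M ≤ 4
    · exact ⟨1, map_one σ, Or.inl ⟨rfl, h4⟩⟩
    by_contra hne
    push Not at hne
    let d : M →* M := MonoidHom.mk' (fun x => x * τ x) fun x y => by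
      rw [map_mul, mul_mul_mul_comm]
    set K := d.ker
    have hK : ∀ x, x ∈ K ↔ τ x = x := fun x => by
      rw [MonoidHom.mem_ker]
      show x * τ x = 1 ↔ _
      rw [mul_eq_one_iff_inv_eq, inv_eq_of_mul_eq_one_right (hexp x)]
      exact eq_comm
    have hrK : d.range ≤ K := by
      rintro _ ⟨x, rfl⟩
      rw [hK]
      show τ (x * τ x) = x * τ x
      rw [map_mul, ← MulAut.mul_apply, hτ, MulAut.one_apply, mul_comm]
    have h3 : 2 < Nat.card K := by
      have h1 := K.card_mul_index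
      rw [Subgroup.index_ker] at h1
      have h2 := Subgroup.card_le_of_le hrK
      have h4' : Nat.card K * Nat.card K ≥ Nat.card M := by rw [← h1]; exact Nat.mul_le_mul_left _ h2
      by_contra hh
      push Not at hh
      have := Nat.mul_le_mul hh hh
      omega
    obtain ⟨g, h, hg, hh, hg1, hh1, hgh⟩ : ∃ g h : M, g ∈ K ∧ h ∈ K ∧ g ≠ 1 ∧ h ≠ 1 ∧ g ≠ h := by
      haveI : Nontrivial K := Finite.one_lt_card_iff_nontrivial.1 (by omega)
      obtain ⟨g, hg⟩ := exists_ne (1 : K)
      by_contra hall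
      push Not at hall
      have : (Set.univ : Set K) ⊆ {1, g} := fun z _ => by
        by_cases hz : z = 1
        · exact Or.inl hz
        · exact Or.inr (Subtype.ext (hall g z g.2 z.2 (fun e => hg (Subtype.ext e))
            (fun e => hz (Subtype.ext e))).symm)
      have := Set.ncard_le_ncard this
      rw [Set.ncard_univ, Set.ncard_pair hg.symm] at this
      omega
    let F : Fin 3 → M := ![g, h, g * h]
    have hFK : ∀ k, F k ∈ K := by
      intro k; fin_cases k <;> [exact hg; exact hh; exact mul_mem hg hh]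
    have hF1 : ∀ k, F k ≠ 1 := by
      intro k
      fin_cases k <;> [exact hg1; exact hh1; exact fun e => hgh ((mul_eq_one_iff_eq_inv.1 e).trans
        (inv_eq_of_mul_eq_one_right (hexp h)))]
    have hFi : Function.Injective F := by
      intro i j e
      fin_cases i <;> fin_cases j <;> simp_all [F]
    have hmove : ∀ k, σ (F k) ≠ F k := fun k e => hF1 k (hne (F k) e).2
    let Φ : Fin 3 × Fin 3 → {x : M // x ≠ 1} := fun z =>
      ⟨(σ ^ (z.1 : ℕ)) (F z.2), (map_ne_one_iff _ (MulEquiv.injective _)).2 (hF1 z.2)⟩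
    have hlt : Nat.card {x : M // x ≠ 1} < Nat.card (Fin 3 × Fin 3) := by
      rw [Nat.card_prod, Nat.card_fin]
      have := card_ne_one_lt (M := M) (n := 7) hcard
      omega
    obtain ⟨⟨i, k⟩, ⟨j, l⟩, hne', he⟩ := exists_pair_of_card_lt Φ hlt
    have he' : (σ ^ (i : ℕ)) (F k) = (σ ^ (j : ℕ)) (F l) := congrArg Subtype.val he
    have key : ∀ (x y : M) (e : ℕ), τ x = x → τ y = y → (σ ^ e) x = y → (σ ^ e) x = x := by
      intro x y e hx hy hxy
      have h1 : ((σ ^ e)⁻¹) x = y := by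
        rw [← inv_pow, ← hinv, conj_pow, MulAut.mul_apply, MulAut.mul_apply]
        conv_lhs => rw [← hx]
        rw [show τ⁻¹ (τ x) = x from τ.symm_apply_apply x, hxy, hy]
      refine fix_of_sq (odd_orderOf_pow hσ e) ?_
      rw [hxy, ← h1, ← MulAut.mul_apply, mul_inv_cancel, MulAut.one_apply]
    have key2 : ∀ (e e' : ℕ) (x y : M), τ x = x → τ y = y → e ≤ e' → (σ ^ e) x = (σ ^ e') y →
        x = y ∧ (σ ^ (e' - e)) y = y := by
      intro e e' x y hx hy hle hxy
      have h1 : (σ ^ (e' - e)) y = x := (σ ^ e).injective (by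
        rw [← MulAut.mul_apply, ← pow_add, Nat.add_sub_cancel' hle, hxy])
      have h2 := key y x _ hy hx h1
      exact ⟨h1.symm.trans h2, h2⟩
    have hfin : ∀ (i j : Fin 3) (k l : Fin 3), (i : ℕ) ≤ j → (i, k) ≠ (j, l) →
        (σ ^ (i : ℕ)) (F k) = (σ ^ (j : ℕ)) (F l) → False := by
      intro i j k l hle hne' he'
      obtain ⟨e1, e2⟩ := key2 _ _ _ _ ((hK _).1 (hFK k)) ((hK _).1 (hFK l)) hle he'
      obtain rfl := hFi e1
      have hij : (i : ℕ) ≠ j := fun h => hne' (by rw [Fin.ext h])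
      have hj := j.2
      rcases (show (j : ℕ) - i = 1 ∨ (j : ℕ) - i = 2 by omega) with h | h <;> rw [h] at e2
      · exact hmove k (by simpa using e2)
      · exact hmove k (fix_of_sq hσ (by simpa [sq] using e2))
    rcases le_total (i : ℕ) j with hle | hle
    · exact hfin i j k l hle hne' he'
    · exact hfin j i l k hle (Ne.symm hne') he'.symm
  refine MulEquiv.ext fun v => ?_
  show (σ ^ 3) v = v
  by_cases hv : v = 1
  · rw [hv, map_one]
  have hf2 : ∀ d : ℕ, (σ ^ d) f = f := fun d => by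
    induction d with
    | zero => rfl
    | succ d ih => rw [pow_succ, MulAut.mul_apply, hf, ih]
  have main : ∀ d : ℕ, d = 1 ∨ d = 2 ∨ d = 3 → ((σ ^ d) v = v ∨ (σ ^ d) v = v * f) →
      (σ ^ 3) v = v := by
    intro d hd h
    have h2 : (σ ^ d) v = v := fix_of_sq (odd_orderOf_pow hσ d) (by
      rcases h with h | h
      · rw [h, h]
      · rw [h, map_mul, h, hf2, mul_assoc, hexp, mul_one])
    rcases hd with rfl | rfl | rfl
    · rw [pow_one] at h2
      rw [pow_succ, pow_succ, pow_one, MulAut.mul_apply, MulAut.mul_apply, h2, h2, h2]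
    · have h3 := fix_of_sq hσ (by simpa [sq] using h2)
      rw [pow_succ, MulAut.mul_apply, h3, h2]
    · exact h2
  rcases eq_or_ne ((σ ^ 1) v) v with h | hne1
  · exact main 1 (by simp) (Or.inl h)
  rcases hsmall with ⟨rfl, h4⟩ | hf1
  · let Ψ : Fin 4 → {x : M // x ≠ 1} := fun i =>
      ⟨(σ ^ (i : ℕ)) v, (map_ne_one_iff _ (MulEquiv.injective _)).2 hv⟩
    obtain ⟨i, j, hij, he⟩ := exists_pair_of_card_lt Ψ (by
      have := card_ne_one_lt (M := M) (n := 3) h4
      rw [Nat.card_fin]; omega)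
    wlog hle : (i : ℕ) ≤ j generalizing i j
    · exact this j i hij.symm he.symm (by omega)
    have h1 : (σ ^ ((j : ℕ) - i)) v = v := (σ ^ (i : ℕ)).injective (by
      rw [← MulAut.mul_apply, ← pow_add, Nat.add_sub_cancel' hle]
      exact (congrArg Subtype.val he).symm)
    have := j.2
    have : (i : ℕ) ≠ j := fun h => hij (Fin.ext h)
    exact main _ (by omega) (Or.inl h1)
  · by_cases hvf : v = f
    · rw [hvf, hf2]
    have hfi : f⁻¹ = f := inv_eq_of_mul_eq_one_right (hexp f)
    have hpt : ∀ (i : ℕ) (e : Fin 2), (σ ^ i) v * f ^ (e : ℕ) ≠ 1 ∧ (σ ^ i) v * f ^ (e : ℕ) ≠ f := by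
      intro i e
      have h1 : (σ ^ i) v ≠ 1 := (map_ne_one_iff _ (MulEquiv.injective _)).2 hv
      have h2 : (σ ^ i) v ≠ f := fun h => hvf ((σ ^ i).injective (h.trans (hf2 i).symm))
      rcases Nat.lt_succ_iff.1 e.2 |>.eq_or_lt with he | he
      · rw [he, pow_one]
        exact ⟨fun h => h2 ((mul_eq_one_iff_eq_inv.1 h).trans hfi), fun h => h1 (mul_eq_right.1 h)⟩
      · rw [show (e : ℕ) = 0 by omega, pow_zero, mul_one]
        exact ⟨h1, h2⟩
    let Ψ : Fin 4 × Fin 2 → {x : {x : M // x ≠ 1} // (x : M) ≠ f} := fun z =>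
      ⟨⟨(σ ^ (z.1 : ℕ)) v * f ^ (z.2 : ℕ), (hpt _ _).1⟩, (hpt _ _).2⟩
    obtain ⟨⟨i, e⟩, ⟨j, e'⟩, hij, he⟩ := exists_pair_of_card_lt Ψ (by
      have h1 := Finite.card_subtype_lt (p := fun x : {x : M // x ≠ 1} => (x : M) ≠ f)
        (x := ⟨f, hf1⟩) (by simp)
      have := card_ne_one_lt (M := M) (n := 7) hcard
      rw [Nat.card_prod, Nat.card_fin, Nat.card_fin]; omega)
    wlog hle : (i : ℕ) ≤ j generalizing i j e e'
    · exact this j e' i e hij.symm he.symm (by omega)
    have h0 : (σ ^ (i : ℕ)) v * f ^ (e : ℕ) = (σ ^ (j : ℕ)) v * f ^ (e' : ℕ) :=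
      congrArg Subtype.val (congrArg Subtype.val he)
    have h1 : v * f ^ (e : ℕ) = (σ ^ ((j : ℕ) - i)) v * f ^ (e' : ℕ) :=
      (σ ^ (i : ℕ)).injective (by
        rw [map_mul, map_mul, map_pow, map_pow, hf2, ← MulAut.mul_apply, ← pow_add,
          Nat.add_sub_cancel' hle, h0])
    have := j.2
    by_cases hii : (i : ℕ) = j
    · exfalso
      rw [hii, Nat.sub_self, pow_zero, MulAut.one_apply, mul_right_inj] at h1
      have hee : e ≠ e' := fun h => hij (by rw [Fin.ext hii, h])
      fin_cases e <;> fin_cases e' <;> simp_all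
    refine main ((j : ℕ) - i) (by omega) ?_
    rcases (show (e : ℕ) = 0 ∨ (e : ℕ) = 1 by omega) with he1 | he1 <;>
      rcases (show (e' : ℕ) = 0 ∨ (e' : ℕ) = 1 by omega) with he2 | he2 <;>
      rw [he1, he2] at h1 <;>
      simp only [pow_one, pow_zero, mul_one] at h1
    · exact Or.inl h1.symm
    · exact Or.inr ((eq_mul_inv_of_mul_eq h1.symm).trans (by rw [hfi]))
    · exact Or.inr h1.symm
    · exact Or.inl (mul_right_cancel h1).symm

/-- Counting the fixed points of an automorphism of order three. -/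
theorem card_modEq_fix {σ : MulAut M} (hσ : σ ^ 3 = 1) :
    Nat.card M ≡ Nat.card {v : M // σ v = v} [MOD 3] := by
  haveI : Fact (Nat.Prime 3) := ⟨Nat.prime_three⟩
  have hp : IsPGroup 3 (zpowers σ) := by
    obtain ⟨l, -, hl⟩ := (Nat.dvd_prime_pow Nat.prime_three).1 (orderOf_dvd_of_pow_eq_one
      (show σ ^ 3 ^ 1 = 1 by rw [pow_one]; exact hσ))
    exact IsPGroup.of_card (n := l) (by rw [Nat.card_zpowers, hl])
  have e : Nat.card (MulAction.fixedPoints (zpowers σ) M) = Nat.card {v : M // σ v = v} :=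
    Nat.card_congr (Equiv.subtypeEquivRight fun v => ⟨fun h => h ⟨σ, mem_zpowers σ⟩,
      fun h g => by
        have : (zpowers σ) ≤ MulAction.stabilizer (MulAut M) v :=
          zpowers_le.2 (MulAction.mem_stabilizer_iff.2 h)
        exact this g.2⟩)
  rw [← e]
  exact hp.card_modEq_card_fixedPoints M

end Elementary

section Displacement

variable {P : Type u} [Group P]

/-- The subgroup generated by the displacements of `α`. -/
def comDisp (α : MulAut P) : Subgroup P := closure (Set.range fun p : P => p⁻¹ * α p)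

theorem disp_mem (α : MulAut P) (p : P) : p⁻¹ * α p ∈ comDisp α := subset_closure ⟨p, rfl⟩

theorem comDisp_apply_mem (α : MulAut P) {q : P} (hq : q ∈ comDisp α) : α q ∈ comDisp α := by
  induction hq using closure_induction with
  | mem x hx =>
    obtain ⟨p, rfl⟩ := hx
    rw [map_mul, map_inv]
    exact disp_mem α (α p)
  | one => simp
  | mul x y _ _ hx hy => rw [map_mul]; exact mul_mem hx hy
  | inv x _ hx => rw [map_inv]; exact inv_mem hx

instance comDisp_normal (α : MulAut P) : (comDisp α).Normal := by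
  refine ⟨fun n hn k => ?_⟩
  induction hn using closure_induction with
  | mem x hx =>
    obtain ⟨p, rfl⟩ := hx
    have h := mul_mem (disp_mem α (p * k⁻¹)) (inv_mem (disp_mem α k⁻¹))
    simpa [mul_assoc] using h
  | one => simp
  | mul x y _ _ hx hy =>
    rw [show k * (x * y) * k⁻¹ = k * x * k⁻¹ * (k * y * k⁻¹) by group]
    exact mul_mem hx hy
  | inv x _ hx =>
    rw [show k * x⁻¹ * k⁻¹ = (k * x * k⁻¹)⁻¹ by group]
    exact inv_mem hx

/-- The restriction to the displacement group. -/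
def dispAut (α : MulAut P) (h3 : α ^ 3 = 1) : MulAut (comDisp α) where
  toFun q := ⟨α q, comDisp_apply_mem α q.2⟩
  invFun q := ⟨α (α q), comDisp_apply_mem α (comDisp_apply_mem α q.2)⟩
  left_inv q := Subtype.ext (by
    show α (α (α q)) = q
    simpa [pow_succ] using congrArg (fun f : MulAut P => f q) h3)
  right_inv q := Subtype.ext (by
    show α (α (α q)) = q
    simpa [pow_succ] using congrArg (fun f : MulAut P => f q) h3)
  map_mul' x y := Subtype.ext (map_mul α x.1 y.1)

theorem dispAut_apply (α : MulAut P) (h3 : α ^ 3 = 1) (q : comDisp α) :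
    ((dispAut α h3 q : comDisp α) : P) = α q := rfl

variable [Finite P]

/-- Fixed points cover the quotient by the displacements. -/
theorem exists_fix_mul (hP : IsPGroup 2 P) {α : MulAut P} (h3 : α ^ 3 = 1) (p : P) :
    ∃ c, α c = c ∧ c⁻¹ * p ∈ comDisp α := by
  haveI : Fact (Nat.Prime 3) := ⟨Nat.prime_three⟩
  haveI : Fact (Nat.Prime 2) := ⟨Nat.prime_two⟩
  set Q := comDisp α
  have hp3 : IsPGroup 3 (zpowers α) := by
    obtain ⟨l, -, hl⟩ := (Nat.dvd_prime_pow Nat.prime_three).1 (orderOf_dvd_of_pow_eq_one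
      (show α ^ 3 ^ 1 = 1 by rw [pow_one]; exact h3))
    exact IsPGroup.of_card (n := l) (by rw [Nat.card_zpowers, hl])
  let C : SubMulAction (zpowers α) P :=
    { carrier := {y | p⁻¹ * y ∈ Q}
      smul_mem' := by
        rintro ⟨g, hg⟩ y hy
        show p⁻¹ * g y ∈ Q
        obtain ⟨i, rfl⟩ := mem_zpowers_iff.1 hg
        obtain ⟨n, hn⟩ : ∃ n : ℕ, α ^ i = α ^ n := by
          refine ⟨(i % 3).toNat, ?_⟩
          rw [← zpow_natCast, Int.toNat_of_nonneg (Int.emod_nonneg i (by norm_num : (3 : ℤ) ≠ 0))]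
          norm_cast
          conv_lhs => rw [← Int.mul_ediv_add_emod i 3, zpow_add, zpow_mul,
            show (3 : ℤ) = ((3 : ℕ) : ℤ) from rfl, zpow_natCast, h3, one_zpow, one_mul]
          rfl
        rw [hn]
        clear hn
        induction n generalizing y with
        | zero => exact hy
        | succ n ih =>
          rw [pow_succ, MulAut.mul_apply]
          refine @ih (α y) ?_
          show p⁻¹ * α y ∈ Q
          rw [show p⁻¹ * α y = p⁻¹ * y * (y⁻¹ * α y) by group]
          exact mul_mem hy (disp_mem α y) }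
  have hcard : Nat.card C = Nat.card Q := Nat.card_congr
    { toFun := fun y => ⟨p⁻¹ * y.1, y.2⟩
      invFun := fun q => ⟨p * q.1, by show p⁻¹ * (p * q.1) ∈ Q; rw [inv_mul_cancel_left]; exact q.2⟩
      left_inv := fun y => Subtype.ext (mul_inv_cancel_left p y.1)
      right_inv := fun q => Subtype.ext (inv_mul_cancel_left p q.1) }
  have hnd : ¬ 3 ∣ Nat.card C := by
    rw [hcard]
    obtain ⟨n, hn⟩ := IsPGroup.iff_card.1 (hP.to_subgroup Q)
    rw [hn]
    exact fun h => absurd (Nat.prime_three.dvd_of_dvd_pow h) (by norm_num)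
  obtain ⟨⟨c, hc⟩, hfix⟩ := hp3.nonempty_fixed_point_of_prime_not_dvd_card C hnd
  refine ⟨c, congrArg Subtype.val (hfix ⟨α, mem_zpowers α⟩), ?_⟩
  have := inv_mem (show p⁻¹ * c ∈ Q from hc)
  rwa [mul_inv_rev, inv_inv] at this

theorem comDisp_dispAut (hP : IsPGroup 2 P) {α : MulAut P} (h3 : α ^ 3 = 1) :
    comDisp (dispAut α h3) = ⊤ := by
  set Q := comDisp α
  set D := (comDisp (dispAut α h3)).map Q.subtype with hD
  suffices h : Q ≤ D by
    refine eq_top_iff.2 fun q _ => ?_
    obtain ⟨x, hx, hxq⟩ := h q.2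
    rwa [← show x = q from Subtype.ext hxq]
  refine (closure_le _).2 ?_
  rintro _ ⟨p, rfl⟩
  obtain ⟨c, hc, hcp⟩ := exists_fix_mul hP h3 p
  set q := c⁻¹ * p with hq
  have hconj : ∀ x ∈ D, x ∈ D := fun x hx => hx
  have h1 : q⁻¹ * α q ∈ D := ⟨_, disp_mem (dispAut α h3) ⟨q, hcp⟩, rfl⟩
  show p⁻¹ * α p ∈ D
  rw [show p = c * q by rw [hq]; group, map_mul, hc]
  simpa [mul_assoc] using h1

end Displacement

section Quotient

variable {Q : Type u} [Group Q] {β : MulAut Q}

/-- The norm vanishes on an abelian group generated by displacements. -/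
theorem norm_eq_one (hcomm : ∀ x y : Q, x * y = y * x) (h3 : β ^ 3 = 1) (htop : comDisp β = ⊤)
    (x : Q) : x * β x * β (β x) = 1 := by
  letI : CommGroup Q := { (inferInstance : Group Q) with mul_comm := hcomm }
  let N : Q →* Q := MonoidHom.mk' (fun x => x * β x * β (β x)) fun x y => by
    simp only [map_mul]
    ac_rfl
  have hle : comDisp β ≤ N.ker := (closure_le _).2 fun z ⟨y, hy⟩ => by
    subst hy
    rw [SetLike.mem_coe, MonoidHom.mem_ker]
    show y⁻¹ * β y * β (y⁻¹ * β y) * β (β (y⁻¹ * β y)) = 1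
    have h := congrArg (fun f : MulAut Q => f y) h3
    simp only [pow_succ, pow_zero, one_mul, MulAut.mul_apply, MulAut.one_apply] at h
    simp only [map_mul, map_inv, h]
    group
  exact MonoidHom.mem_ker.1 (hle (htop.ge (mem_top x)))

/-- No nontrivial fixed point. -/
theorem eq_one_of_fix [Finite Q] (hQ : IsPGroup 2 Q) (hcomm : ∀ x y : Q, x * y = y * x)
    (h3 : β ^ 3 = 1) (htop : comDisp β = ⊤) {x : Q} (hx : β x = x) : x = 1 := by
  have h := norm_eq_one hcomm h3 htop x
  rw [hx, hx] at h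
  obtain ⟨k, hk⟩ := IsPGroup.iff_orderOf.1 hQ x
  refine orderOf_eq_one_iff.1 (Nat.eq_one_of_dvd_coprimes
    (show Nat.Coprime (2 ^ k) 3 from Nat.Coprime.pow_left _ (by norm_num)) (hk ▸ dvd_rfl)
    (orderOf_dvd_of_pow_eq_one ?_))
  rw [pow_succ, pow_succ, pow_one]; exact h

theorem frattini_quot_sq [Finite Q] (hQ : IsPGroup 2 Q) (v : Q ⧸ frattini Q) : v * v = 1 := by
  haveI : Fact (Nat.Prime 2) := ⟨Nat.prime_two⟩
  obtain ⟨x, rfl⟩ := QuotientGroup.mk_surjective v
  rw [← QuotientGroup.mk_mul, QuotientGroup.eq_one_iff, ← sq]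
  exact CfsgLib.Coprime.pow_mem_frattini hQ x

theorem frattini_quot_comm [Finite Q] (hQ : IsPGroup 2 Q) (x y : Q ⧸ frattini Q) :
    x * y = y * x := by
  have hi : ∀ w : Q ⧸ frattini Q, w⁻¹ = w := fun w =>
    inv_eq_of_mul_eq_one_right (frattini_quot_sq hQ w)
  calc x * y = (x * y)⁻¹ := (hi _).symm
    _ = y * x := by rw [mul_inv_rev, hi, hi]

theorem frAut_cube (h3 : β ^ 3 = 1) : CfsgLib.PGroup.MetaTwo.frAut β ^ 3 = 1 := by
  rw [← map_pow, h3, map_one]

theorem comDisp_frAut (htop : comDisp β = ⊤) :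
    comDisp (CfsgLib.PGroup.MetaTwo.frAut β) = ⊤ := by
  refine eq_top_iff.2 fun v _ => ?_
  obtain ⟨x, rfl⟩ := QuotientGroup.mk_surjective v
  have hle : comDisp β ≤ (comDisp (CfsgLib.PGroup.MetaTwo.frAut β)).comap
      (QuotientGroup.mk' (frattini Q)) := (closure_le _).2 fun z ⟨y, hy⟩ => by
    subst hy
    exact disp_mem (CfsgLib.PGroup.MetaTwo.frAut β) (y : Q ⧸ frattini Q)
  exact hle (htop.ge (mem_top x))

/-- A group generated by displacements has two generators. -/
theorem index_frattini_four [Finite Q] [Nontrivial Q] (hQ : IsPGroup 2 Q) (h3 : β ^ 3 = 1)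
    (htop : comDisp β = ⊤) (h8 : (frattini Q).index ≤ 8) :
    (frattini Q).index = 4 ∧ ∀ x, x ∉ frattini Q → x⁻¹ * β x ∉ frattini Q := by
  haveI : Fact (Nat.Prime 2) := ⟨Nat.prime_two⟩
  set V := Q ⧸ frattini Q
  set b := CfsgLib.PGroup.MetaTwo.frAut β with hb
  have hfix : ∀ v : V, b v = v → v = 1 := fun v hv =>
    eq_one_of_fix (hQ.to_quotient _) (frattini_quot_comm hQ) (frAut_cube h3) (comDisp_frAut htop) hv
  refine ⟨?_, fun x hx hmem => hx ((QuotientGroup.eq_one_iff _).1 (hfix _ ?_))⟩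
  · have h1 := card_modEq_fix (frAut_cube (β := β) h3)
    have hone : Nat.card {v : V // b v = v} = 1 := by
      haveI : Subsingleton {v : V // b v = v} :=
        ⟨fun x y => Subtype.ext ((hfix _ x.2).trans (hfix _ y.2).symm)⟩
      exact Nat.card_eq_one_iff_unique.2 ⟨inferInstance, ⟨⟨1, map_one b⟩⟩⟩
    rw [← hb, hone] at h1
    obtain ⟨k, hk⟩ := IsPGroup.iff_card.1 (hQ.to_quotient (frattini Q))
    rw [← Subgroup.index_eq_card] at hk h1
    have hne : frattini Q ≠ ⊤ := fun h => by
      have := frattini_nongenerating (K := (⊥ : Subgroup Q)) (by rw [h, sup_top_eq])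
      exact not_nontrivial_iff_subsingleton.2 (Subgroup.subsingleton_iff.1 (subsingleton_of_bot_eq_top this))
        inferInstance
    have hne1 : (frattini Q).index ≠ 1 := fun h => hne (index_eq_one.1 h)
    rw [hk] at h8 hne1 h1 ⊢
    have hk3 : k ≤ 3 := (Nat.pow_le_pow_iff_right (le_refl 2)).1 (h8.trans_eq (by norm_num))
    unfold Nat.ModEq at h1
    interval_cases k <;> simp_all
  · show ((β x : Q) : V) = x
    exact (QuotientGroup.eq.2 hmem).symm

/-- A nontrivial abelian group generated by displacements has a moved involution. -/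
theorem exists_moved_involution [Finite Q] [Nontrivial Q] (hQ : IsPGroup 2 Q)
    (hcomm : ∀ x y : Q, x * y = y * x) (h3 : β ^ 3 = 1) (htop : comDisp β = ⊤) :
    ∃ y : Q, y * y = 1 ∧ y ≠ 1 ∧ β y ≠ y := by
  haveI : Fact (Nat.Prime 2) := ⟨Nat.prime_two⟩
  obtain ⟨y, hy⟩ := exists_prime_orderOf_dvd_card' 2 (show 2 ∣ Nat.card Q by
    obtain ⟨n, hn⟩ := IsPGroup.iff_card.1 hQ
    have h1 : 1 < Nat.card Q := Finite.one_lt_card
    rw [hn] at h1 ⊢
    exact dvd_pow_self 2 (by rintro rfl; simp at h1))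
  have hy1 : y ≠ 1 := fun h => by rw [h, orderOf_one] at hy; omega
  exact ⟨y, by rw [← sq, ← hy, pow_orderOf_eq_one], hy1,
    fun h => hy1 (eq_one_of_fix hQ hcomm h3 htop h)⟩

end Quotient

section Operator

variable {P : Type u} [Group P] [Finite P] {α : MulAut P}

/-- At most one nontrivial fixed point in the Frattini quotient, and cyclic quotient by the
displacements. -/
theorem quotient_facts (hP : IsPGroup 2 P) (h3 : α ^ 3 = 1) (h1 : α ≠ 1)
    (h8 : (frattini P).index ≤ 8) :
    (∀ v w : P, v⁻¹ * α v ∈ frattini P → w⁻¹ * α w ∈ frattini P → v ∉ frattini P →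
      w ∉ frattini P → v⁻¹ * w ∈ frattini P) ∧
    ∃ f : P, α f = f ∧ zpowers f ⊔ comDisp α = ⊤ := by
  haveI : Fact (Nat.Prime 2) := ⟨Nat.prime_two⟩
  set V := P ⧸ frattini P
  set b := CfsgLib.PGroup.MetaTwo.frAut α with hb
  have hb1 : b ≠ 1 := fun h => by
    obtain ⟨k, hk⟩ := CfsgLib.PGroup.MetaTwo.isPGroup_ker_frAut hP
      (⟨α, h⟩ : (CfsgLib.PGroup.MetaTwo.frAut (R := P)).ker)
    have hk' : α ^ 2 ^ k = 1 := congrArg Subtype.val hk
    exact h1 (orderOf_eq_one_iff.1 (Nat.eq_one_of_dvd_coprimes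
      (show Nat.Coprime (2 ^ k) 3 from Nat.Coprime.pow_left _ (by norm_num))
      (orderOf_dvd_of_pow_eq_one hk') (orderOf_dvd_of_pow_eq_one h3)))
  -- at most two fixed points
  let Fx : Subgroup V := b.toMonoidHom.eqLocus (MonoidHom.id V)
  have hFx : ∀ v, v ∈ Fx ↔ b v = v := fun v => Iff.rfl
  have hmod := card_modEq_fix (frAut_cube (β := α) h3)
  rw [show Nat.card {v : V // CfsgLib.PGroup.MetaTwo.frAut α v = v} = Nat.card Fx from rfl,
    ← Subgroup.index_eq_card] at hmod
  obtain ⟨k, hk⟩ := IsPGroup.iff_card.1 (hP.to_quotient (frattini P))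
  obtain ⟨l, hl⟩ := IsPGroup.iff_card.1 ((hP.to_quotient (frattini P)).to_subgroup Fx)
  rw [← Subgroup.index_eq_card] at hk
  have hlk : l < k := by
    have hne : Fx ≠ ⊤ := fun h => hb1 (MulEquiv.ext fun v => h.ge (mem_top v))
    have h2 : Nat.card Fx < Nat.card V := lt_of_le_of_ne (Subgroup.card_le_card_group Fx)
      fun h => hne (eq_top_of_card_eq _ h)
    rw [hl, ← Subgroup.index_eq_card, hk] at h2
    exact (Nat.pow_lt_pow_iff_right one_lt_two).1 h2
  have hk3 : k ≤ 3 := (Nat.pow_le_pow_iff_right (le_refl 2)).1 (hk ▸ h8)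
  have hl1 : l ≤ 1 := by
    rw [hk, hl] at hmod
    unfold Nat.ModEq at hmod
    interval_cases k <;> interval_cases l <;> simp_all
  have hFxle : Nat.card Fx ≤ 2 := hl ▸ (Nat.pow_le_pow_right two_pos hl1).trans_eq (pow_one 2)
  have hone : ∀ v w : P, v⁻¹ * α v ∈ frattini P → w⁻¹ * α w ∈ frattini P → v ∉ frattini P →
      w ∉ frattini P → v⁻¹ * w ∈ frattini P := by
    intro v w hv hw hv1 hw1
    by_contra hne
    have hmem : ∀ {x : P}, x⁻¹ * α x ∈ frattini P → (x : V) ∈ Fx := fun {x} hx => by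
      rw [hFx, hb, CfsgLib.PGroup.MetaTwo.frAut_mk]
      exact (QuotientGroup.eq.2 hx).symm
    let g : Fin 3 → Fx := ![1, ⟨v, hmem hv⟩, ⟨w, hmem hw⟩]
    obtain ⟨i, j, hij, he⟩ := exists_pair_of_card_lt g (by rw [Nat.card_fin]; omega)
    have e1 : ((v : V)) ≠ 1 := fun h => hv1 ((QuotientGroup.eq_one_iff _).1 h)
    have e2 : ((w : V)) ≠ 1 := fun h => hw1 ((QuotientGroup.eq_one_iff _).1 h)
    have e3 : ((v : V)) ≠ w := fun h => hne (QuotientGroup.eq.1 h)
    have hv' := congrArg Subtype.val he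
    fin_cases i <;> fin_cases j <;>
      first
        | exact hij rfl
        | exact e1 hv'
        | exact e1 hv'.symm
        | exact e2 hv'
        | exact e2 hv'.symm
        | exact e3 hv'
        | exact e3 hv'.symm
  refine ⟨hone, ?_⟩
  -- the quotient by the displacements is cyclic
  set K := comDisp α ⊔ frattini P with hK
  have hcov : ∀ p : P, ∃ c, α c = c ∧ c⁻¹ * p ∈ comDisp α := exists_fix_mul hP h3
  by_cases hall : ∀ c, α c = c → c ∈ K
  · refine ⟨1, map_one α, ?_⟩
    rw [zpowers_one_eq_bot, bot_sup_eq]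
    refine frattini_nongenerating (eq_top_iff.2 fun p _ => ?_)
    obtain ⟨c, hc, hcp⟩ := hcov p
    have := mul_mem (hall c hc) (mem_sup_left (T := frattini P) hcp)
    rwa [mul_inv_cancel_left] at this
  push Not at hall
  obtain ⟨f, hf, hfK⟩ := hall
  refine ⟨f, hf, frattini_nongenerating (eq_top_iff.2 fun p _ => ?_)⟩
  obtain ⟨c, hc, hcp⟩ := hcov p
  have hc' : c ∈ zpowers f ⊔ comDisp α ⊔ frattini P := by
    by_cases hcF : c ∈ frattini P
    · exact mem_sup_right hcF
    have h2 : f⁻¹ * c ∈ frattini P := hone f c (by simp [hf])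
      (by simp [hc]) (fun h => hfK (mem_sup_right h)) hcF
    have := mul_mem (mem_sup_left (T := frattini P) (mem_sup_left (T := comDisp α) (mem_zpowers f)))
      (mem_sup_right (S := zpowers f ⊔ comDisp α) h2)
    rwa [mul_inv_cancel_left] at this
  have := mul_mem hc' (mem_sup_left (mem_sup_right (S := zpowers f) hcp))
  rwa [mul_inv_cancel_left] at this

end Operator

end CfsgLib.Fusion.Bicyclic
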