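import Cfsg.Agent.Lib.Fusion.System.Bicyclic.System
import Cfsg.Agent.Lib.Fusion.System.Bicyclic.OddAut

/-!
# The automorphism of order 3 of `⟨u, v⟩ ∘ ⟨e, s⟩`

`u` and `v` square to `s` and have commutator `s`, so with a central `⟨e, s⟩` they span either
`V × E` or `Q₈ ∘ E`.  The map `u ↦ v ↦ u v` gives the data for a saturated system which is not
inner, given an element `w` with `u ↦ u` or `u s` and `v ↦ u v`.
-/

set_option autoImplicit false
set_option linter.style.haveILetI false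
set_option linter.unusedSectionVars false

open Subgroup
open scoped Classical

namespace CfsgLib.Fusion.Bicyclic

open Cfsg.FusionSystem (normalizerIn centralizerIn)

variable {Ω : Type*} [Group Ω]

/-- A power with exponent 0 or 1. -/
def bpow (x : Ω) : Bool → Ω
  | true => x
  | false => 1

theorem bpow_mem {H : Subgroup Ω} {x : Ω} (hx : x ∈ H) : ∀ i, bpow x i ∈ H
  | true => hx
  | false => one_mem H

theorem bpow_commute {x y : Ω} (h : Commute x y) : ∀ i, Commute (bpow x i) y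
  | true => h
  | false => Commute.one_left y

/-- The configuration. -/
structure Conf (S : Subgroup Ω) (u v e s w : Ω) : Prop where
  u_mem : u ∈ S
  v_mem : v ∈ S
  e_mem : e ∈ S
  w_mem : w ∈ S
  u_sq : u * u = s
  v_sq : v * v = s
  s_sq : s * s = 1
  vu : v * u = u * v * s
  e_u : Commute e u
  e_v : Commute e v
  central : ∀ x ∈ S, Commute x s
  w_e : Commute w e
  w_u : w * u * w⁻¹ = u ∨ w * u * w⁻¹ = u * s
  w_v : w * v * w⁻¹ = u * v
  u_out : u ∉ closure ({e, s} : Set Ω)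
  v_out : v ∉ closure ({e, s} : Set Ω)
  uv_out : u * v ∉ closure ({e, s} : Set Ω)
  w_out : w ∉ closure ({u, v, e} : Set Ω)
  cent : ∀ g ∈ S, Commute g v → g ∈ closure ({u, v, e} : Set Ω)
  norm : ∀ g ∈ S, g * v * g⁻¹ ∈ closure ({u, v, e} : Set Ω) →
    g ∈ closure ({u, v, e} : Set Ω) ∨ w⁻¹ * g ∈ closure ({u, v, e} : Set Ω)

/-- Two elements spanning a four-group or a quaternion group over `E`. -/
structure Span (E : Subgroup Ω) (s U V : Ω) : Prop where
  U_sq : U * U = s
  V_sq : V * V = s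
  VU : V * U = U * V * s
  cU : ∀ y ∈ E, Commute y U
  cV : ∀ y ∈ E, Commute y V

/-- The product on normal forms. -/
theorem Span.mul {E : Subgroup Ω} {s U V : Ω} (hs : s ∈ E) (hs2 : s * s = 1)
    (hE : ∀ a ∈ E, ∀ b ∈ E, Commute a b) (h : Span E s U V) (i j k l : Bool) {y y' : Ω}
    (hy : y ∈ E) (hy' : y' ∈ E) :
    bpow U i * bpow V j * y * (bpow U k * bpow V l * y') = bpow U (xor i k) * bpow V (xor j l) *
      (bpow s (i && k) * bpow s (j && k) * bpow s (j && l) * (y * y')) := by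
  have hsU := h.cU s hs
  have hsV := h.cV s hs
  have e1 : bpow U i * bpow U k = bpow U (xor i k) * bpow s (i && k) := by
    cases i <;> cases k <;> simp [bpow, h.U_sq]
  have e2 : bpow V j * bpow U k = bpow U k * bpow V j * bpow s (j && k) := by
    cases j <;> cases k <;> simp [bpow, h.VU]
  have e3 : bpow V j * bpow V l = bpow V (xor j l) * bpow s (j && l) := by
    cases j <;> cases l <;> simp [bpow, h.V_sq]
  have c1 : Commute y (bpow U k * bpow V l) :=
    ((bpow_commute (h.cU y hy).symm k).symm).mul_right (bpow_commute (h.cV y hy).symm l).symm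
  have c2 : Commute (bpow s (j && k)) (bpow V l) := bpow_commute (bpow_commute hsV.symm l).symm _
  have c3 : Commute (bpow s (i && k)) (bpow V (xor j l)) :=
    bpow_commute (bpow_commute hsV.symm _).symm _
  have c4 : Commute (bpow s (j && k)) (bpow s (j && l)) :=
    hE _ (bpow_mem hs _) _ (bpow_mem hs _)
  calc bpow U i * bpow V j * y * (bpow U k * bpow V l * y')
      = bpow U i * bpow V j * (y * (bpow U k * bpow V l)) * y' := by group
    _ = bpow U i * (bpow V j * bpow U k) * bpow V l * (y * y') := by rw [c1.eq]; group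
    _ = bpow U i * bpow U k * bpow V j * (bpow s (j && k) * bpow V l) * (y * y') := by
      rw [e2]; group
    _ = bpow U i * bpow U k * (bpow V j * bpow V l) * bpow s (j && k) * (y * y') := by
      rw [c2.eq]; group
    _ = bpow U (xor i k) * (bpow s (i && k) * bpow V (xor j l)) *
        (bpow s (j && l) * bpow s (j && k)) * (y * y') := by rw [e1, e3]; group
    _ = _ := by rw [c3.eq, ← c4.eq]; group

/-- In an abelian 2-group on two generators, an automorphism of odd order fixing one involution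
is trivial. -/
theorem aut_eq_one {Q : Type*} [CommGroup Q] [Finite Q] (hQ : IsPGroup 2 Q) {x y z : Q}
    (hgen : closure ({x, y} : Set Q) = ⊤) (hz1 : z ≠ 1) (hz : z * z = 1) {φ : MulAut Q}
    (hφ : Odd (orderOf φ)) (hφz : φ z = z) : φ = 1 := by
  let sqh : Q →* Q := powMonoidHom 2
  have hker : Nat.card sqh.ker ≤ 4 := by
    have h1 : sqh.range.index ≤ 4 := by
      rw [Subgroup.index_eq_card]
      refine (Nat.card_le_card_of_surjective
        (fun p : Bool × Bool => ((bpow x p.1 * bpow y p.2 : Q) : Q ⧸ sqh.range)) fun q => ?_).trans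
        (by simp)
      obtain ⟨g, rfl⟩ := QuotientGroup.mk_surjective q
      obtain ⟨i, j, rfl⟩ := Subgroup.mem_closure_pair.1 (hgen.ge (mem_top g))
      have hev : ∀ (g : Q) (i : ℤ), ∃ b : Bool, ∃ n : ℤ, g ^ i = bpow g b * (g ^ n) ^ 2 := fun g i => by
        rcases Int.even_or_odd' i with ⟨n, rfl | rfl⟩
        · exact ⟨false, n, by rw [bpow, one_mul, sq, ← zpow_add, two_mul]⟩
        · exact ⟨true, n, by rw [bpow, sq, ← zpow_add, ← zpow_one_add]; ring_nf⟩
      obtain ⟨b, n, hn⟩ := hev x i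
      obtain ⟨b', n', hn'⟩ := hev y j
      refine ⟨(b, b'), QuotientGroup.eq.2 ⟨x ^ n * y ^ n', ?_⟩⟩
      show (x ^ n * y ^ n') ^ 2 = _
      rw [hn, hn', mul_mul_mul_comm, ← mul_pow, inv_mul_cancel_left]
    have h2 := Subgroup.card_mul_index sqh.ker
    have h3 := Subgroup.card_mul_index sqh.range
    rw [Subgroup.index_ker] at h2
    have h4 : 0 < Nat.card sqh.range := Nat.card_pos
    nlinarith
  have hfix : ∀ k : Q, k * k = 1 → φ k = k := by
    intro k hk
    by_contra hne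
    have hk2 : φ (φ k) ≠ k := fun h => hne (fix_of_sq hφ h)
    have hk1 : k ≠ 1 := fun e => hne (by rw [e, map_one])
    have hkz : k ≠ z := fun e => hne (by rw [e, hφz])
    have h1 : φ k ≠ 1 := fun e => hk1 (φ.injective (e.trans (map_one φ).symm))
    have h2 : φ k ≠ z := fun e => hkz (φ.injective (e.trans hφz.symm))
    have h3 : φ (φ k) ≠ 1 := fun e => h1 (φ.injective (e.trans (map_one φ).symm))
    have h4 : φ (φ k) ≠ z := fun e => h2 (φ.injective (e.trans hφz.symm))
    have h5 : φ (φ k) ≠ φ k := fun e => hne (φ.injective e)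
    have hm : ∀ g : Q, g * g = 1 → g ∈ sqh.ker := fun g hg => by
      show g ^ 2 = 1
      rw [sq, hg]
    have hall : ∀ g : Q, g * g = 1 → φ g * φ g = 1 := fun g hg => by rw [← map_mul, hg, map_one]
    set T : Finset Q := {1, z, k, φ k, φ (φ k)} with hT
    have hTc : T.card = 5 := by
      rw [hT, Finset.card_insert_of_notMem (by simp [hz1.symm, hk1.symm, h1.symm, h3.symm]),
        Finset.card_insert_of_notMem (by simp [hkz.symm, h2.symm, h4.symm]),
        Finset.card_insert_of_notMem (by simp [Ne.symm hne, Ne.symm hk2]),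
        Finset.card_insert_of_notMem (by simp [h5.symm]), Finset.card_singleton]
    have hTK : ∀ g ∈ T, g ∈ sqh.ker := by
      simp only [hT, Finset.mem_insert, Finset.mem_singleton]
      rintro g (rfl | rfl | rfl | rfl | rfl)
      exacts [one_mem _, hm _ hz, hm _ hk, hm _ (hall k hk), hm _ (hall _ (hall k hk))]
    have := Nat.card_le_card_of_injective (fun g : T => (⟨g, hTK g g.2⟩ : sqh.ker))
      fun a b hab => Subtype.ext (congrArg (fun g : sqh.ker => (g : Q)) hab)
    rw [Nat.card_eq_finsetCard, hTc] at this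
    omega
  refine MulEquiv.ext fun g => ?_
  show φ g = g
  induction hn : orderOf g using Nat.strong_induction_on generalizing g with
  | _ n ih =>
  by_cases hg : g = 1
  · rw [hg, map_one]
  have hlt : orderOf (g * g) < n := by
    obtain ⟨k, hk⟩ := IsPGroup.iff_orderOf.1 hQ g
    have hk0 : k ≠ 0 := fun e => hg (orderOf_eq_one_iff.1 (by rw [hk, e, pow_zero]))
    rw [← sq, orderOf_pow, ← hn, hk, Nat.gcd_eq_right (dvd_pow_self 2 hk0)]
    exact Nat.div_lt_self (by positivity) (by norm_num)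
  have h1 := ih _ hlt (g * g) rfl
  have hi : g⁻¹ * φ g * (g⁻¹ * φ g) = 1 := by
    rw [mul_mul_mul_comm, ← map_mul, h1, ← mul_inv, inv_mul_cancel]
  have h2 := hfix _ hi
  refine fix_of_sq hφ ?_
  calc φ (φ g) = φ g * φ (g⁻¹ * φ g) := by rw [← map_mul, mul_inv_cancel_left]
    _ = g * (g⁻¹ * φ g * (g⁻¹ * φ g)) := by rw [h2]; simp [mul_assoc]
    _ = g := by rw [hi, mul_one]

section Main

variable {S : Subgroup Ω} {u v e s w : Ω} (C : Conf S u v e s w)
include C

local notation "𝐏" => Subgroup.closure (insert u (insert v (Singleton.singleton e)) : Set Ω)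
local notation "𝐄" => Subgroup.closure (insert e (Singleton.singleton s) : Set Ω)

theorem Conf.mem_u : u ∈ 𝐏 := subset_closure (by simp)
theorem Conf.mem_v : v ∈ 𝐏 := subset_closure (by simp)
theorem Conf.mem_e : e ∈ 𝐏 := subset_closure (by simp)
theorem Conf.s_mem_E : s ∈ 𝐄 := subset_closure (by simp)
theorem Conf.s_mem : s ∈ S := C.u_sq ▸ mul_mem C.u_mem C.u_mem

theorem Conf.le : 𝐏 ≤ S := (closure_le _).2 fun x hx => by
  rcases hx with rfl | rfl | rfl
  exacts [C.u_mem, C.v_mem, C.e_mem]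

theorem Conf.E_le : 𝐄 ≤ 𝐏 := (closure_le _).2 fun x hx => by
  rcases hx with rfl | rfl
  exacts [C.mem_e, C.u_sq ▸ mul_mem C.mem_u C.mem_u]

theorem Conf.commute_E {x : Ω} (he : Commute e x) (hs : Commute s x) {y : Ω} (hy : y ∈ 𝐄) :
    Commute y x := by
  have h : 𝐄 ≤ Subgroup.centralizer {x} := (closure_le _).2 fun a ha => by
    rcases ha with rfl | rfl
    exacts [Subgroup.mem_centralizer_singleton_iff.2 he, Subgroup.mem_centralizer_singleton_iff.2 hs]
  exact Subgroup.mem_centralizer_singleton_iff.1 (h hy)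

theorem Conf.comm_E : ∀ a ∈ 𝐄, ∀ b ∈ 𝐄, Commute a b := fun a ha b hb =>
  C.commute_E (C.commute_E (Commute.refl e) (C.central e C.e_mem).symm hb).symm
    (C.commute_E (C.central e C.e_mem) (Commute.refl s) hb).symm ha

theorem Conf.w_fix {y : Ω} (hy : y ∈ 𝐄) : w * y * w⁻¹ = y := by
  rw [← (C.commute_E C.w_e.symm (C.central w C.w_mem).symm hy).eq, mul_inv_cancel_right]

theorem Conf.span : Span 𝐄 s u v :=
  ⟨C.u_sq, C.v_sq, C.vu, fun _ => C.commute_E C.e_u (C.central u C.u_mem).symm,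
    fun _ => C.commute_E C.e_v (C.central v C.v_mem).symm⟩

theorem Conf.span' : Span 𝐄 s v (u * v) := by
  have h1 : u * v * v = u * s := by rw [mul_assoc, C.v_sq]
  have h2 : v * (u * v) * s = u * s := by
    rw [← mul_assoc, C.vu, show u * v * s * v * s = u * v * (s * v) * s by group,
      ← (C.central v C.v_mem).eq, show u * v * (v * s) * s = u * (v * v) * (s * s) by group,
      C.v_sq, C.s_sq, mul_one]
  refine ⟨C.v_sq, ?_, h1.trans h2.symm, C.span.cV,
    fun y hy => (C.span.cU y hy).mul_right (C.span.cV y hy)⟩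
  rw [show u * v * (u * v) = u * (v * (u * v) * s) * s⁻¹ by group, h2, mul_assoc,
    mul_inv_cancel_right, C.u_sq]

theorem Conf.exists_form {x : Ω} (hx : x ∈ 𝐏) :
    ∃ i j : Bool, ∃ y ∈ 𝐄, x = bpow u i * bpow v j * y := by
  have hmul := fun i j k l {y y' : Ω} (hy : y ∈ 𝐄) (hy' : y' ∈ 𝐄) =>
    C.span.mul C.s_mem_E C.s_sq C.comm_E i j k l hy hy'
  have hm : ∀ i j k l : Bool, ∀ {y y' : Ω}, y ∈ 𝐄 → y' ∈ 𝐄 →
      bpow s (i && k) * bpow s (j && k) * bpow s (j && l) * (y * y') ∈ 𝐄 := fun i j k l y y' hy hy' =>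
    mul_mem (mul_mem (mul_mem (bpow_mem C.s_mem_E _) (bpow_mem C.s_mem_E _))
      (bpow_mem C.s_mem_E _)) (mul_mem hy hy')
  induction hx using closure_induction with
  | mem x hx =>
    rcases hx with rfl | rfl | rfl
    · exact ⟨true, false, 1, one_mem _, by simp [bpow]⟩
    · exact ⟨false, true, 1, one_mem _, by simp [bpow]⟩
    · exact ⟨false, false, x, subset_closure (by simp), by simp [bpow]⟩
  | one => exact ⟨false, false, 1, one_mem _, by simp [bpow]⟩
  | mul a b _ _ ha hb =>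
    obtain ⟨i, j, y, hy, rfl⟩ := ha
    obtain ⟨k, l, y', hy', rfl⟩ := hb
    exact ⟨_, _, _, hm i j k l hy hy', hmul i j k l hy hy'⟩
  | inv a _ ha =>
    obtain ⟨i, j, y, hy, rfl⟩ := ha
    set Y := bpow s (i && i) * bpow s (j && i) * bpow s (j && j) * (y * 1) with hY
    have hYm : Y ∈ 𝐄 := hm i j i j hy (one_mem _)
    refine ⟨i, j, 1 * Y⁻¹, mul_mem (one_mem _) (inv_mem hYm), inv_eq_of_mul_eq_one_right ?_⟩
    have := hmul i j i j hy (one_mem _)
    rw [← hY, Bool.xor_self, Bool.xor_self, mul_one (bpow u i * bpow v j)] at this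
    rw [one_mul, ← mul_assoc, this]
    simp [bpow]

theorem Conf.form_unique {i j k l : Bool} {y y' : Ω} (hy : y ∈ 𝐄) (hy' : y' ∈ 𝐄)
    (h : bpow u i * bpow v j * y = bpow u k * bpow v l * y') : i = k ∧ j = l ∧ y = y' := by
  have e := C.span.mul C.s_mem_E C.s_sq C.comm_E i j k l hy hy'
  have e' := C.span.mul C.s_mem_E C.s_sq C.comm_E k l k l hy' hy'
  rw [h, e', Bool.xor_self, Bool.xor_self] at e
  have hout : bpow u (xor i k) * bpow v (xor j l) ∈ 𝐄 := by
    rw [eq_mul_inv_of_mul_eq e.symm]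
    have hm : ∀ a b c : Bool, ∀ z ∈ 𝐄, bpow s a * bpow s b * bpow s c * z ∈ 𝐄 := fun a b c z hz =>
      mul_mem (mul_mem (mul_mem (bpow_mem C.s_mem_E _) (bpow_mem C.s_mem_E _))
        (bpow_mem C.s_mem_E _)) hz
    simp only [bpow, one_mul]
    exact mul_mem (hm _ _ _ _ (mul_mem hy' hy')) (inv_mem (hm _ _ _ _ (mul_mem hy hy')))
  have hik : i = k ∧ j = l := by
    revert hout
    cases i <;> cases k <;> cases j <;> cases l <;> simp [bpow, C.u_out, C.v_out, C.uv_out]
  obtain ⟨rfl, rfl⟩ := hik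
  exact ⟨rfl, rfl, mul_left_cancel h⟩

/-- The automorphism as a function. -/
theorem Conf.exists_fun : ∃ f : 𝐏 →* 𝐏, ∀ (i j : Bool) (y : Ω) (hy : y ∈ 𝐄)
    (h : bpow u i * bpow v j * y ∈ 𝐏), (f ⟨_, h⟩ : Ω) = bpow v i * bpow (u * v) j * y := by
  choose I J Y hY hform using fun x : 𝐏 => C.exists_form x.2
  let f : 𝐏 → 𝐏 := fun x => ⟨bpow v (I x) * bpow (u * v) (J x) * Y x,
    mul_mem (mul_mem (bpow_mem C.mem_v _) (bpow_mem (mul_mem C.mem_u C.mem_v) _)) (C.E_le (hY x))⟩
  have hval : ∀ (i j : Bool) (y : Ω) (hy : y ∈ 𝐄) (h : bpow u i * bpow v j * y ∈ 𝐏),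
      (f ⟨_, h⟩ : Ω) = bpow v i * bpow (u * v) j * y := by
    intro i j y hy h
    obtain ⟨e1, e2, e3⟩ := C.form_unique hy (hY ⟨_, h⟩) (hform ⟨_, h⟩)
    show bpow v (I _) * bpow (u * v) (J _) * Y _ = _
    rw [← e1, ← e2, ← e3]
  refine ⟨MonoidHom.mk' f fun a b => Subtype.ext ?_, hval⟩
  obtain ⟨i, j, y, hy, ha⟩ := C.exists_form a.2
  obtain ⟨k, l, y', hy', hb⟩ := C.exists_form b.2
  obtain ⟨a, ha'⟩ := a
  obtain ⟨b, hb'⟩ := b
  dsimp only at ha hb
  subst ha hb
  have hab := C.span.mul C.s_mem_E C.s_sq C.comm_E i j k l hy hy'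
  have hp : bpow u (xor i k) * bpow v (xor j l) *
      (bpow s (i && k) * bpow s (j && k) * bpow s (j && l) * (y * y')) ∈ 𝐏 :=
    hab ▸ mul_mem ha' hb'
  rw [Subgroup.coe_mul, hval i j y hy ha', hval k l y' hy' hb',
    C.span'.mul C.s_mem_E C.s_sq C.comm_E i j k l hy hy',
    show (⟨_, ha'⟩ * ⟨_, hb'⟩ : 𝐏) = ⟨_, hp⟩ from Subtype.ext hab]
  exact hval _ _ _ (mul_mem (mul_mem (mul_mem (bpow_mem C.s_mem_E _) (bpow_mem C.s_mem_E _))
      (bpow_mem C.s_mem_E _)) (mul_mem hy hy')) hp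

theorem Conf.exists_theta : ∃ θ : MulAut 𝐏, θ ^ 3 = 1 ∧ autFun θ u = v ∧ autFun θ v = u * v ∧
    ∀ y ∈ 𝐄, autFun θ y = y := by
  obtain ⟨f, hf⟩ := C.exists_fun
  have key : ∀ (x x' : Ω) (hx : x ∈ 𝐏) (i j : Bool) (y : Ω), y ∈ 𝐄 →
      x = bpow u i * bpow v j * y → x' = bpow v i * bpow (u * v) j * y →
      (f ⟨x, hx⟩ : Ω) = x' := by
    intro x x' hx i j y hy hxe hxe'
    subst hxe hxe'
    exact hf i j y hy hx
  have hfu : (f ⟨u, C.mem_u⟩ : Ω) = v :=
    key _ _ _ true false 1 (one_mem _) (by simp [bpow]) (by simp [bpow])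
  have hfv : (f ⟨v, C.mem_v⟩ : Ω) = u * v :=
    key _ _ _ false true 1 (one_mem _) (by simp [bpow]) (by simp [bpow])
  have hfy : ∀ y (hy : y ∈ 𝐄), (f ⟨y, C.E_le hy⟩ : Ω) = y := fun y hy =>
    key _ _ _ false false y hy (by simp [bpow]) (by simp [bpow])
  have h3 : ∀ x, f (f (f x)) = x := by
    have hu1 : f ⟨u, C.mem_u⟩ = ⟨v, C.mem_v⟩ := Subtype.ext hfu
    have hv1 : f ⟨v, C.mem_v⟩ = ⟨u, C.mem_u⟩ * ⟨v, C.mem_v⟩ := Subtype.ext hfv
    have hf3u : f (f (f ⟨u, C.mem_u⟩)) = ⟨u, C.mem_u⟩ := by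
      rw [hu1, hv1, map_mul, hu1, hv1]
      refine Subtype.ext ?_
      show v * (u * v) = u
      have h := congrArg (· * s) (show v * (u * v) * s = u * s by
        rw [← mul_assoc, C.vu, show u * v * s * v * s = u * v * (s * v) * s by group,
          ← (C.central v C.v_mem).eq, show u * v * (v * s) * s = u * (v * v) * (s * s) by group,
          C.v_sq, C.s_sq, mul_one])
      simpa [mul_assoc, C.s_sq] using h
    have hf3v : f (f (f ⟨v, C.mem_v⟩)) = ⟨v, C.mem_v⟩ := by
      calc f (f (f ⟨v, C.mem_v⟩)) = f (f (f (f ⟨u, C.mem_u⟩))) := by rw [hu1]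
        _ = f ⟨u, C.mem_u⟩ := by rw [hf3u]
        _ = _ := hu1
    rintro ⟨x, hx⟩
    induction hx using closure_induction with
    | mem x hx =>
      rcases hx with rfl | rfl | rfl
      · exact hf3u
      · exact hf3v
      · have he : f ⟨x, C.mem_e⟩ = ⟨x, C.mem_e⟩ := Subtype.ext (hfy x (subset_closure (by simp)))
        rw [he, he, he]
    | one => rw [show (⟨1, _⟩ : 𝐏) = 1 from rfl, map_one, map_one, map_one]
    | mul a b _ _ ha hb =>
      rw [show (⟨a * b, _⟩ : 𝐏) = ⟨a, _⟩ * ⟨b, _⟩ from rfl, map_mul, map_mul, map_mul, ha, hb]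
    | inv a _ ha => rw [show (⟨a⁻¹, _⟩ : 𝐏) = ⟨a, _⟩⁻¹ from rfl, map_inv, map_inv, map_inv, ha]
  refine ⟨MonoidHom.toMulEquiv f (f.comp f) (MonoidHom.ext fun x => h3 x)
    (MonoidHom.ext fun x => h3 x), MulEquiv.ext fun x => ?_, ?_, ?_, fun y hy => ?_⟩
  · simp only [pow_succ, pow_zero, one_mul, MulAut.mul_apply, MulAut.one_apply]
    exact h3 x
  · rw [autFun_apply _ C.mem_u]; exact hfu
  · rw [autFun_apply _ C.mem_v]; exact hfv
  · rw [autFun_apply _ (C.E_le hy)]; exact hfy y hy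

theorem Conf.aut_ext {α β : MulAut 𝐏} (hu : autFun α u = autFun β u)
    (hv : autFun α v = autFun β v) (he : autFun α e = autFun β e) : α = β := by
  refine MulEquiv.ext ?_
  rintro ⟨x, hx⟩
  induction hx using closure_induction with
  | mem x hx =>
    refine Subtype.ext ?_
    rw [← autFun_apply, ← autFun_apply]
    rcases hx with rfl | rfl | rfl
    exacts [hu, hv, he]
  | one => rw [show (⟨1, _⟩ : 𝐏) = 1 from rfl, map_one, map_one]
  | mul a b _ _ ha hb =>
    rw [show (⟨a * b, _⟩ : 𝐏) = ⟨a, _⟩ * ⟨b, _⟩ from rfl, map_mul, map_mul, ha, hb]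
  | inv a _ ha => rw [show (⟨a⁻¹, _⟩ : 𝐏) = ⟨a, _⟩⁻¹ from rfl, map_inv, map_inv, ha]

theorem Conf.w_norm [Finite S] : w ∈ Subgroup.normalizer (𝐏 : Set Ω) := by
  refine conjBy_eq_iff.1 (eq_of_le_of_card_le C.le (conjBy_le_iff.2 fun x hx => ?_)
    (card_conjBy w _).ge)
  induction hx using closure_induction with
  | mem x hx =>
    rcases hx with rfl | rfl | rfl
    · rcases C.w_u with h | h <;> rw [h]
      exacts [C.mem_u, mul_mem C.mem_u (C.E_le C.s_mem_E)]
    · rw [C.w_v]; exact mul_mem C.mem_u C.mem_v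
    · rw [C.w_fix (subset_closure (by simp))]; exact C.mem_e
  | one => simp
  | mul a b _ _ ha hb =>
    rw [show w * (a * b) * w⁻¹ = w * a * w⁻¹ * (w * b * w⁻¹) by group]
    exact mul_mem ha hb
  | inv a _ ha =>
    rw [show w * a⁻¹ * w⁻¹ = (w * a * w⁻¹)⁻¹ by group]
    exact inv_mem ha

theorem Conf.small [Finite S] (hS : IsPGroup 2 S) {θ : MulAut 𝐏}
    (hθ : ∀ y ∈ 𝐄, autFun θ y = y) (Q : Subgroup Ω) (hQ : Q < 𝐏)
    (hc : centralizerIn S Q ≤ Q) (φ : MulAut Q)
    (hfix : ∀ x ∈ Q, (∀ g ∈ S, Commute g x) → autFun θ x = x → autFun φ x = x)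
    (hodd : Odd (orderOf φ)) : φ = 1 := by
  have hPQ : ∀ g ∈ S, (∀ x ∈ Q, Commute x g) → g ∈ Q := fun g hg h =>
    hc ⟨hg, Subgroup.mem_centralizer_iff.2 fun x hx => (h x hx).eq⟩
  have hEQ : 𝐄 ≤ Q := fun y hy => hPQ y (C.le (C.E_le hy)) fun x hx => by
    obtain ⟨i, j, y', hy', rfl⟩ := C.exists_form (hQ.le hx)
    exact ((bpow_commute (C.span.cU y hy).symm i).mul_left (bpow_commute (C.span.cV y hy).symm j)).mul_left
      (C.comm_E y' hy' y hy)
  by_cases hs : s = 1
  · refine absurd (le_antisymm hQ.le fun g hg => hPQ g (C.le hg) fun x hx => ?_) hQ.ne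
    obtain ⟨i, j, y, hy, rfl⟩ := C.exists_form hg
    obtain ⟨k, l, y', hy', rfl⟩ := C.exists_form (hQ.le hx)
    have huv : Commute u v := by
      have := C.vu
      rw [hs, mul_one] at this
      exact this.symm
    refine (((Commute.mul_right ?_ ?_).mul_left ((C.comm_E y' hy' _ hy) |> fun h =>
      (((bpow_commute (C.span.cU y' hy').symm i).mul_left
        (bpow_commute (C.span.cV y' hy').symm j)).mul_left h.symm).symm)))
    · exact ((bpow_commute (bpow_commute (Commute.refl u) i).symm k).mul_left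
        (bpow_commute (bpow_commute huv i).symm l)).mul_right
        ((bpow_commute (bpow_commute huv.symm j).symm k).mul_left
          (bpow_commute (bpow_commute (Commute.refl v) j).symm l))
    · exact (bpow_commute (C.span.cU y hy).symm k).mul_left (bpow_commute (C.span.cV y hy).symm l)
  -- `Q` is generated by `e` and one more element
  have hsQ : s ∈ Q := hEQ C.s_mem_E
  have heQ : e ∈ Q := hEQ (subset_closure (by simp))
  have hnot : ¬ (u ∈ Q ∧ v ∈ Q) := fun h => hQ.ne (le_antisymm hQ.le ((closure_le _).2 fun x hx => by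
    rcases hx with rfl | rfl | rfl
    exacts [h.1, h.2, heQ]))
  obtain ⟨g, hgQ, hge, hsg, hle⟩ : ∃ g ∈ Q, Commute e g ∧ s ∈ zpowers g ∧
      ∀ i j : Bool, bpow u i * bpow v j ∈ Q → bpow u i * bpow v j ∈ zpowers g := by
    have huv2 : u * v * (u * v) = s := C.span'.V_sq
    by_cases hu : u ∈ Q
    · refine ⟨u, hu, C.e_u, C.u_sq ▸ mul_mem (mem_zpowers u) (mem_zpowers u), fun i j h => ?_⟩
      have hj : j = false := Bool.eq_false_iff.2 fun hj => hnot ⟨hu, by
        subst hj
        have := mul_mem (inv_mem (bpow_mem hu i)) h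
        rwa [inv_mul_cancel_left] at this⟩
      subst hj
      simp only [bpow, mul_one]
      exact bpow_mem (mem_zpowers u) i
    by_cases hv : v ∈ Q
    · refine ⟨v, hv, C.e_v, C.v_sq ▸ mul_mem (mem_zpowers v) (mem_zpowers v), fun i j h => ?_⟩
      have hi : i = false := Bool.eq_false_iff.2 fun hi => hu (by
        subst hi
        have := mul_mem h (inv_mem (bpow_mem hv j))
        rwa [mul_inv_cancel_right] at this)
      subst hi
      simp only [bpow, one_mul]
      exact bpow_mem (mem_zpowers v) j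
    by_cases huv : u * v ∈ Q
    · refine ⟨u * v, huv, C.e_u.mul_right C.e_v, huv2 ▸ mul_mem (mem_zpowers _) (mem_zpowers _),
        fun i j h => ?_⟩
      cases i <;> cases j <;> simp only [bpow, one_mul, mul_one] at h ⊢
      exacts [one_mem _, absurd h hv, absurd h hu, mem_zpowers _]
    refine ⟨s, hsQ, (C.central e C.e_mem), mem_zpowers s, fun i j h => ?_⟩
    cases i <;> cases j <;> simp only [bpow, one_mul, mul_one] at h ⊢
    exacts [one_mem _, absurd h hv, absurd h hu, absurd h huv]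
  have hcl : Q ≤ closure ({e, g} : Set Ω) := fun x hx => by
    obtain ⟨i, j, y, hy, rfl⟩ := C.exists_form (hQ.le hx)
    have hEg : 𝐄 ≤ closure ({e, g} : Set Ω) := (closure_le _).2 fun a ha => by
      rcases ha with rfl | rfl
      · exact subset_closure (by simp)
      · exact (zpowers_le.2 (subset_closure (by simp : g ∈ ({e, g} : Set Ω)))) hsg
    refine mul_mem ((zpowers_le.2 (subset_closure (by simp : g ∈ ({e, g} : Set Ω)))) (hle i j ?_))
      (hEg hy)
    have := mul_mem hx (inv_mem (hEQ hy))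
    rwa [mul_inv_cancel_right] at this
  haveI := finite_of_le (hQ.le.trans C.le)
  have hgenQ : closure ({⟨e, heQ⟩, ⟨g, hgQ⟩} : Set Q) = ⊤ := by
    refine eq_top_iff.2 fun x _ => ?_
    have h1 : closure ({e, g} : Set Ω) =
        (closure ({⟨e, heQ⟩, ⟨g, hgQ⟩} : Set Q)).map Q.subtype := by
      rw [MonoidHom.map_closure, Set.image_pair]; rfl
    obtain ⟨y, hy, hxy⟩ := h1.le (hcl x.2)
    rwa [show x = y from Subtype.ext hxy.symm]
  have hcomm : ∀ x y : Q, x * y = y * x := by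
    have hcc : IsMulCommutative (closure ({e, g} : Set Ω)) := Subgroup.isMulCommutative_closure (by
      rintro a (rfl | rfl) b (rfl | rfl) <;> first | rfl | exact hge.eq | exact hge.symm.eq)
    exact fun x y => Subtype.ext (congrArg Subtype.val (hcc.is_comm.comm
      (⟨x, hcl x.2⟩ : closure ({e, g} : Set Ω)) ⟨y, hcl y.2⟩) :)
  letI : CommGroup Q := { (inferInstance : Group Q) with mul_comm := hcomm }
  refine aut_eq_one (z := (⟨s, hsQ⟩ : Q)) (hS.to_le (hQ.le.trans C.le)) hgenQ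
    (fun h => hs (congrArg Subtype.val h)) (Subtype.ext C.s_sq) hodd (Subtype.ext ?_)
  rw [← autFun_apply φ hsQ]
  exact hfix s hsQ C.central (hθ s C.s_mem_E)

theorem Conf.datum [Finite S] (hS : IsPGroup 2 S) : ∃ θ : MulAut 𝐏, Datum S 𝐏 θ w := by
  obtain ⟨θ, h3, hu, hv, hy⟩ := C.exists_theta
  refine ⟨θ, C.le, C.w_mem, C.w_norm, C.w_out, fun n hn => C.norm n hn.1
    ((Subgroup.mem_normalizer_iff.1 hn.2 v).1 C.mem_v), fun g hg => C.cent g hg.1
    (Subgroup.mem_centralizer_iff.1 hg.2 v C.mem_v).symm, h3, fun h => ?_, ?_, C.small hS hy⟩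
  · rw [h, autFun_one C.mem_u] at hu
    exact C.uv_out (by rw [← hu, C.u_sq]; exact C.s_mem_E)
  have huv : autFun θ (u * v) = u := by
    have h := congrArg (fun α : MulAut 𝐏 => autFun α u) h3
    simp only [pow_succ, pow_zero, one_mul, autFun_one C.mem_u] at h
    rwa [autFun_mul _ _ C.mem_u, hu, autFun_mul _ _ C.mem_v, hv] at h
  have hsv : autFun θ s = s := hy s C.s_mem_E
  have hee : autFun θ e = e := hy e (subset_closure (by simp))
  have heE : e ∈ 𝐄 := subset_closure (by simp)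
  have hse : s ∈ 𝐏 := C.E_le C.s_mem_E
  have hvs := (C.central v C.v_mem).eq
  have hwuv : w * (u * v) * w⁻¹ = w * u * w⁻¹ * (u * v) := by
    rw [show w * (u * v) * w⁻¹ = w * u * w⁻¹ * (w * v * w⁻¹) by group, C.w_v]
  have hθuv : autFun (θ * θ) u = u * v ∧ autFun (θ * θ) v = u ∧
      autFun (θ * θ) e = e := by
    refine ⟨?_, ?_, ?_⟩
    · rw [autFun_mul _ _ C.mem_u, hu, hv]
    · rw [autFun_mul _ _ C.mem_v, hv, huv]
    · rw [autFun_mul _ _ C.mem_e, hee, hee]
  obtain ⟨h2u, h2v, h2e⟩ := hθuv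
  have h2s : autFun (θ * θ) s = s := by rw [autFun_mul _ _ hse, hsv, hsv]
  have huvm := mul_mem C.mem_u C.mem_v
  have h2uv : autFun (θ * θ) (u * v) = v := by rw [autFun_mul _ _ huvm, huv, hu]
  rcases C.w_u with hwu | hwu
  · refine ⟨u * v, huvm, fun x hx => ?_⟩
    suffices h : conjAut w C.w_norm * θ =
        MulAut.conj (⟨u * v, huvm⟩ : 𝐏) * (θ * θ) * conjAut w C.w_norm by
      have := congrArg (fun α : MulAut 𝐏 => autFun α x) h
      simp only [autFun_mul _ _ hx, autFun_conjAut _ hx, autFun_conjAut _ (autFun_mem θ hx)] at this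
      have hwx := (Subgroup.mem_normalizer_iff.1 C.w_norm x).1 hx
      rw [this, autFun_mul (MulAut.conj _) _ hwx,
        autFun_apply (MulAut.conj _) (autFun_mem _ hwx), MulAut.conj_apply]
      rfl
    have hc : ∀ (a : Ω) (ha : a ∈ 𝐏),
        autFun (MulAut.conj (⟨u * v, huvm⟩ : 𝐏)) a = u * v * a * (u * v)⁻¹ := fun a ha => by
      rw [autFun_apply _ ha, MulAut.conj_apply]; rfl
    refine C.aut_ext ?_ ?_ ?_
    · rw [autFun_mul _ _ C.mem_u, hu, autFun_conjAut _ C.mem_v, C.w_v, autFun_mul _ _ C.mem_u,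
        autFun_conjAut _ C.mem_u, hwu, autFun_mul _ _ C.mem_u, h2u, hc _ huvm, mul_inv_cancel_right]
    · rw [autFun_mul _ _ C.mem_v, hv, autFun_conjAut _ huvm, hwuv, hwu, autFun_mul _ _ C.mem_v,
        autFun_conjAut _ C.mem_v, C.w_v, autFun_mul _ _ huvm, h2uv, hc _ C.mem_v, ← mul_assoc,
        C.u_sq, show u * v * v = u * (v * v) by group, C.v_sq, mul_inv_rev,
        show u * s * (v⁻¹ * u⁻¹) = u * (s * v⁻¹) * u⁻¹ by group,
        ← (C.central v C.v_mem).inv_left.eq, show u * (v⁻¹ * s) * u⁻¹ = u * v⁻¹ * (s * u⁻¹) by group,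
        ← (C.central u C.u_mem).inv_left.eq]
      rw [show u * v⁻¹ * (u⁻¹ * s) = u * (u * v)⁻¹ * s by group]
      have h4 : (u * v)⁻¹ = u * v * s := inv_eq_of_mul_eq_one_right (by
        rw [← mul_assoc, C.span'.V_sq, C.s_sq])
      rw [h4, show u * (u * v * s) * s = u * u * v * (s * s) by group, C.u_sq, C.s_sq, mul_one]
    · rw [autFun_mul _ _ C.mem_e, hee, autFun_conjAut _ C.mem_e, C.w_fix heE,
        autFun_mul _ _ C.mem_e, autFun_conjAut _ C.mem_e, C.w_fix heE,
        autFun_mul _ _ C.mem_e, h2e, hc _ C.mem_e, ← (C.e_u.mul_right C.e_v).eq,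
        mul_inv_cancel_right]
  · refine ⟨v, C.mem_v, fun x hx => ?_⟩
    suffices h : conjAut w C.w_norm * θ =
        MulAut.conj (⟨v, C.mem_v⟩ : 𝐏) * (θ * θ) * conjAut w C.w_norm by
      have := congrArg (fun α : MulAut 𝐏 => autFun α x) h
      simp only [autFun_mul _ _ hx, autFun_conjAut _ hx, autFun_conjAut _ (autFun_mem θ hx)] at this
      have hwx := (Subgroup.mem_normalizer_iff.1 C.w_norm x).1 hx
      rw [this, autFun_mul (MulAut.conj _) _ hwx,
        autFun_apply (MulAut.conj _) (autFun_mem _ hwx), MulAut.conj_apply]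
      rfl
    have hc : ∀ (a : Ω) (ha : a ∈ 𝐏),
        autFun (MulAut.conj (⟨v, C.mem_v⟩ : 𝐏)) a = v * a * v⁻¹ := fun a ha => by
      rw [autFun_apply _ ha, MulAut.conj_apply]; rfl
    have hus := mul_mem C.mem_u hse
    have h2us : autFun (θ * θ) (u * s) = u * v * s := by
      rw [autFun_map_mul _ C.mem_u hse, h2u, h2s]
    refine C.aut_ext ?_ ?_ ?_
    · rw [autFun_mul _ _ C.mem_u, hu, autFun_conjAut _ C.mem_v, C.w_v, autFun_mul _ _ C.mem_u,
        autFun_conjAut _ C.mem_u, hwu, autFun_mul _ _ hus, h2us, hc _ (mul_mem huvm hse),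
        ← mul_assoc v, ← mul_assoc v, C.vu, mul_assoc (u * v * s) v s, hvs, ← mul_assoc (u * v * s),
        mul_assoc (u * v) s s, C.s_sq, mul_one, mul_inv_cancel_right]
    · rw [autFun_mul _ _ C.mem_v, hv, autFun_conjAut _ huvm, hwuv, hwu, autFun_mul _ _ C.mem_v,
        autFun_conjAut _ C.mem_v, C.w_v, autFun_mul _ _ huvm, h2uv, hc _ C.mem_v,
        mul_inv_cancel_right, ← mul_assoc, mul_assoc u s u, ← (C.central u C.u_mem).eq,
        ← mul_assoc u u s, C.u_sq, C.s_sq, one_mul]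
    · rw [autFun_mul _ _ C.mem_e, hee, autFun_conjAut _ C.mem_e, C.w_fix heE,
        autFun_mul _ _ C.mem_e, autFun_conjAut _ C.mem_e, C.w_fix heE,
        autFun_mul _ _ C.mem_e, h2e, hc _ C.mem_e, ← C.e_v.eq, mul_inv_cancel_right]

end Main

end CfsgLib.Fusion.Bicyclic
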