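import Cfsg.Agent.Lib.Fusion.System.Bicyclic.Structure
import Cfsg.Agent.Lib.Fusion.System.Bicyclic.Config

/-!
# The configuration inside a bicyclic 2-group with cyclic derived group

With `c = [a, b]` one has `G' = ⟨c⟩`, `b c b⁻¹ = c⁻¹` and `b ^ 2` is trivial or the involution of
`⟨c⟩`; a twist `e = c ^ t * a ^ 2` of `a ^ 2` centralizes `b`.
-/

set_option autoImplicit false
set_option maxHeartbeats 1000000
set_option linter.style.haveILetI false
set_option linter.unusedSectionVars false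

open Subgroup
open scoped commutatorElement

namespace CfsgLib.Fusion.Bicyclic

universe u

/-- The configuration maps along an injective homomorphism. -/
theorem Conf.map {Ω : Type u} [Group Ω] {S : Subgroup Ω} {U V E Z W : ↥S}
    (C : Conf (⊤ : Subgroup ↥S) U V E Z W) : Conf S (U : Ω) V E Z W := by
  have hinj := S.subtype_injective
  have h2 : ∀ (x : ↥S) (p q : ↥S),
      (x : Ω) ∈ closure ({(p : Ω), (q : Ω)} : Set Ω) ↔ x ∈ closure ({p, q} : Set ↥S) := fun x p q => by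
    rw [show ({(p : Ω), (q : Ω)} : Set Ω) = S.subtype '' {p, q} from (Set.image_pair _ _ _).symm,
      ← MonoidHom.map_closure]
    exact Subgroup.mem_map_iff_mem hinj
  have h3 : ∀ x : ↥S, (x : Ω) ∈ closure ({(U : Ω), (V : Ω), (E : Ω)} : Set Ω) ↔
      x ∈ closure ({U, V, E} : Set ↥S) := fun x => by
    rw [show ({(U : Ω), (V : Ω), (E : Ω)} : Set Ω) = S.subtype '' {U, V, E} by
      rw [Set.image_insert_eq, Set.image_pair]; rfl, ← MonoidHom.map_closure]
    exact Subgroup.mem_map_iff_mem hinj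
  have hc : ∀ {x y : ↥S}, Commute x y → Commute (x : Ω) y := fun h => congrArg Subtype.val h
  exact
    { u_mem := U.2, v_mem := V.2, e_mem := E.2, w_mem := W.2
      u_sq := congrArg Subtype.val C.u_sq
      v_sq := congrArg Subtype.val C.v_sq
      s_sq := congrArg Subtype.val C.s_sq
      vu := congrArg Subtype.val C.vu
      e_u := hc C.e_u
      e_v := hc C.e_v
      central := fun x hx => hc (C.central ⟨x, hx⟩ (mem_top _))
      w_e := hc C.w_e
      w_u := C.w_u.imp (congrArg Subtype.val) (congrArg Subtype.val)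
      w_v := congrArg Subtype.val C.w_v
      u_out := fun h => C.u_out ((h2 U E Z).1 h)
      v_out := fun h => C.v_out ((h2 V E Z).1 h)
      uv_out := fun h => C.uv_out ((h2 (U * V) E Z).1 h)
      w_out := fun h => C.w_out ((h3 W).1 h)
      cent := fun g hg h => (h3 ⟨g, hg⟩).2 (C.cent ⟨g, hg⟩ (mem_top _) (Subtype.ext h))
      norm := fun g hg h => (C.norm ⟨g, hg⟩ (mem_top _) ((h3 (⟨g, hg⟩ * V * ⟨g, hg⟩⁻¹)).1 h)).imp
        (h3 ⟨g, hg⟩).2 (h3 (W⁻¹ * ⟨g, hg⟩)).2 }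

variable {G : Type u} [Group G]

theorem commute_of_conj {x y : G} (h : x * y * x⁻¹ = y) : Commute x y :=
  mul_inv_eq_iff_eq_mul.1 h

theorem exists_zpow_pair {x y : G} (h : Commute x y) {z : G} (hz : z ∈ closure ({x, y} : Set G)) :
    ∃ i j : ℤ, z = x ^ i * y ^ j := by
  induction hz using closure_induction with
  | mem z hz =>
    rcases hz with rfl | rfl
    · exact ⟨1, 0, by simp⟩
    · exact ⟨0, 1, by simp⟩
  | one => exact ⟨0, 0, by simp⟩
  | mul a b _ _ ha hb =>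
    obtain ⟨i, j, rfl⟩ := ha
    obtain ⟨k, l, rfl⟩ := hb
    exact ⟨i + k, j + l, by rw [zpow_add, zpow_add, (h.zpow_zpow k j).symm.mul_mul_mul_comm]⟩
  | inv a _ ha =>
    obtain ⟨i, j, rfl⟩ := ha
    exact ⟨-i, -j, by rw [mul_inv_rev, ← zpow_neg, ← zpow_neg, (h.zpow_zpow (-i) (-j)).eq]⟩

theorem mem_commutator_iff_of {x : G} : x ∈ commutator G ↔ Abelianization.of x = 1 := by
  rw [← Abelianization.ker_of, MonoidHom.mem_ker]

/-- The derived group is generated by `c = [a, b]`. -/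
theorem Gens.cyclic_facts [Finite G] (hG : IsPGroup 2 G) (d : Gens G)
    (hR : IsCyclic (commutator G)) :
    commutator G = zpowers ⁅d.a, d.b⁆ ∧ (∀ i : ℤ, ⁅d.a, d.b⁆ ^ i ∈ derK G ↔ Even i) ∧
      ∃ n : ℕ, 1 ≤ n ∧ orderOf ⁅d.a, d.b⁆ = 2 ^ n := by
  set c := ⁅d.a, d.b⁆ with hc
  have hcR : c ∈ commutator G := commutator_mem_commutator (mem_top _) (mem_top _)
  obtain ⟨g, hg⟩ := hR.exists_generator
  have hgen : ∀ y ∈ commutator G, ∃ k : ℤ, (g : G) ^ k = y := fun y hy => by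
    obtain ⟨k, hk⟩ := mem_zpowers_iff.1 (hg ⟨y, hy⟩)
    exact ⟨k, by simpa using congrArg Subtype.val hk⟩
  have hsq : ∀ i : ℤ, ∀ y ∈ commutator G, y ^ (i + i) ∈ derK G := fun i y hy => by
    rw [zpow_add]; exact sq_mem_derK (zpow_mem hy i)
  obtain ⟨k, hk⟩ := hgen c hcR
  have hgc : (g : G) ∈ zpowers c := by
    rcases Int.even_or_odd k with ⟨l, rfl⟩ | hodd
    · exact absurd (show c ∈ derK G by rw [← hk]; exact hsq l _ g.2) d.comm
    · rw [← hk]; exact CfsgLib.Invol.MetaTwo.odd_zpow_mem hG hodd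
  have heq : commutator G = zpowers c := le_antisymm (fun y hy => by
    obtain ⟨m, rfl⟩ := hgen y hy
    exact zpow_mem hgc m) (zpowers_le.2 hcR)
  refine ⟨heq, fun i => ⟨fun hi => ?_, fun ⟨l, hl⟩ => hl ▸ hsq l c hcR⟩, ?_⟩
  · exact Int.not_odd_iff_even.1 fun ho =>
      d.comm (zpowers_le.2 hi (CfsgLib.Invol.MetaTwo.odd_zpow_mem hG ho))
  · obtain ⟨n, hn⟩ := IsPGroup.iff_orderOf.1 hG c
    refine ⟨n, Nat.one_le_iff_ne_zero.2 fun h => d.comm ?_, hn⟩
    rw [h, pow_zero, orderOf_eq_one_iff] at hn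
    show c ∈ derK G
    rw [hn]; exact one_mem _

/-- An element congruent to `a ^ 2` has its power `2 ^ (r - 1)` in `derK`. -/
theorem Gens.pow_mem_derK [Finite G] (d : Gens G) {e : G}
    (he : Abelianization.of e = Abelianization.of d.a ^ 2) : e ^ 2 ^ (d.r - 1) ∈ derK G := by
  have hy : e * (d.a * d.a)⁻¹ ∈ commutator G := by
    rw [mem_commutator_iff_of, map_mul, he, map_inv, map_mul, ← _root_.sq, mul_inv_cancel]
  set π := QuotientGroup.mk' (derK G) with hπ
  have h1 : π e = π (e * (d.a * d.a)⁻¹) * π d.a ^ 2 := by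
    rw [_root_.sq, ← map_mul, ← map_mul, inv_mul_cancel_right]
  have hr : d.r - 1 = (d.r - 2) + 1 := by have := d.two_le; omega
  refine (QuotientGroup.eq_one_iff _).1 ?_
  show π _ = 1
  rw [map_pow, h1, (mk_comm hy (π d.a ^ 2) : Commute _ _).mul_pow, ← pow_mul,
    show 2 * 2 ^ (d.r - 1) = 2 ^ d.r by rw [← pow_succ']; congr 1; omega, ← map_pow π d.a,
    show π (d.a ^ 2 ^ d.r) = 1 from (QuotientGroup.eq_one_iff _).2 d.pow, mul_one, hr,
    pow_succ', pow_mul, _root_.sq (π _), mk_sq hy, one_pow]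

/-- Generators for which `b ^ 2 ≠ 1` or the twists of `a ^ 2` centralizing `b` have order at
most `2 ^ (r - 1)`. -/
theorem exists_good_gens [Finite G] (hG : IsPGroup 2 G) (hm : ¬ Cfsg.IsMetacyclic G)
    (hb : IsBicyclic G) : ∃ d : Gens G, d.b * d.b = 1 → ∀ e : G, Commute e d.b →
      Abelianization.of e = Abelianization.of d.a ^ 2 → e ^ 2 ^ (d.r - 1) = 1 := by
  obtain ⟨d⟩ := exists_gens hG hm hb
  by_contra! hne
  obtain ⟨hb2, e, heb, he, hN⟩ := hne d
  haveI : Fact (Nat.Prime 2) := ⟨Nat.prime_two⟩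
  haveI : Group.IsNilpotent G := hG.isNilpotent
  set M := 2 ^ (d.r - 2) with hM
  have hMM : M + M = 2 ^ (d.r - 1) := by
    rw [hM, ← two_mul, ← pow_succ']; congr 1; have := d.two_le; omega
  set b' := d.b * e ^ M with hb'
  have hsq : b' * b' = e ^ 2 ^ (d.r - 1) := by
    rw [hb', (heb.pow_left M).mul_mul_mul_comm , hb2, one_mul, ← pow_add, hMM]
  have hgen : closure ({d.a, b'} : Set G) = ⊤ := by
    refine frattini_nongenerating (eq_top_iff.2 (d.gen.ge.trans ((closure_le _).2 ?_)))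
    have ha : d.a ∈ closure ({d.a, b'} : Set G) ⊔ frattini G :=
      mem_sup_left (subset_closure (by simp))
    rintro z (rfl | rfl)
    · exact ha
    · have heH : e ∈ closure ({d.a, b'} : Set G) ⊔ frattini G := by
        have hy : e * (d.a * d.a)⁻¹ ∈ commutator G := by
          rw [mem_commutator_iff_of, map_mul, he, map_inv, map_mul, ← sq, mul_inv_cancel]
        have := mul_mem (mem_sup_right (S := closure ({d.a, b'} : Set G))
          (CfsgLib.Coprime.commutator_le_frattini hG hy)) (mul_mem ha ha)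
        rwa [inv_mul_cancel_right] at this
      have := mul_mem (mem_sup_left (T := frattini G)
        (subset_closure (by simp : b' ∈ ({d.a, b'} : Set G)))) (inv_mem (pow_mem heH M))
      rwa [hb', mul_inv_cancel_right] at this
  obtain ⟨d', -, hd'⟩ := exists_gens_of_pair hG hm hgen (hsq ▸ d.pow_mem_derK he)
  obtain ⟨h1, -⟩ := hne d'
  rw [hd', hsq] at h1
  exact hN h1

/-- The configuration. -/
theorem exists_conf [Finite G] (hG : IsPGroup 2 G) (hm : ¬ Cfsg.IsMetacyclic G)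
    (hb : IsBicyclic G) (hR : IsCyclic (commutator G)) :
    ∃ u v e s w : G, Conf (⊤ : Subgroup G) u v e s w := by
  obtain ⟨d, hgood⟩ := exists_good_gens hG hm hb
  obtain ⟨hRc, hder, n, hn1, hn⟩ := d.cyclic_facts hG hR
  set c := ⁅d.a, d.b⁆ with hc
  set N : ℤ := 2 ^ n with hN
  have hN2 : (2 : ℤ) ∣ N := dvd_pow_self 2 (by omega)
  have hone : ∀ i : ℤ, c ^ i = 1 ↔ N ∣ i := fun i => by
    rw [← orderOf_dvd_iff_zpow_eq_one, hn, hN, Nat.cast_pow, Nat.cast_ofNat]
  have heq : ∀ i j : ℤ, c ^ i = c ^ j ↔ N ∣ i - j := fun i j => by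
    rw [← hone, zpow_sub, mul_inv_eq_one]
  have hcR : c ∈ commutator G := hRc ▸ mem_zpowers c
  have hconj : ∀ x : G, ∃ β : ℤ, Odd β ∧ ∀ i : ℤ, x * c ^ i * x⁻¹ = c ^ (β * i) := fun x => by
    obtain ⟨β, hβ⟩ := mem_zpowers_iff.1
      (hRc ▸ (inferInstance : (commutator G).Normal).conj_mem c hcR x)
    refine ⟨β, Int.not_even_iff_odd.1 fun he => d.comm ?_, fun i => by
      rw [← conj_zpow, ← hβ, zpow_mul]⟩
    have h1 := (derK_normal (G := G)).conj_mem _ ((hder β).2 he) x⁻¹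
    rwa [hβ, show x⁻¹ * (x * c * x⁻¹) * x⁻¹⁻¹ = c by group] at h1
  have hcd : d.a * d.b * d.a⁻¹ = c * d.b := by rw [hc, commutatorElement_def]; group
  obtain ⟨α, ⟨p, rfl⟩, hα⟩ := hconj d.a
  obtain ⟨γ, ⟨q, rfl⟩, hγ⟩ := hconj d.b
  -- `b` inverts `c`
  obtain ⟨mm, hmm⟩ := mem_zpowers_iff.1 (hRc ▸ derK_le d.sq)
  obtain ⟨m, rfl⟩ : Even mm := (hder mm).1 (hmm ▸ d.sq)
  have h1 : N ∣ (2 * p + 1) * (m + m) - (1 + (2 * q + 1) + (m + m)) := by
    rw [← heq, ← hα, hmm,
      show d.a * (d.b * d.b) * d.a⁻¹ = d.a * d.b * d.a⁻¹ * (d.a * d.b * d.a⁻¹) by group, hcd,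
      show c * d.b * (c * d.b) = c ^ (1 : ℤ) * (d.b * c ^ (1 : ℤ) * d.b⁻¹) * (d.b * d.b) by group,
      hγ, ← hmm, mul_one, ← zpow_add, ← zpow_add]
  have h2 : N ∣ (2 * q + 1) * (m + m) - (m + m) := by
    rw [← heq, ← hγ, hmm]; group
  obtain ⟨hq, hm4⟩ : N ∣ 2 * q + 2 ∧ N ∣ 4 * m := by
    rcases Nat.lt_or_ge n 2 with hlt | hge
    · have : N = 2 := by rw [hN, show n = 1 by omega, pow_one]
      rw [this]
      exact ⟨⟨q + 1, by ring⟩, ⟨2 * m, by ring⟩⟩
    · have hN4 : (4 : ℤ) ∣ N := by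
        rw [hN, show (4 : ℤ) = 2 ^ 2 by norm_num]; exact pow_dvd_pow 2 hge
      obtain ⟨k, hk⟩ := hN4.trans h1
      ring_nf at hk
      obtain ⟨h, hh⟩ : Odd q := by
        refine Int.not_even_iff_odd.1 fun ⟨l, hl⟩ => ?_
        subst hl
        ring_nf at hk
        omega
      have h3 : N ∣ 4 * m := by
        have hcop : IsCoprime N q := by
          rw [hN]; exact IsCoprime.pow_left ⟨-h, 1, by rw [hh]; ring⟩
        refine hcop.dvd_of_dvd_mul_right ?_
        rwa [show 4 * m * q = (2 * q + 1) * (m + m) - (m + m) by ring]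
      refine ⟨?_, h3⟩
      have := (h3.mul_right p).sub h1
      rwa [show 4 * m * p - ((2 * p + 1) * (m + m) - (1 + (2 * q + 1) + (m + m))) = 2 * q + 2 by
        ring] at this
  have hbc : ∀ i : ℤ, d.b * c ^ i * d.b⁻¹ = c ^ (-i) := fun i => by
    rw [hγ, heq]
    exact (hq.mul_right i).trans ⟨1, by ring⟩
  have hbc' : ∀ i : ℤ, d.b * c ^ i = c ^ (-i) * d.b := fun i => by
    rw [← hbc, inv_mul_cancel_right]
  -- the element `e`
  set t : ℤ := -(p + 1) with ht
  set e := c ^ t * (d.a * d.a) with he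
  have hec : ∀ i : ℤ, e * c ^ i * e⁻¹ = c ^ ((2 * p + 1) * (2 * p + 1) * i) := fun i => by
    rw [he, show c ^ t * (d.a * d.a) * c ^ i * (c ^ t * (d.a * d.a))⁻¹ =
      c ^ t * (d.a * (d.a * c ^ i * d.a⁻¹) * d.a⁻¹) * c ^ (-t) by group, hα, hα, ← zpow_add,
      ← zpow_add]
    congr 1
    ring
  have heb : Commute e d.b := by
    refine commute_of_conj ?_
    rw [he, show c ^ t * (d.a * d.a) * d.b * (c ^ t * (d.a * d.a))⁻¹ =
      c ^ t * (d.a * (d.a * d.b * d.a⁻¹) * d.a⁻¹) * c ^ (-t) by group, hcd,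
      show d.a * (c * d.b) * d.a⁻¹ = d.a * c ^ (1 : ℤ) * d.a⁻¹ * (d.a * d.b * d.a⁻¹) by group,
      hα, hcd, show c ^ t * (c ^ ((2 * p + 1) * 1) * (c * d.b)) * c ^ (-t) =
      c ^ t * c ^ ((2 * p + 1) * 1) * c * (d.b * c ^ (-t)) by group, hbc',
      show c ^ t * c ^ ((2 * p + 1) * 1) * c * (c ^ (- -t) * d.b) =
      c ^ (t + (2 * p + 1) * 1 + 1 + - -t) * d.b by group, mul_eq_right, hone, ht]
    exact ⟨0, by ring⟩
  have heof : Abelianization.of e = Abelianization.of d.a ^ 2 := by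
    rw [he, map_mul, map_zpow, mem_commutator_iff_of.1 hcR, one_zpow, one_mul, map_mul, sq]
  have heder := d.pow_mem_derK heof
  obtain ⟨ii, hii⟩ := mem_zpowers_iff.1 (hRc ▸ derK_le heder)
  have hiN : N ∣ 2 * ii := by
    have h := hbc ii
    rw [hii, ← (heb.pow_left _).eq, mul_inv_cancel_right, ← hii, heq] at h
    exact h.trans ⟨1, by ring⟩
  -- the exponent `U` of `u`
  obtain ⟨k, hkn, hk4, hb2, hEN⟩ : ∃ k : ℕ, k < n ∧ n ≤ k + 2 ∧
      d.b * d.b = c ^ (2 * 2 ^ k : ℤ) ∧ (2 * 2 ^ k : ℤ) ∣ ii := by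
    by_cases hb1 : d.b * d.b = 1
    · refine ⟨n - 1, by omega, by omega, ?_, ?_⟩
      · rw [hb1, eq_comm, hone, ← pow_succ', show n - 1 + 1 = n by omega]
      · rw [← pow_succ', show n - 1 + 1 = n by omega, ← hN, ← hone, hii]
        exact hgood hb1 e heb heof
    · have hn2 : 2 ≤ n := by
        by_contra hlt
        refine hb1 ?_
        rw [← hmm, hone, hN, show n = 1 by omega, pow_one]
        exact ⟨m, by ring⟩
      refine ⟨n - 2, by omega, by omega, ?_, ?_⟩ <;>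
        rw [← pow_succ', show n - 2 + 1 = n - 1 by omega]
      · rw [← hmm, heq]
        have hN' : N = 2 * 2 ^ (n - 1) := by rw [hN, ← pow_succ', show n - 1 + 1 = n by omega]
        obtain ⟨j, hj⟩ := hm4
        rcases Int.even_or_odd j with ⟨l, rfl⟩ | ⟨l, rfl⟩
        · exact absurd (hmm ▸ (hone _).2 ⟨l, by linarith⟩) hb1
        · exact ⟨l, by rw [hN'] at hj ⊢; linarith⟩
      · rw [hN, show n = n - 1 + 1 by omega, pow_succ'] at hiN
        exact Int.dvd_of_mul_dvd_mul_left (by norm_num) hiN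
  set U : ℤ := 2 ^ k with hU
  have hU4 : N ∣ 4 * U := by
    rw [hN, hU, show (4 : ℤ) = 2 ^ 2 by norm_num, ← pow_add]
    exact pow_dvd_pow 2 (by omega)
  have hUN : 2 * U ∣ N := by
    rw [hN, hU, ← pow_succ']; exact pow_dvd_pow 2 (by omega)
  have hUN' : U ∣ N := (dvd_mul_left U 2).trans hUN
  have hnU : ¬ N ∣ U := fun h => by
    rw [hN, hU] at h
    have := Nat.le_of_dvd (by positivity) (Int.natCast_dvd_natCast.1
      (by exact_mod_cast h : ((2 ^ n : ℕ) : ℤ) ∣ ((2 ^ k : ℕ) : ℤ)))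
    exact absurd this (not_le.2 (Nat.pow_lt_pow_right (by norm_num) hkn))
  set u := c ^ U with hu
  set s := c ^ (2 * U) with hs
  have hsu : s ∈ zpowers u := mem_zpowers_iff.2 ⟨2, by rw [hu, hs, ← zpow_mul]; ring_nf⟩
  have hee : ∀ x, ∀ z : ℤ, N ∣ 4 * p * (p + 1) * z → x = c ^ z → Commute e x := fun x z hz hx => by
    subst hx
    refine commute_of_conj ?_
    rw [hec, heq]
    exact hz.trans ⟨1, by ring⟩
  have heu : Commute e u := hee u U (hU4.trans ⟨p * (p + 1), by ring⟩) rfl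
  have hes : Commute e s := hee s (2 * U) (hU4.trans ⟨2 * p * (p + 1), by ring⟩) rfl
  have hcent : ∀ x, Commute x s := fun x => by
    obtain ⟨β, ⟨l, rfl⟩, hβ⟩ := hconj x
    refine commute_of_conj ?_
    rw [hs, hβ, heq]
    exact hU4.trans ⟨l, by ring⟩
  -- `e ^ i` in the derived group
  have hof : ∀ i j : ℤ, Abelianization.of (e ^ i * d.b ^ j) =
      Abelianization.of (d.a ^ (2 * i) * d.b ^ j) := fun i j => by
    simp only [map_mul, map_zpow, heof]
    rw [← zpow_natCast, ← zpow_mul, Nat.cast_ofNat]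
  have hrel : ∀ i j : ℤ, e ^ i * d.b ^ j ∈ commutator G → e ^ i * d.b ^ j ∈ zpowers s := by
    intro i j h
    rw [mem_commutator_iff_of, hof, ← mem_commutator_iff_of] at h
    obtain ⟨hi, l, rfl⟩ := d.rel _ _ h
    obtain ⟨f, rfl⟩ : ((2 ^ (d.r - 1) : ℕ) : ℤ) ∣ i := by
      rw [show (2 : ℤ) ^ d.r = 2 * 2 ^ (d.r - 1) by
        rw [← pow_succ']; congr 1; have := d.two_le; omega] at hi
      push_cast
      exact Int.dvd_of_mul_dvd_mul_left (by norm_num) hi
    rw [zpow_mul, zpow_natCast, zpow_mul d.b, zpow_two, hb2, ← hii]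
    refine mul_mem (zpow_mem ?_ f) (zpow_mem (mem_zpowers s) l)
    obtain ⟨g, hg⟩ := hEN
    exact mem_zpowers_iff.2 ⟨g, by rw [hs, ← zpow_mul, hg]⟩
  have hpar : ∀ i : ℤ, Abelianization.of d.b ≠ Abelianization.of (e ^ i) := fun i h => by
    have h1 : e ^ i * d.b ^ (-1 : ℤ) ∈ commutator G := by
      rw [mem_commutator_iff_of, map_mul, ← h, ← map_mul, zpow_neg_one, mul_inv_cancel, map_one]
    rw [mem_commutator_iff_of, hof, ← mem_commutator_iff_of] at h1
    exact absurd (d.rel _ _ h1).2 (by norm_num)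
  haveI hun : (zpowers u).Normal := ⟨fun y hy g => by
    obtain ⟨l, rfl⟩ := mem_zpowers_iff.1 hy
    obtain ⟨β, -, hβ⟩ := hconj g
    refine mem_zpowers_iff.2 ⟨β * l, ?_⟩
    rw [hu, ← zpow_mul, ← zpow_mul, hβ]
    congr 1
    ring⟩
  set P := closure ({u, d.b, e} : Set G) with hP
  have huP : u ∈ P := subset_closure (by simp)
  have hbP : d.b ∈ P := subset_closure (by simp)
  have heP : e ∈ P := subset_closure (by simp)
  have hUP : ∀ x : ℤ, U ∣ x → c ^ x ∈ P := fun x ⟨l, hl⟩ => by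
    rw [hl, zpow_mul]; exact zpow_mem huP l
  have hform : ∀ x ∈ P, ∃ i j : ℤ, ∃ y ∈ zpowers u, x = e ^ i * d.b ^ j * y := fun x hx => by
    have hle : P ≤ closure ({e, d.b} : Set G) ⊔ zpowers u := (closure_le _).2 fun z hz => by
      rcases hz with rfl | rfl | rfl
      exacts [mem_sup_right (mem_zpowers _), mem_sup_left (subset_closure (by simp)),
        mem_sup_left (subset_closure (by simp))]
    obtain ⟨y, hy, z, hz, rfl⟩ := Subgroup.mem_sup_of_normal_right.1 (hle hx)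
    obtain ⟨i, j, rfl⟩ := exists_zpow_pair heb hy
    exact ⟨i, j, z, hz, rfl⟩
  have hPc : ∀ x : ℤ, c ^ x ∈ P → U ∣ x := fun x hx => by
    obtain ⟨i, j, y, hy, he'⟩ := hform _ hx
    obtain ⟨l, rfl⟩ := mem_zpowers_iff.1 hy
    have h1 : e ^ i * d.b ^ j = c ^ (x - U * l) := by
      rw [zpow_sub, zpow_mul, he', mul_inv_cancel_right]
    obtain ⟨g, hg⟩ := mem_zpowers_iff.1 (hrel i j (h1 ▸ zpow_mem hcR _))
    rw [h1, hs, ← zpow_mul, heq] at hg
    have h2 : U ∣ 2 * U * g - (x - U * l) := hUN'.trans hg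
    have := ((dvd_mul_left U 2).mul_right g).sub h2
    rw [sub_sub_cancel] at this
    simpa using this.add (dvd_mul_right U l)
  have huE : ∀ z ∈ closure ({e, s} : Set G), ∃ i j : ℤ, z = e ^ i * s ^ j := fun z =>
    exists_zpow_pair hes
  have hu_out : u ∉ closure ({e, s} : Set G) := fun h => by
    obtain ⟨i, j, h⟩ := huE u h
    have h1 : e ^ i * d.b ^ (0 : ℤ) = c ^ (U - 2 * U * j) := by
      rw [zpow_zero, mul_one, zpow_sub, zpow_mul, ← hu, ← hs, h, mul_inv_cancel_right]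
    obtain ⟨g, hg⟩ := mem_zpowers_iff.1 (hrel i 0 (h1 ▸ zpow_mem hcR _))
    rw [h1, hs, ← zpow_mul, heq] at hg
    refine hnU (IsCoprime.dvd_of_dvd_mul_right ?_ (?_ : N ∣ U * (2 * g - 1 + 2 * j)))
    · rw [hN]; exact IsCoprime.pow_left ⟨g + j, -1, by ring⟩
    · rwa [show U * (2 * g - 1 + 2 * j) = 2 * U * g - (U - 2 * U * j) by ring]
  have hv_out : d.b ∉ closure ({e, s} : Set G) := fun h => by
    obtain ⟨i, j, h⟩ := huE _ h
    refine hpar i ?_
    have := congrArg Abelianization.of h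
    simpa [map_mul, map_zpow, hs, mem_commutator_iff_of.1 hcR] using this
  have huv_out : u * d.b ∉ closure ({e, s} : Set G) := fun h => by
    obtain ⟨i, j, h⟩ := huE _ h
    refine hpar i ?_
    have := congrArg Abelianization.of h
    simpa [map_mul, map_zpow, hu, hs, mem_commutator_iff_of.1 hcR] using this
  -- a conjugate of `b` by `h = b ^ J * c ^ l`
  have hh : ∀ J l : ℤ, ∃ β : ℤ,
      (d.b ^ J * c ^ l) * d.b * (d.b ^ J * c ^ l)⁻¹ = c ^ (2 * l * β) * d.b := fun J l => by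
    obtain ⟨β, -, hβ⟩ := hconj (d.b ^ J)
    refine ⟨β, ?_⟩
    rw [show d.b ^ J * c ^ l * d.b * (d.b ^ J * c ^ l)⁻¹ =
      d.b ^ J * c ^ l * (d.b * c ^ (-l)) * (d.b ^ J)⁻¹ by group, hbc',
      show d.b ^ J * c ^ l * (c ^ (- -l) * d.b) * (d.b ^ J)⁻¹ =
      d.b ^ J * c ^ (l + l) * (d.b ^ J)⁻¹ * d.b by group, hβ,
      show β * (l + l) = 2 * l * β by ring]
  have hspl : ∀ g : G, ∃ i J l : ℤ,
      g = e ^ i * (d.b ^ J * c ^ l) ∨ g = e ^ i * (d.a * (d.b ^ J * c ^ l)) := fun g => by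
    obtain ⟨I, J, y, hy, rfl⟩ := d.spl g
    have hof' : Abelianization.of (d.a ^ I * d.b ^ J * y) =
        Abelianization.of d.a ^ I * Abelianization.of d.b ^ J := by
      rw [map_mul, mem_commutator_iff_of.1 hy, mul_one, map_mul, map_zpow, map_zpow]
    rcases Int.even_or_odd' I with ⟨i, rfl | rfl⟩
    · obtain ⟨l, hl⟩ := mem_zpowers_iff.1 (hRc ▸ (show (e ^ i * d.b ^ J)⁻¹ *
        (d.a ^ (2 * i) * d.b ^ J * y) ∈ commutator G by
          rw [mem_commutator_iff_of, map_mul, map_inv, hof, hof', map_mul, map_zpow, map_zpow,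
            inv_mul_cancel]))
      exact ⟨i, J, l, Or.inl (by rw [hl]; group)⟩
    · obtain ⟨l, hl⟩ := mem_zpowers_iff.1 (hRc ▸ (show (e ^ i * d.a * d.b ^ J)⁻¹ *
        (d.a ^ (2 * i + 1) * d.b ^ J * y) ∈ commutator G by
          rw [mem_commutator_iff_of, map_mul, map_inv, hof', map_mul, map_mul, map_zpow _ e, heof,
            map_zpow, ← zpow_natCast, ← zpow_mul, ← zpow_add_one, Nat.cast_ofNat, inv_mul_cancel]))
      exact ⟨i, J, l, Or.inr (by rw [hl]; group)⟩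
  have hstrip : ∀ (i : ℤ) (g : G), e ^ i * g * d.b * (e ^ i * g)⁻¹ ∈ P → g * d.b * g⁻¹ ∈ P :=
    fun i g h => by
      have := mul_mem (mul_mem (inv_mem (zpow_mem heP i)) h) (zpow_mem heP i)
      rwa [show (e ^ i)⁻¹ * (e ^ i * g * d.b * (e ^ i * g)⁻¹) * e ^ i = g * d.b * g⁻¹ by group]
        at this
  have hcenter : ∀ g : G, Commute g d.b → g ∈ P := by
    intro g hg
    obtain ⟨i, J, l, rfl | rfl⟩ := hspl g
    · have h1 : Commute (d.b ^ J * c ^ l) d.b := by
        have := (heb.zpow_left i).inv_left.mul_left hg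
        rwa [inv_mul_cancel_left] at this
      have h2 : Commute (c ^ l) d.b := by
        have := ((Commute.refl d.b).zpow_left J).inv_left.mul_left h1
        rwa [inv_mul_cancel_left] at this
      have h3 := hbc l
      rw [← h2.eq, mul_inv_cancel_right, heq] at h3
      refine mul_mem (zpow_mem heP i) (mul_mem (zpow_mem hbP J) (hUP l ?_))
      refine Int.dvd_of_mul_dvd_mul_left (two_ne_zero) (hUN.trans (h3.trans ⟨1, by ring⟩))
    · exfalso
      have h1 : Commute (d.a * (d.b ^ J * c ^ l)) d.b := by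
        have := (heb.zpow_left i).inv_left.mul_left hg
        rwa [inv_mul_cancel_left] at this
      obtain ⟨β, hβ⟩ := hh J l
      have h2 : d.a * (d.b ^ J * c ^ l * d.b * (d.b ^ J * c ^ l)⁻¹) * d.a⁻¹ = d.b := by
        rw [show d.a * (d.b ^ J * c ^ l * d.b * (d.b ^ J * c ^ l)⁻¹) * d.a⁻¹ =
          d.a * (d.b ^ J * c ^ l) * d.b * (d.a * (d.b ^ J * c ^ l))⁻¹ by group, h1.eq,
          mul_inv_cancel_right]
      rw [hβ, show d.a * (c ^ (2 * l * β) * d.b) * d.a⁻¹ =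
        d.a * c ^ (2 * l * β) * d.a⁻¹ * (d.a * d.b * d.a⁻¹) by group, hα, hcd, ← mul_assoc,
        mul_eq_right, ← zpow_add_one, hone] at h2
      have h3 := hN2.trans h2
      rw [show (2 * p + 1) * (2 * l * β) + 1 = 2 * ((2 * p + 1) * (l * β)) + 1 by ring] at h3
      omega
  have heven : ∀ (i J l : ℤ), e ^ i * (d.b ^ J * c ^ l) * d.b * (e ^ i * (d.b ^ J * c ^ l))⁻¹ ∈ P →
      U ∣ 2 * l := fun i J l h => by
    obtain ⟨β, ⟨f, rfl⟩, hβ⟩ := hconj (d.b ^ J)
    have h1 := hstrip _ _ h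
    have e1 : d.b ^ J * c ^ l * d.b * (d.b ^ J * c ^ l)⁻¹ = c ^ ((2 * f + 1) * (l + l)) * d.b := by
      rw [show d.b ^ J * c ^ l * d.b * (d.b ^ J * c ^ l)⁻¹ =
        d.b ^ J * c ^ l * (d.b * c ^ (-l)) * (d.b ^ J)⁻¹ by group, hbc',
        show d.b ^ J * c ^ l * (c ^ (- -l) * d.b) * (d.b ^ J)⁻¹ =
        d.b ^ J * c ^ (l + l) * (d.b ^ J)⁻¹ * d.b by group, hβ]
    rw [e1] at h1
    have h2 := mul_mem h1 (inv_mem hbP)
    rw [mul_inv_cancel_right] at h2
    rw [two_mul]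
    refine IsCoprime.dvd_of_dvd_mul_left ?_ (hPc _ h2)
    rw [hU]; exact IsCoprime.pow_left ⟨-f, 1, by ring⟩
  have hu2 : u * u = s := by rw [hu, hs, ← zpow_add, two_mul]
  have hvu : d.b * u = u * d.b * s := by
    rw [hu, hs, hbc', mul_assoc, hbc', ← mul_assoc, ← zpow_add]
    ring_nf
  have hs2 : s * s = 1 := by
    rw [hs, ← zpow_add, hone]; exact hU4.trans ⟨1, by ring⟩
  have hv2 : d.b * d.b = s := hb2
  rcases Nat.eq_zero_or_pos k with hk0 | hkpos
  · -- `w = a`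
    have hU1 : U = 1 := by rw [hU, hk0, pow_zero]
    have hN4 : N ∣ 4 := by have := hU4; rwa [hU1, mul_one] at this
    have hae : Commute d.a e := by
      refine commute_of_conj ?_
      rw [he, show d.a * (c ^ t * (d.a * d.a)) * d.a⁻¹ = d.a * c ^ t * d.a⁻¹ * (d.a * d.a) by group,
        hα, mul_left_inj, heq, ht]
      obtain ⟨f, hf⟩ := Int.even_mul_succ_self p
      exact hN4.trans ⟨-f, by linear_combination (-2 : ℤ) * hf⟩
    refine ⟨u, d.b, e, s, d.a, mem_top _, mem_top _, mem_top _, mem_top _, hu2, hv2, hs2, hvu, heu,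
      heb, fun x _ => hcent x, hae, ?_, ?_, hu_out, hv_out, huv_out, fun h => ?_,
      fun g _ => hcenter g, fun g _ hg => ?_⟩
    · rw [hu, hs, hU1, hα, ← zpow_add, heq, heq]
      rcases Int.even_or_odd p with ⟨f, hf⟩ | ⟨f, hf⟩
      · exact Or.inl (hN4.trans ⟨f, by rw [hf]; ring⟩)
      · exact Or.inr (hN4.trans ⟨f, by rw [hf]; ring⟩)
    · rw [hu, hU1, zpow_one, hcd]
    · obtain ⟨i, j, y, hy, h'⟩ := hform _ h
      obtain ⟨l, rfl⟩ := mem_zpowers_iff.1 hy
      have h1 : d.a ^ (2 * i - 1) * d.b ^ j ∈ commutator G := by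
        have h3 := congrArg Abelianization.of h'
        rw [map_mul, hof, hu, map_zpow, map_zpow, mem_commutator_iff_of.1 hcR, one_zpow, one_zpow,
          mul_one, map_mul, map_zpow, map_zpow] at h3
        rw [mem_commutator_iff_of, map_mul, map_zpow, map_zpow, zpow_sub_one, mul_right_comm, ← h3,
          mul_inv_cancel]
      have h2 := (dvd_pow_self (2 : ℤ) (by have := d.two_le; omega : d.r ≠ 0)).trans (d.rel _ _ h1).1
      omega
    · obtain ⟨i, J, l, rfl | rfl⟩ := hspl g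
      · exact Or.inl (mul_mem (zpow_mem heP i) (mul_mem (zpow_mem hbP J)
          (hUP l (hU1 ▸ one_dvd l))))
      · refine Or.inr ?_
        rw [show d.a⁻¹ * (e ^ i * (d.a * (d.b ^ J * c ^ l))) =
          d.a⁻¹ * e ^ i * d.a * (d.b ^ J * c ^ l) by group, (hae.inv_left.zpow_right i).eq,
          inv_mul_cancel_right]
        exact mul_mem (zpow_mem heP i) (mul_mem (zpow_mem hbP J) (hUP l (hU1 ▸ one_dvd l)))
  · -- `w = c ^ W` with `U = 2 W`
    obtain ⟨j, rfl⟩ : ∃ j, k = j + 1 := ⟨k - 1, by omega⟩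
    set W : ℤ := 2 ^ j with hW
    have hUW : U = 2 * W := by rw [hU, hW, pow_succ']
    set w := c ^ W with hw
    have hwe : Commute w e := by
      obtain ⟨f, hf⟩ := Int.even_mul_succ_self p
      refine (hee w W ?_ rfl).symm
      exact hU4.trans ⟨f, by rw [hUW]; linear_combination (4 * W) * hf⟩
    have hwb : w * d.b * w⁻¹ = u * d.b := by
      rw [hw, hu, hUW, ← zpow_neg, mul_assoc, hbc', ← mul_assoc, ← zpow_add, neg_neg, two_mul]
    have hwinv : w⁻¹ * d.b * w ∈ P := by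
      rw [show w⁻¹ * d.b * w = (w⁻¹ * u⁻¹ * w) * (w⁻¹ * (u * d.b) * w) by group, ← hwb,
        show w⁻¹ * (w * d.b * w⁻¹) * w = d.b by group,
        show w⁻¹ * u⁻¹ * w = u⁻¹ by
          rw [hw, hu, ← zpow_neg, ← zpow_neg, ← zpow_add, ← zpow_add]; ring_nf]
      exact mul_mem (inv_mem huP) hbP
    refine ⟨u, d.b, e, s, w, mem_top _, mem_top _, mem_top _, mem_top _, hu2, hv2, hs2, hvu, heu,
      heb, fun x _ => hcent x, hwe, Or.inl ?_, hwb, hu_out, hv_out, huv_out, fun h => ?_,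
      fun g _ => hcenter g, fun g _ hg => ?_⟩
    · rw [hw, hu, ← zpow_neg, ← zpow_add, ← zpow_add]
      ring_nf
    · have h1 := hPc W h
      rw [hUW] at h1
      have := Int.le_of_dvd (by positivity) h1
      have : (0 : ℤ) < W := by positivity
      omega
    · obtain ⟨i, J, l, rfl | rfl⟩ := hspl g
      · have h1 := heven i J l hg
        rw [hUW] at h1
        obtain ⟨f, rfl⟩ := Int.dvd_of_mul_dvd_mul_left two_ne_zero h1
        rcases Int.even_or_odd' f with ⟨f', rfl | rfl⟩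
        · exact Or.inl (mul_mem (zpow_mem heP i) (mul_mem (zpow_mem hbP J)
            (hUP _ ⟨f', by rw [hUW]; ring⟩)))
        · refine Or.inr ?_
          rw [show w⁻¹ * (e ^ i * (d.b ^ J * c ^ (W * (2 * f' + 1)))) =
            (w⁻¹ * e * w) ^ i * (w⁻¹ * d.b * w) ^ J * c ^ (W * (2 * f')) by
              rw [hw, show w⁻¹ * e * w = w⁻¹ * e * w⁻¹⁻¹ by group,
                show w⁻¹ * d.b * w = w⁻¹ * d.b * w⁻¹⁻¹ by group, conj_zpow, conj_zpow, mul_add,
                mul_one, zpow_add, ← hw]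
              have hcw : Commute (c ^ (W * (2 * f'))) w := (Commute.refl c).zpow_zpow _ _
              rw [hcw.eq]
              group]
          refine mul_mem (mul_mem (zpow_mem ?_ i) (zpow_mem hwinv J)) (hUP _ ⟨f', by rw [hUW]; ring⟩)
          rw [mul_assoc, ← hwe.eq, inv_mul_cancel_left]
          exact heP
      · exfalso
        have h1 := hstrip _ _ hg
        obtain ⟨β, hβ⟩ := hh J l
        rw [show d.a * (d.b ^ J * c ^ l) * d.b * (d.a * (d.b ^ J * c ^ l))⁻¹ =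
          d.a * (d.b ^ J * c ^ l * d.b * (d.b ^ J * c ^ l)⁻¹) * d.a⁻¹ by group, hβ,
          show d.a * (c ^ (2 * l * β) * d.b) * d.a⁻¹ =
          d.a * c ^ (2 * l * β) * d.a⁻¹ * (d.a * d.b * d.a⁻¹) by group, hα, hcd,
          ← mul_assoc, ← zpow_add_one] at h1
        have h2 := mul_mem h1 (inv_mem hbP)
        rw [mul_inv_cancel_right] at h2
        have h3 := (Dvd.intro W hUW.symm : (2 : ℤ) ∣ U).trans (hPc _ h2)
        rw [show (2 * p + 1) * (2 * l * β) + 1 = 2 * ((2 * p + 1) * (l * β)) + 1 by ring] at h3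
        omega

end CfsgLib.Fusion.Bicyclic
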