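import Cfsg.Agent.Lib.Fusion.System.Bicyclic.Frattini
import Cfsg.Agent.Lib.CFun.OddMetacyclicAction
import Cfsg.Agent.Lib.Coprime.ItoProduct

/-!
# The derived group of a bicyclic 2-group, when it is not cyclic

It is generated by `c = [a, b]` and `[a, c]`, `a ^ 2 ^ r` is congruent to `[a, c]` modulo squares,
and when `b ^ 4 = 1` the element `b` inverts it up to involutions.
-/

set_option autoImplicit false
set_option maxHeartbeats 1000000
set_option linter.style.haveILetI false
set_option linter.unusedSectionVars false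

open Subgroup
open scoped commutatorElement

namespace CfsgLib.Fusion.Bicyclic

universe u

/-- The hypotheses on the group. -/
structure Hyp (G : Type u) [Group G] : Prop where
  pgroup : IsPGroup 2 G
  notMeta : ¬ Cfsg.IsMetacyclic G
  bicyclic : IsBicyclic G

variable {G : Type u} [Group G] [Finite G]

theorem Hyp.comm (H : Hyp G) {s t : G} (hs : s ∈ commutator G) (ht : t ∈ commutator G) :
    Commute s t := by
  obtain ⟨x, y, hxy⟩ := H.bicyclic
  obtain ⟨K, -, hK, hle⟩ := CfsgLib.Coprime.exists_abelian_commutator_le (zpowers x) (zpowers y)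
    fun g => by
      obtain ⟨i, j, rfl⟩ := hxy g
      exact ⟨_, zpow_mem (mem_zpowers x) i, _, zpow_mem (mem_zpowers y) j, rfl⟩
  exact congrArg Subtype.val (hK.is_comm.comm (⟨s, hle hs⟩ : K) ⟨t, hle ht⟩)

theorem Hyp.cover' (H : Hyp G) {L N : Subgroup G} (hL : L ≤ sqSub G)
    (hn : ∀ h ∈ L, ∀ n ∈ N, h * n * h⁻¹ ∈ N)
    (hsq : ∀ h ∈ L, h * h ∈ N) {x y z : G} (hx : x ∈ L) (hy : y ∈ L) (hz : z ∈ L) :
    x ∈ N ∨ y ∈ N ∨ x * y ∈ N ∨ z ∈ N ∨ z * x ∈ N ∨ z * y ∈ N ∨ z * (x * y) ∈ N := by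
  classical
  haveI : (N.subgroupOf L).Normal := ⟨fun n h g => hn g g.2 n h⟩
  set π := QuotientGroup.mk' (N.subgroupOf L)
  have hm : Cfsg.IsMetacyclic L := by
    obtain ⟨N', hN', hc, hq⟩ := CfsgLib.CFun.MetaAct.metacyclic_subgroup
      (isMetacyclic_sqSub H.pgroup H.notMeta H.bicyclic) (L.subgroupOf (sqSub G))
    have e := Subgroup.subgroupOfEquivOfLe hL
    haveI := hN'
    haveI := hc
    haveI := hq
    haveI : (N'.map e.toMonoidHom).Normal := Normal.map hN' _ e.surjective
    exact ⟨N'.map e.toMonoidHom, inferInstance, isCyclic_of_surjective _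
      (e.toMonoidHom.subgroupMap_surjective N'), isCyclic_of_surjective
      (QuotientGroup.congr N' (N'.map e.toMonoidHom) e rfl) (MulEquiv.surjective _)⟩
  obtain ⟨Z, hZn, hZc, hZq⟩ := hm
  haveI := hZn
  obtain ⟨⟨g, hgZ⟩, hg⟩ := hZc.exists_generator
  obtain ⟨q, hq⟩ := hZq.exists_generator
  obtain ⟨k, rfl⟩ := QuotientGroup.mk'_surjective Z q
  have h2 : ∀ w : π.range, w * w = 1 := by
    rintro ⟨_, w, rfl⟩
    refine Subtype.ext ?_
    show π w * π w = 1
    rw [← map_mul]
    exact (QuotientGroup.eq_one_iff _).2 (mem_subgroupOf.2 (hsq _ w.2))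
  have hcm : ∀ u v : π.range, u * v = v * u := fun u v => by
    have hi : ∀ w : π.range, w⁻¹ = w := fun w => inv_eq_of_mul_eq_one_right (h2 w)
    calc u * v = (u * v)⁻¹ := (hi _).symm
      _ = v * u := by rw [mul_inv_rev, hi, hi]
  set G₀ : π.range := ⟨π g, g, rfl⟩
  set K₀ : π.range := ⟨π k, k, rfl⟩
  have hpow : ∀ (w : π.range) (i : ℤ), w ^ i = 1 ∨ w ^ i = w := fun w i => by
    have h2' : w ^ (2 : ℤ) = 1 := by rw [zpow_two, h2]
    rcases Int.even_or_odd i with ⟨n, rfl⟩ | ⟨n, rfl⟩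
    · exact Or.inl (by rw [← two_mul, zpow_mul, h2', one_zpow])
    · exact Or.inr (by rw [zpow_add, zpow_mul, h2', one_zpow, one_mul, zpow_one])
  have hall : ∀ w : π.range, w ∈ ({1, G₀, K₀, G₀ * K₀} : Finset π.range) := by
    rintro ⟨_, w, rfl⟩
    obtain ⟨j, hj⟩ := mem_zpowers_iff.1 (hq (QuotientGroup.mk' Z w))
    rw [← map_zpow] at hj
    have hw : (k ^ j)⁻¹ * w ∈ Z := QuotientGroup.eq.1 hj
    obtain ⟨i, hi⟩ := mem_zpowers_iff.1 (hg ⟨_, hw⟩)
    have hi' : g ^ i = (k ^ j)⁻¹ * w := by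
      simpa using congrArg Subtype.val hi
    have he : (⟨π w, w, rfl⟩ : π.range) = K₀ ^ j * G₀ ^ i := Subtype.ext (by
      show π w = _
      rw [Subgroup.coe_mul, Subgroup.coe_zpow, Subgroup.coe_zpow, ← map_zpow π, ← map_zpow π,
        ← map_mul, hi', mul_inv_cancel_left])
    rw [he]
    rcases hpow K₀ j with h | h <;> rcases hpow G₀ i with h' | h' <;> rw [h, h'] <;>
      simp [hcm G₀ K₀]
  by_contra hne
  simp only [not_or] at hne
  obtain ⟨h1, h2', h3, h4, h5, h6, h7⟩ := hne
  have hmk : ∀ w : L, π w = 1 → (w : G) ∈ N := fun w hw => mem_subgroupOf.1 ((QuotientGroup.eq_one_iff w).1 hw)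
  set X : π.range := ⟨π ⟨x, hx⟩, _, rfl⟩
  set Y : π.range := ⟨π ⟨y, hy⟩, _, rfl⟩
  set W : π.range := ⟨π ⟨z, hz⟩, _, rfl⟩
  have hX : X ≠ 1 := fun e => h1 (hmk _ (congrArg Subtype.val e))
  have hY : Y ≠ 1 := fun e => h2' (hmk _ (congrArg Subtype.val e))
  have hXY : X * Y ≠ 1 := fun e => h3 (hmk (⟨x, hx⟩ * ⟨y, hy⟩) (by
    rw [map_mul]; exact congrArg Subtype.val e))
  have hW : ∀ V : π.range, V ∈ ({1, X, Y, X * Y} : Finset π.range) → W ≠ V := by
    intro V hV e
    simp only [Finset.mem_insert, Finset.mem_singleton] at hV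
    rcases hV with rfl | rfl | rfl | rfl
    · exact h4 (hmk _ (congrArg Subtype.val e))
    · exact h5 (hmk (⟨z, hz⟩ * ⟨x, hx⟩) (by
        rw [map_mul]; exact congrArg Subtype.val (show W * X = 1 by rw [e, h2])))
    · exact h6 (hmk (⟨z, hz⟩ * ⟨y, hy⟩) (by
        rw [map_mul]; exact congrArg Subtype.val (show W * Y = 1 by rw [e, h2])))
    · exact h7 (hmk (⟨z, hz⟩ * (⟨x, hx⟩ * ⟨y, hy⟩)) (by
        rw [map_mul, map_mul]
        exact congrArg Subtype.val (show W * (X * Y) = 1 by rw [e, h2])))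
  have hc4 : ({1, X, Y, X * Y} : Finset π.range).card = 4 := by
    have hne' : X ≠ Y := fun e => hXY (by rw [e, h2])
    have h8 : X ≠ X * Y := fun e => hY (left_eq_mul.1 e)
    have h9 : Y ≠ X * Y := fun e => hX (right_eq_mul.1 e)
    simp [hX.symm, hY.symm, hXY.symm, hne', h8, h9]
  have hle : ({1, G₀, K₀, G₀ * K₀} : Finset π.range).card ≤ 4 := Finset.card_le_four
  have h5' : (insert W ({1, X, Y, X * Y} : Finset π.range)).card ≤ 4 :=
    le_trans (Finset.card_le_card fun w _ => hall w) hle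
  rw [Finset.card_insert_of_notMem fun h => hW W h rfl, hc4] at h5'
  omega

/-- `Hyp.cover'` for a normal subgroup. -/
theorem Hyp.cover (H : Hyp G) {L N : Subgroup G} [N.Normal] (hL : L ≤ sqSub G)
    (hsq : ∀ h ∈ L, h * h ∈ N) {x y z : G} (hx : x ∈ L) (hy : y ∈ L) (hz : z ∈ L) :
    x ∈ N ∨ y ∈ N ∨ x * y ∈ N ∨ z ∈ N ∨ z * x ∈ N ∨ z * y ∈ N ∨ z * (x * y) ∈ N := by
  exact H.cover' hL (fun h _ n hn => (inferInstance : N.Normal).conj_mem n hn h) hsq hx hy hz

/-- Three commuting involutions of `Φ(G)` are dependent. -/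
theorem Hyp.involution_cover (H : Hyp G) {x y z : G} (hx : x ∈ sqSub G) (hy : y ∈ sqSub G)
    (hz : z ∈ sqSub G) (hxy : Commute x y) (hxz : Commute x z) (hyz : Commute y z)
    (hx2 : x * x = 1) (hy2 : y * y = 1) (hz2 : z * z = 1) (hx1 : x ≠ 1) (hy1 : y ≠ 1)
    (hne : x ≠ y) : z = 1 ∨ z = x ∨ z = y ∨ z = x * y := by
  have hc : IsMulCommutative (closure ({x, y, z} : Set G)) := Subgroup.isMulCommutative_closure (by
    rintro u (rfl | rfl | rfl) v (rfl | rfl | rfl) <;>
      first
        | rfl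
        | exact hxy.eq
        | exact hxy.eq.symm
        | exact hxz.eq
        | exact hxz.eq.symm
        | exact hyz.eq
        | exact hyz.eq.symm)
  have hsq : ∀ h ∈ closure ({x, y, z} : Set G), h * h ∈ (⊥ : Subgroup G) := by
    intro h hh
    rw [mem_bot]
    induction hh using closure_induction with
    | mem u hu => rcases hu with rfl | rfl | rfl <;> assumption
    | one => simp
    | mul u v hu hv ihu ihv =>
      have hcv : v * u = u * v := congrArg Subtype.val
        (hc.is_comm.comm (⟨v, hv⟩ : closure ({x, y, z} : Set G)) ⟨u, hu⟩)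
      calc u * v * (u * v) = u * (v * u) * v := by group
        _ = u * u * (v * v) := by rw [hcv]; group
        _ = 1 := by rw [ihu, ihv, one_mul]
    | inv u _ ihu => rw [← mul_inv_rev, ihu, inv_one]
  have hi : ∀ {u v : G}, v * v = 1 → u * v = 1 → u = v := fun hv h => by
    rw [mul_eq_one_iff_eq_inv.1 h, inv_eq_of_mul_eq_one_right hv]
  have hxy2 : x * y * (x * y) = 1 := by
    rw [hxy.eq, show y * x * (y * x) = y * (x * y) * x by group, hxy.eq,
      show y * (y * x) * x = y * y * (x * x) by group, hx2, hy2, one_mul]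
  rcases H.cover (N := ⊥) ((closure_le _).2 (by rintro u (rfl | rfl | rfl) <;> assumption)) hsq
    (subset_closure (Set.mem_insert x _))
    (subset_closure (Set.mem_insert_of_mem x (Set.mem_insert y _)))
    (subset_closure (Set.mem_insert_of_mem x (Set.mem_insert_of_mem y (Set.mem_singleton z))))
    with h | h | h | h | h | h | h <;> rw [mem_bot] at h
  · exact absurd h hx1
  · exact absurd h hy1
  · exact absurd (hi hy2 h) hne
  · exact Or.inl h
  · exact Or.inr (Or.inl (hi hx2 h))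
  · exact Or.inr (Or.inr (Or.inl (hi hy2 h)))
  · exact Or.inr (Or.inr (Or.inr (hi hxy2 h)))

/-- The squares of the derived group. -/
def r2 (G : Type u) [Group G] : Subgroup G := closure {h | ∃ s ∈ commutator G, h = s * s}

theorem sq_mem_r2 {s : G} (hs : s ∈ commutator G) : s * s ∈ r2 G := subset_closure ⟨s, hs, rfl⟩

omit [Finite G] in
theorem r2_le_derK : r2 G ≤ derK G := (closure_le _).2 fun _ ⟨_, hs, he⟩ => he ▸ sq_mem_derK hs

instance r2_normal : (r2 G).Normal := by
  refine ⟨fun n hn g => ?_⟩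
  induction hn using closure_induction with
  | mem x hx =>
    obtain ⟨s, hs, rfl⟩ := hx
    exact subset_closure ⟨g * s * g⁻¹, (inferInstance : (commutator G).Normal).conj_mem s hs g,
      by group⟩
  | one => simp
  | mul x y _ _ hx hy =>
    rw [show g * (x * y) * g⁻¹ = g * x * g⁻¹ * (g * y * g⁻¹) by group]
    exact mul_mem hx hy
  | inv x _ hx =>
    rw [show g * x⁻¹ * g⁻¹ = (g * x * g⁻¹)⁻¹ by group]
    exact inv_mem hx

theorem Hyp.mem_r2 (H : Hyp G) {h : G} (hh : h ∈ r2 G) : ∃ s ∈ commutator G, h = s * s := by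
  induction hh using closure_induction with
  | mem x hx => exact hx
  | one => exact ⟨1, one_mem _, by simp⟩
  | mul x y _ _ hx hy =>
    obtain ⟨s, hs, rfl⟩ := hx
    obtain ⟨t, ht, rfl⟩ := hy
    exact ⟨s * t, mul_mem hs ht, by
      rw [show s * t * (s * t) = s * (t * s) * t by group, (H.comm ht hs).eq]; group⟩
  | inv x _ hx =>
    obtain ⟨s, hs, rfl⟩ := hx
    exact ⟨s⁻¹, inv_mem hs, by group⟩

omit [Finite G] in
theorem Gens.c_mem (d : Gens G) : ⁅d.a, d.b⁆ ∈ commutator G :=
  commutator_mem_commutator (mem_top _) (mem_top _)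

theorem Gens.mem_derK_or (d : Gens G) {s : G} (hs : s ∈ commutator G) :
    s ∈ derK G ∨ ⁅d.a, d.b⁆⁻¹ * s ∈ derK G := by
  have h := d.commutator_le hs
  rw [← SetLike.mem_coe, Subgroup.mul_normal] at h
  obtain ⟨u, hu, k, hk, rfl⟩ := Set.mem_mul.1 h
  obtain ⟨i, rfl⟩ := mem_zpowers_iff.1 hu
  have hc2 := sq_mem_derK d.c_mem
  rcases Int.even_or_odd i with ⟨n, rfl⟩ | ⟨n, rfl⟩
  · refine Or.inl (mul_mem ?_ hk)
    rw [zpow_add, ← (Commute.refl ⁅d.a, d.b⁆).mul_zpow]
    exact zpow_mem hc2 n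
  · refine Or.inr ?_
    rw [← mul_assoc]
    refine mul_mem ?_ hk
    rw [zpow_add, two_mul, zpow_add, ← (Commute.refl ⁅d.a, d.b⁆).mul_zpow, zpow_one,
      show ⁅d.a, d.b⁆⁻¹ * ((⁅d.a, d.b⁆ * ⁅d.a, d.b⁆) ^ n * ⁅d.a, d.b⁆) =
        ⁅d.a, d.b⁆⁻¹ * (⁅d.a, d.b⁆ * ⁅d.a, d.b⁆) ^ n * ⁅d.a, d.b⁆⁻¹⁻¹ by group]
    exact derK_normal.conj_mem _ (zpow_mem hc2 n) _

theorem Gens.mem_sqSub_iff (d : Gens G) {g : G} :
    g ∈ sqSub G ↔ ∃ i : ℤ, Even i ∧ ∃ s ∈ commutator G, g = d.a ^ i * s := by
  have hab : ∀ z, z ∈ commutator G ↔ Abelianization.of z = 1 := fun z => by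
    rw [← Abelianization.ker_of, MonoidHom.mem_ker]
  have hbb : Abelianization.of d.b * Abelianization.of d.b = 1 := by
    rw [← map_mul, ← hab]; exact derK_le d.sq
  refine ⟨fun hg => ?_, ?_⟩
  · suffices h : ∃ i : ℤ, Even i ∧ Abelianization.of g = Abelianization.of d.a ^ i by
      obtain ⟨i, hi, he⟩ := h
      refine ⟨i, hi, (d.a ^ i)⁻¹ * g, (hab _).2 ?_, by group⟩
      rw [map_mul, map_inv, map_zpow, he, inv_mul_cancel]
    induction hg using closure_induction with
    | mem x hx =>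
      obtain ⟨y, rfl⟩ := hx
      obtain ⟨i, j, s, hs, rfl⟩ := d.spl y
      refine ⟨i + i, ⟨i, rfl⟩, ?_⟩
      simp only [map_mul, map_zpow, (hab s).1 hs, mul_one]
      rw [mul_mul_mul_comm, ← mul_zpow, ← mul_zpow, hbb, one_zpow, mul_one,
        zpow_add, mul_zpow]
    | one => exact ⟨0, ⟨0, rfl⟩, by simp⟩
    | mul x y _ _ hx hy =>
      obtain ⟨i, hi, hx⟩ := hx
      obtain ⟨j, hj, hy⟩ := hy
      exact ⟨i + j, hi.add hj, by rw [map_mul, hx, hy, zpow_add]⟩
    | inv x _ hx =>
      obtain ⟨i, hi, hx⟩ := hx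
      exact ⟨-i, hi.neg, by rw [map_inv, hx, zpow_neg]⟩
  · rintro ⟨i, ⟨n, rfl⟩, s, hs, rfl⟩
    refine mul_mem ?_ (commutator_le_sqSub hs)
    rw [zpow_add]
    exact sq_mem _

/-- The consequences of the derived group being noncyclic. -/
structure Facts (d : Gens G) : Prop where
  nu_notMem : ⁅d.a, ⁅d.a, d.b⁆⁆ ∉ r2 G
  derK_cases : ∀ k ∈ derK G, k ∈ r2 G ∨ k * ⁅d.a, ⁅d.a, d.b⁆⁆ ∈ r2 G
  pow_nu : d.a ^ 2 ^ d.r * ⁅d.a, ⁅d.a, d.b⁆⁆ ∈ r2 G
  pow_notMem : d.a ^ 2 ^ d.r ∉ r2 G

theorem Hyp.facts (H : Hyp G) (hnc : ¬ IsCyclic (commutator G)) (d : Gens G) : Facts d := by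
  haveI : Fact (Nat.Prime 2) := ⟨Nat.prime_two⟩
  set c := ⁅d.a, d.b⁆ with hc
  set ν := ⁅d.a, c⁆ with hν
  have hcR := d.c_mem
  have hνK : ν ∈ derK G := by
    rw [hν, ← commutatorElement_inv]
    exact inv_mem (comm_mem_derK hcR d.a)
  have hRS : commutator G ≤ sqSub G := commutator_le_sqSub
  have hpair : ∀ k ∈ derK G, ∀ k' ∈ derK G, k ∉ r2 G → k' ∈ r2 G ∨ k' * k ∈ r2 G := by
    intro k hk k' hk' hkn
    have hck : ∀ m ∈ derK G, c * m ∉ derK G := fun m hm h =>
      d.comm (by simpa using mul_mem h (inv_mem hm))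
    rcases H.cover (L := commutator G) (N := r2 G) hRS (fun h hh => sq_mem_r2 hh) hcR
      (derK_le hk) (derK_le hk') with h | h | h | h | h | h | h
    · exact absurd (r2_le_derK h) d.comm
    · exact absurd h hkn
    · exact absurd (r2_le_derK h) (hck k hk)
    · exact Or.inl h
    · refine absurd ?_ d.comm
      simpa using mul_mem (inv_mem hk') (r2_le_derK h)
    · exact Or.inr h
    · refine absurd ?_ (hck k hk)
      simpa using mul_mem (inv_mem hk') (r2_le_derK h)
  have hKnot : ¬ derK G ≤ r2 G := fun hle => hnc (by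
    have htop : (zpowers c).subgroupOf (commutator G) = ⊤ := by
      refine frattini_nongenerating (eq_top_iff.2 fun n _ => ?_)
      have hle' : commutator G ≤
          ((zpowers c).subgroupOf (commutator G) ⊔ frattini (commutator G)).map
            (commutator G).subtype := by
        refine d.commutator_le.trans (sup_le ?_ (hle.trans ((closure_le _).2 ?_)))
        · rw [Subgroup.map_sup, subgroupOf_map_subtype, inf_eq_left.2 (zpowers_le.2 hcR)]
          exact le_sup_left
        · rintro _ ⟨s, hs, rfl⟩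
          refine ⟨⟨s, hs⟩ * ⟨s, hs⟩, mem_sup_right ?_, rfl⟩
          rw [← sq]
          exact CfsgLib.Coprime.pow_mem_frattini (H.pgroup.to_subgroup _) _
      obtain ⟨m, hm, hme⟩ := hle' n.2
      rwa [show n = m from Subtype.ext hme.symm]
    exact isCyclic_of_le (subgroupOf_eq_top.1 htop))
  set π := QuotientGroup.mk' (r2 G) with hπ
  have hπ1 : ∀ z, π z = 1 ↔ z ∈ r2 G := fun z => QuotientGroup.eq_one_iff z
  have hπ2 : ∀ {s}, s ∈ commutator G → π s * π s = 1 := fun hs => by
    rw [← map_mul, hπ1]; exact sq_mem_r2 hs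
  have hcent : ∀ k ∈ derK G, ∀ q, Commute (π k) q := by
    intro k hk q
    obtain ⟨g, rfl⟩ := QuotientGroup.mk'_surjective (r2 G) q
    by_cases hkn : k ∈ r2 G
    · rw [(hπ1 k).2 hkn]; exact Commute.one_left _
    have hg := derK_normal.conj_mem k hk g
    rcases hpair k hk _ hg hkn with h | h
    · exact absurd (by simpa [mul_assoc] using r2_normal.conj_mem _ h g⁻¹) hkn
    · have h1 : π g * π k * (π g)⁻¹ * π k = 1 := by
        rw [← map_inv, ← map_mul, ← map_mul, ← map_mul, hπ1]; exact h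
      refine Commute.symm ?_
      show π g * π k = π k * π g
      rw [mul_eq_one_iff_eq_inv, inv_eq_of_mul_eq_one_right (hπ2 (derK_le hk))] at h1
      conv_rhs => rw [← h1]
      group
  have hbc : Commute (π c) (π d.b) := by
    have h1 : c * (d.b * c * d.b⁻¹) = ⁅d.a, d.b * d.b⁆ := by
      simp only [hc, commutatorElement_def]; group
    have h2 : π c * (π d.b * π c * (π d.b)⁻¹) = 1 := by
      rw [← map_inv, ← map_mul, ← map_mul, ← map_mul, h1, map_commutatorElement,
        commutatorElement_eq_one_iff_mul_comm]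
      exact (hcent _ d.sq _).eq.symm
    rw [mul_eq_one_iff_inv_eq, inv_eq_of_mul_eq_one_right (hπ2 hcR)] at h2
    show π c * π d.b = π d.b * π c
    conv_lhs => rw [h2]
    group
  have hνn : ν ∉ r2 G := fun h => hKnot ((closure_le _).2 fun z hz => by
    have hac : Commute (π d.a) (π c) := by
      refine commutatorElement_eq_one_iff_commute.1 ?_
      rwa [← map_commutatorElement, hπ1]
    have hall : ∀ g : G, Commute (π c) (π g) := fun g => by
      induction d.gen.ge (mem_top g) using closure_induction with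
      | mem z hz =>
        rcases hz with rfl | rfl
        · exact hac.symm
        · exact hbc
      | one => rw [map_one]; exact Commute.one_right _
      | mul z w _ _ hz hw => rw [map_mul]; exact hz.mul_right hw
      | inv z _ hz => rw [map_inv]; exact hz.inv_right
    rcases hz with ⟨s, hs, rfl⟩ | ⟨s, hs, g, rfl⟩
    · exact sq_mem_r2 hs
    · rw [SetLike.mem_coe, ← hπ1, map_commutatorElement, commutatorElement_eq_one_iff_commute]
      rcases d.mem_derK_or hs with hk | hk
      · exact hcent _ hk _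
      · have h1 := (hall g).mul_left (hcent _ hk (π g))
        rwa [← map_mul, mul_inv_cancel_left] at h1)
  have hcases : ∀ k ∈ derK G, k ∈ r2 G ∨ k * ν ∈ r2 G := fun k hk => hpair ν hνK k hk hνn
  have hpow : d.a ^ 2 ^ d.r ∉ r2 G := by
    intro hν2
    set u := d.a ^ 2 ^ (d.r - 1) with hu
    have hr : d.r - 1 + 1 = d.r := Nat.sub_add_cancel (le_trans one_le_two d.two_le)
    have hu2 : u * u = d.a ^ 2 ^ d.r := by
      rw [hu, ← pow_add, ← two_mul, ← pow_succ', hr]
    have huS : u ∈ sqSub G := by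
      obtain ⟨m, hm⟩ : ∃ m, 2 ^ (d.r - 1) = m + m := ⟨2 ^ (d.r - 2), by
        rw [← two_mul, ← pow_succ']; congr 1; have := d.two_le; omega⟩
      rw [hu, hm, pow_add]; exact sq_mem _
    have hac : π d.a * π c * (π d.a)⁻¹ = π ν * π c := by
      rw [hν, ← map_inv, ← map_mul, ← map_mul, ← map_mul, commutatorElement_def]
      congr 1; group
    have ha2c : Commute (π d.a * π d.a) (π c) := by
      show _ * _ = _ * _
      have h1 : π d.a * π c = π ν * π c * π d.a := by rw [← hac]; group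
      calc π d.a * π d.a * π c = π d.a * (π d.a * π c) := by group
        _ = (π d.a * π ν) * π c * π d.a := by rw [h1]; group
        _ = π ν * (π d.a * π c) * π d.a := by rw [← (hcent ν hνK (π d.a)).eq]; group
        _ = π ν * π ν * π c * (π d.a * π d.a) := by rw [h1]; group
        _ = π c * (π d.a * π d.a) := by rw [hπ2 (derK_le hνK), one_mul]
    have huc : Commute (π u) (π c) := by
      obtain ⟨m, hm⟩ : ∃ m, 2 ^ (d.r - 1) = 2 * m := ⟨2 ^ (d.r - 2), by
        rw [← pow_succ']; congr 1; have := d.two_le; omega⟩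
      rw [hu, hm, map_pow, pow_mul, sq]
      exact ha2c.pow_left m
    set L := closure ({u, c, ν} : Set G) ⊔ r2 G with hL
    have hLS : L ≤ sqSub G := sup_le ((closure_le _).2 (by
      rintro z (rfl | rfl | rfl)
      · exact huS
      · exact hRS hcR
      · exact hRS (derK_le hνK))) ((r2_le_derK.trans derK_le).trans hRS)
    have hsqL : ∀ h ∈ L, h * h ∈ r2 G := by
      have hc' : IsMulCommutative (closure ({π u, π c, π ν} : Set (G ⧸ r2 G))) :=
        Subgroup.isMulCommutative_closure (by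
          rintro x (rfl | rfl | rfl) y (rfl | rfl | rfl) <;>
            first
              | rfl
              | exact huc.eq
              | exact huc.eq.symm
              | exact (hcent ν hνK _).eq
              | exact (hcent ν hνK _).eq.symm)
      intro h hh
      have hh' : π h ∈ closure ({π u, π c, π ν} : Set (G ⧸ r2 G)) := by
        have h1 := mem_map_of_mem π hh
        rw [hL, Subgroup.map_sup, MonoidHom.map_closure, hπ, QuotientGroup.map_mk'_self,
          sup_bot_eq, Set.image_insert_eq, Set.image_pair] at h1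
        exact h1
      rw [← hπ1, map_mul]
      generalize π h = w at hh' ⊢
      induction hh' using closure_induction with
      | mem z hz =>
        rcases hz with rfl | rfl | rfl
        · rw [← map_mul, hu2, hπ1]; exact hν2
        · exact hπ2 hcR
        · exact hπ2 (derK_le hνK)
      | one => simp
      | mul x y hx hy ihx ihy =>
        have hcv : y * x = x * y := congrArg Subtype.val (hc'.is_comm.comm
          (⟨y, hy⟩ : closure ({π u, π c, π ν} : Set (G ⧸ r2 G))) ⟨x, hx⟩)
        calc x * y * (x * y) = x * (y * x) * y := by group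
          _ = x * x * (y * y) := by rw [hcv]; group
          _ = 1 := by rw [ihx, ihy, one_mul]
      | inv x _ ihx => rw [← mul_inv_rev, ihx, inv_one]
    have huR : u ∉ commutator G := fun h => by
      have h1 := (d.rel ((2 ^ (d.r - 1) : ℕ) : ℤ) 0 (by
        rw [zpow_natCast, zpow_zero, mul_one]; exact h)).1
      rw [show ((2 : ℤ) ^ d.r) = ((2 ^ d.r : ℕ) : ℤ) by push_cast; rfl, Int.natCast_dvd_natCast] at h1
      have := Nat.le_of_dvd (pow_pos two_pos _) h1
      exact absurd this (not_le.2 (Nat.pow_lt_pow_right one_lt_two (by omega)))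
    have hmem : ∀ {z}, z ∈ ({u, c, ν} : Set G) → z ∈ L := fun hz => mem_sup_left (subset_closure hz)
    have hR2 : r2 G ≤ commutator G := r2_le_derK.trans derK_le
    have huu : ∀ {s}, s ∈ commutator G → u * s ∈ r2 G → False := fun hs h =>
      huR (by simpa using mul_mem (hR2 h) (inv_mem hs))
    rcases H.cover (N := r2 G) hLS hsqL (hmem (z := c) (by simp)) (hmem (z := ν) (by simp))
      (hmem (z := u) (by simp)) with h | h | h | h | h | h | h
    · exact d.comm (r2_le_derK h)
    · exact hνn h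
    · exact d.comm (by simpa using mul_mem (r2_le_derK h) (inv_mem hνK))
    · exact huR (hR2 h)
    · exact huu hcR h
    · exact huu (derK_le hνK) h
    · exact huu (mul_mem hcR (derK_le hνK)) h
  refine ⟨hνn, hcases, ?_, hpow⟩
  exact (hcases _ d.pow).resolve_left hpow

end CfsgLib.Fusion.Bicyclic
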