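import Cfsg.Agent.Lib.Fusion.System.Bicyclic.FourBase
import Cfsg.Agent.Lib.Fusion.Sylow
import Mathlib.GroupTheory.FixedPointFree
import Mathlib.GroupTheory.Transfer

/-!
# An elementary abelian subgroup of order eight is not essential
-/

set_option autoImplicit false
set_option maxHeartbeats 1000000
set_option linter.style.haveILetI false
set_option linter.unusedSectionVars false

open Subgroup
open scoped commutatorElement

namespace CfsgLib.Fusion.Bicyclic

universe u

variable {G : Type u} [Group G] [Finite G] {P : Subgroup G} {t : G} {τ α : MulAut P} {x y : P}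
  (H : Hyp G) (hne : P ≠ ⊤) (hnc : ¬ IsCyclic (commutator G))
include H hne hnc

theorem elementary_false_of_not_all {X : Subgroup (MulAut P)} (E : Ess P X) (B : BData α x y 1)
    (I : Inverted P t τ α) (hτX : τ ∈ X) (hαX : α ∈ X) (hexp : ∀ p : P, p * p = 1)
    (hall : ¬ ∀ s ∈ commutator G, s * s = 1) : False := by
  haveI : Fact (Nat.Prime 2) := ⟨Nat.prime_two⟩
  haveI : Finite (MulAut P) := Finite.of_injective (fun a : MulAut P => (a : P → P))
    DFunLike.coe_injective
  obtain ⟨d, hb, hz, hPeven, hteven, hci, hWP⟩ := B.setup H hne hnc I E.cent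
  have hab := four_comm H hne hnc B I
  let U : Subgroup (MulAut P) :=
    { carrier := {φ | ∀ p : P, (p : G) ∈ sqSub G → φ p = p}
      one_mem' := fun p _ => rfl
      mul_mem' := fun {φ ψ} hφ hψ p hp => by rw [MulAut.mul_apply, hψ p hp, hφ p hp]
      inv_mem' := fun {φ} hφ p hp => by
        conv_lhs => rw [← hφ p hp]
        exact φ.symm_apply_apply p }
  have hout : ∀ {p : P}, (p : G) ∉ sqSub G → ((x⁻¹ * p : P) : G) ∈ sqSub G := fun hp =>
    inv_mul_mem_sqSub H hne x.2 (Subtype.coe_prop _) B.xs hp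
  have hUx : ∀ φ ∈ U, ((x⁻¹ * φ x : P) : G) ∈ sqSub G := fun φ hφ => hout fun hs => B.xs (by
    have h := hφ (φ x) hs
    rwa [φ.injective h] at hs)
  have hU2 : ∀ φ ∈ U, φ * φ = 1 := by
    intro φ hφ
    refine MulEquiv.ext fun p => ?_
    rw [MulAut.mul_apply, MulAut.one_apply]
    by_cases hp : (p : G) ∈ sqSub G
    · rw [hφ p hp, hφ p hp]
    have hx : φ (φ x) = x := by
      have h := hφ _ (hUx φ hφ)
      rw [map_mul, map_inv] at h
      have h2 : φ (φ x) = φ x * (x⁻¹ * φ x) := by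
        rw [← h, mul_inv_cancel_left]
      rw [h2, ← mul_assoc, hab (φ x) x⁻¹, mul_assoc, hexp, mul_one,
        inv_eq_of_mul_eq_one_right (hexp x)]
    have h1 : φ (φ (x⁻¹ * p)) = x⁻¹ * p := by rw [hφ _ (hout hp), hφ _ (hout hp)]
    simp only [map_mul, map_inv, hx] at h1
    exact mul_left_cancel h1
  have hUinv : ∀ s : G, s ∈ commutator G → s * s = 1 →
      ∃ φ ∈ Cfsg.autInducedBy ⊤ P, ∃ hs : s ∈ P, φ x = ⟨s, hs⟩ * x ∧ φ ∈ U := by
    intro s hs hs2
    obtain ⟨g, hg, hgs⟩ := exists_delta H hnc d hz hall hs hs2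
    have hgx : g * x * g⁻¹ = s * x := by
      rw [← hb, ← hgs, commutatorElement_def]; group
    have hgc : CentInvol g := fun w hw hw2 => comm_sqSub_invol H hnc hg hw hw2
    have hfix : ∀ p : P, (p : G) ∈ sqSub G → g * p * g⁻¹ = p := fun p hp => by
      rw [(comm_invol_sub H hne hnc hgc hp (hexp p)).eq, mul_inv_cancel_right]
    have hn : ∀ p ∈ P, g * p * g⁻¹ ∈ P := by
      intro p hp
      by_cases hps : p ∈ sqSub G
      · rw [hfix ⟨p, hp⟩ hps]; exact hp
      · have e : g * ((x : G)⁻¹ * p) * g⁻¹ = (x : G)⁻¹ * p := hfix (x⁻¹ * ⟨p, hp⟩) (hout hps)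
        rw [show g * p * g⁻¹ = (g * x * g⁻¹) * (g * ((x : G)⁻¹ * p) * g⁻¹) by group, e, hgx]
        exact mul_mem (mul_mem (hWP s hs hs2) x.2) (mul_mem (inv_mem x.2) hp)
    let φ : MulAut P := MulEquiv.ofBijective
      ({ toFun := fun p => ⟨g * p * g⁻¹, hn p p.2⟩
         map_one' := Subtype.ext (by simp)
         map_mul' := fun p q => Subtype.ext (by simp only [Subgroup.coe_mul]; group) } : P →* P)
      (Finite.injective_iff_bijective.1 fun p q h => Subtype.ext (by
        simpa using congrArg Subtype.val h))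
    exact ⟨φ, subset_closure ⟨g, mem_top g, fun _ => rfl⟩, hWP s hs hs2, Subtype.ext hgx,
      fun p hp => Subtype.ext (hfix p hp)⟩
  have hUle : Cfsg.autInducedBy ⊤ P ≤ U := by
    refine (closure_le _).2 ?_
    rintro φ ⟨n, -, hn⟩ p hp
    refine Subtype.ext ?_
    rw [hn]
    have hneven : IsEven d n := by
      by_contra he
      obtain ⟨d', ha', hb'⟩ := exists_gens_of_not_even H d he
      have hc : ⁅n, d.b⁆ ∈ P := by
        rw [commutatorElement_def, hb, ← hn x]
        exact mul_mem (φ x).2 (inv_mem x.2)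
      have hcR : ⁅n, d.b⁆ ∈ commutator G := commutator_mem_commutator (mem_top _) (mem_top _)
      rcases invol_cases H hnc d' with h | h
      · exact hall h
      · refine d'.comm ?_
        rw [ha', hb']
        exact h _ hcR (congrArg Subtype.val (hexp ⟨_, hc⟩))
    rw [(comm_invol_sub H hne hnc (hci n hneven) hp (hexp p)).eq, mul_inv_cancel_right]
  have hUge : U ≤ Cfsg.autInducedBy ⊤ P := by
    intro φ hφ
    have hq := hUx φ hφ
    set q : P := x⁻¹ * φ x with hqd
    obtain ⟨ψ, hψ, hs, hψx, hψU⟩ := hUinv q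
      (invol_mem H hnc hq (congrArg Subtype.val (hexp q))) (congrArg Subtype.val (hexp q))
    rwa [show φ = ψ from MulEquiv.ext fun p => by
      by_cases hp : (p : G) ∈ sqSub G
      · rw [hφ p hp, hψU p hp]
      · have h1 := hφ _ (hout hp)
        have h2 := hψU _ (hout hp)
        rw [map_mul, map_inv] at h1 h2
        have hx : ψ x = φ x := by
          rw [hψx, hab, show (⟨(q : G), hs⟩ : P) = q from rfl, hqd, mul_inv_cancel_left]
        rw [← hx] at h1
        exact mul_left_cancel (h1.trans h2.symm)]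
  have hτU : τ ∈ U := hUle (subset_closure ⟨t, mem_top t, I.apply⟩)
  -- `α` does not normalize the part inside `Φ(G)`
  obtain ⟨p₀, hp₀, hαp₀⟩ : ∃ p : P, (p : G) ∈ sqSub G ∧ (α p : G) ∉ sqSub G := by
    by_contra h
    push Not at h
    have hτα : ∀ p : P, τ (α p) = α (α (τ p)) := fun p => by
      obtain ⟨u, hu⟩ := I.inv
      rw [hu, hab u, mul_inv_cancel_right]
    have h2 : α ∈ U := fun p hp => by
      have h1 := hτU _ (h p hp)
      rw [hτα, hτU p hp] at h1
      exact α.injective h1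
    refine I.ne ?_
    have h4 := I.cube
    rwa [pow_succ, pow_succ, pow_one, hU2 _ h2, one_mul] at h4
  -- a common element of the two hyperplanes
  obtain ⟨u, v, hu, hv, hu2, hv2, hu1, hv1, huv⟩ := exists_involutions H hnc d
  obtain ⟨ℓ, hℓs, hℓ1, hαℓ⟩ : ∃ l : P, (l : G) ∈ sqSub G ∧ l ≠ 1 ∧ (α l : G) ∈ sqSub G := by
    set u' : P := ⟨u, hWP u hu hu2⟩
    set v' : P := ⟨v, hWP v hv hv2⟩
    by_cases h1 : (α u' : G) ∈ sqSub G
    · exact ⟨u', commutator_le_sqSub hu, fun h => hu1 (congrArg Subtype.val h), h1⟩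
    by_cases h2 : (α v' : G) ∈ sqSub G
    · exact ⟨v', commutator_le_sqSub hv, fun h => hv1 (congrArg Subtype.val h), h2⟩
    refine ⟨u'⁻¹ * v', mul_mem (inv_mem (commutator_le_sqSub hu)) (commutator_le_sqSub hv),
      fun h => huv (congrArg Subtype.val (inv_mul_eq_one.1 h)), ?_⟩
    rw [map_mul, map_inv]
    exact inv_mul_mem_sqSub H hne (α u').2 (α v').2 h1 h2
  obtain ⟨φ, hφ, hs, hφx, hφU⟩ := hUinv ℓ (invol_mem H hnc hℓs (congrArg Subtype.val (hexp ℓ)))
    (congrArg Subtype.val (hexp ℓ))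
  replace hφx : φ x = ℓ * x := hφx
  set U' := α * φ * α⁻¹ with hU'
  have hU'2 : U' * U' = 1 := by
    rw [hU', show α * φ * α⁻¹ * (α * φ * α⁻¹) = α * (φ * φ) * α⁻¹ by group, hU2 φ hφU, mul_one,
      mul_inv_cancel]
  have hU'W : ∀ p : P, (p : G) ∈ sqSub G → (U' p : G) ∈ sqSub G := by
    intro p hp
    set p' := α⁻¹ p with hp'
    have e : α p' = p := α.apply_symm_apply p
    show ((α (φ p') : P) : G) ∈ sqSub G
    by_cases h : (p' : G) ∈ sqSub G
    · rw [hφU p' h, e]; exact hp
    · have h1 := hφU _ (hout h)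
      rw [map_mul, map_inv] at h1
      have h2 : φ p' = ℓ * p' := by
        have h3 : φ p' = φ x * (x⁻¹ * p') := by rw [← h1, mul_inv_cancel_left]
        rw [h3, hφx, mul_assoc, mul_inv_cancel_left]
      rw [h2, map_mul, e, Subgroup.coe_mul]
      exact mul_mem hαℓ hp
  have hnot : U' ∉ U := by
    intro hU''
    have hzero : ∀ p : P, (p : G) ∈ sqSub G → (α⁻¹ p : G) ∈ sqSub G := by
      intro p hp
      by_contra h
      have h1 := hU'' p hp
      rw [hU', MulAut.mul_apply, MulAut.mul_apply] at h1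
      set p' := α⁻¹ p with hp'
      have e : α p' = p := α.apply_symm_apply p
      have h2 := hφU _ (hout h)
      rw [map_mul, map_inv] at h2
      have h3 : φ p' = φ x * (x⁻¹ * p') := by rw [← h2, mul_inv_cancel_left]
      rw [h3, hφx, mul_assoc, mul_inv_cancel_left, map_mul, e, mul_eq_right] at h1
      exact hℓ1 ((map_eq_one_iff _ α.injective).1 h1)
    refine hαp₀ ?_
    have e : α p₀ = α⁻¹ (α⁻¹ p₀) := by
      rw [← MulAut.mul_apply, ← mul_inv_rev]
      have h3 : α * α * α = 1 := by rw [← I.cube, pow_succ, pow_succ, pow_one]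
      rw [inv_eq_of_mul_eq_one_right h3]
    rw [e]
    exact hzero _ (hzero _ hp₀)
  have hnorm : zpowers U' ≤ normalizer (U : Set (MulAut P)) := by
    have hinv : U'⁻¹ = U' := inv_eq_of_mul_eq_one_right hU'2
    have hcl : ∀ ψ ∈ U, U' * ψ * U'⁻¹ ∈ U := fun ψ hψ p hp => by
      rw [MulAut.mul_apply, MulAut.mul_apply, hinv, hψ _ (hU'W p hp), ← MulAut.mul_apply, hU'2]
      rfl
    refine zpowers_le.2 (mem_normalizer_iff.2 fun ψ => ⟨hcl ψ, fun h => ?_⟩)
    have h1 := hcl _ h
    rwa [hinv, show U' * (U' * ψ * U') * U' = (U' * U') * ψ * (U' * U') by group, hU'2, one_mul,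
      mul_one] at h1
  have hU2' : IsPGroup 2 U := fun g => ⟨1, Subtype.ext (by
    rw [Subgroup.coe_pow, pow_one, sq]; exact hU2 _ g.2)⟩
  have hZ : IsPGroup 2 (zpowers U') := by
    obtain ⟨l, -, hl⟩ := (Nat.dvd_prime_pow Nat.prime_two).1 (orderOf_dvd_of_pow_eq_one
      (show U' ^ 2 ^ 1 = 1 by rw [pow_one, sq]; exact hU'2))
    exact IsPGroup.of_card (n := l) (by rw [Nat.card_zpowers, hl])
  have hUeq : Cfsg.autInducedBy ⊤ P = U := le_antisymm hUle hUge
  have hφX : φ ∈ X := E.ind hφ
  have := CfsgLib.Fusion.eq_of_le_of_isPGroup_of_not_dvd_relIndex (p := 2)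
    (hU2'.to_sup_of_normal_left' hZ hnorm) (hUle.trans le_sup_left)
    (sup_le (hUge.trans E.ind) (zpowers_le.2 (mul_mem (mul_mem hαX hφX) (inv_mem hαX)))) E.syl
  exact hnot (hUeq ▸ this ▸ mem_sup_right (mem_zpowers U'))

theorem elementary_false_of_all {X : Subgroup (MulAut P)} (E : Ess P X) (B : BData α x y 1)
    (I : Inverted P t τ α) (hτX : τ ∈ X) (hαX : α ∈ X) (hexp : ∀ p : P, p * p = 1)
    (hall : ∀ s ∈ commutator G, s * s = 1) : False := by
  haveI : Fact (Nat.Prime 2) := ⟨Nat.prime_two⟩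
  haveI : Finite (MulAut P) := Finite.of_injective (fun a : MulAut P => (a : P → P))
    DFunLike.coe_injective
  obtain ⟨d, hb, hz, hPeven, hteven, hci, hWP⟩ := B.setup H hne hnc I E.cent
  have hab := four_comm H hne hnc B I
  have hRP : commutator G ≤ P := fun s hs => hWP s hs (hall s hs)
  haveI : P.Normal := ⟨fun p hp g => by
    have h := mul_mem (hRP (commutator_mem_commutator (mem_top g) (mem_top p))) hp
    rwa [show ⁅g, p⁆ * p = g * p * g⁻¹ by simp only [commutatorElement_def]; group] at h⟩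
  have hout : ∀ {p : P}, (p : G) ∉ sqSub G → ((x⁻¹ * p : P) : G) ∈ sqSub G := fun hp =>
    inv_mul_mem_sqSub H hne x.2 (Subtype.coe_prop _) B.xs hp
  have hτfix : ∀ {p : P}, (p : G) ∈ sqSub G → τ p = p := fun {p} hp => Subtype.ext (by
    rw [I.apply, (comm_invol_sub H hne hnc (hci t hteven) hp (hexp p)).eq, mul_inv_cancel_right])
  have hτx : τ x = y * x := Subtype.ext (by
    rw [I.apply, Subgroup.coe_mul, ← four_moved H hne hnc B I (hci t hteven)]; group)
  have hτout : ∀ {p : P}, (p : G) ∉ sqSub G → τ p = y * p := fun {p} hp => by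
    have h := hτfix (hout hp)
    rw [map_mul, map_inv] at h
    have h2 : τ p = τ x * (x⁻¹ * p) := by rw [← h, mul_inv_cancel_left]
    rw [h2, hτx, mul_assoc, mul_inv_cancel_left]
  have hy2 := hexp y
  have hτ2 : τ * τ = 1 := MulEquiv.ext fun p => Subtype.ext (by
    rw [MulAut.mul_apply, MulAut.one_apply, I.apply, I.apply]
    have h : (t * t) * (p : G) = p * (t * t) := congrArg Subtype.val (hab ⟨_, I.sq⟩ p)
    rw [show t * (t * (p : G) * t⁻¹) * t⁻¹ = t * t * p * (t * t)⁻¹ by group, h,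
      mul_inv_cancel_right])
  have hτ1 : τ ≠ 1 := fun h => B.yne.1 (mul_eq_right.1 (hτx.symm.trans (by rw [h]; rfl)))
  -- an involution of `G'` other than `y`
  have hyR : (y : G) ∈ commutator G := invol_mem H hnc B.ys (congrArg Subtype.val hy2)
  obtain ⟨u, v, hu, hv, hu2, hv2, hu1, hv1, huv⟩ := exists_involutions H hnc d
  obtain ⟨w, hws, hw1, hwy⟩ : ∃ w : P, (w : G) ∈ sqSub G ∧ w ≠ 1 ∧ w ≠ y := by
    by_cases h : u = y
    · exact ⟨⟨v, hRP hv⟩, commutator_le_sqSub hv, fun e => hv1 (congrArg Subtype.val e),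
        fun e => huv (h.trans (congrArg Subtype.val e).symm)⟩
    · exact ⟨⟨u, hRP hu⟩, commutator_le_sqSub hu, fun e => hu1 (congrArg Subtype.val e),
        fun e => h (congrArg Subtype.val e)⟩
  have hwR : (w : G) ∈ commutator G := invol_mem H hnc hws (congrArg Subtype.val (hexp w))
  have hlist : ∀ p : P, (p : G) ∈ sqSub G → p = 1 ∨ p = y ∨ p = w ∨ p = y * w := by
    intro p hp
    rcases H.involution_cover B.ys hws hp (H.comm hyR hwR)
      (congrArg Subtype.val (hab y p) : _) (congrArg Subtype.val (hab w p) : _)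
      (congrArg Subtype.val hy2) (congrArg Subtype.val (hexp w))
      (congrArg Subtype.val (hexp p)) (fun e => B.yne.1 (Subtype.ext e))
      (fun e => hw1 (Subtype.ext e)) (fun e => hwy (Subtype.ext e.symm)) with e | e | e | e
    · exact Or.inl (Subtype.ext e)
    · exact Or.inr (Or.inl (Subtype.ext e))
    · exact Or.inr (Or.inr (Or.inl (Subtype.ext e)))
    · exact Or.inr (Or.inr (Or.inr (Subtype.ext e)))
  -- the fixed line of `α`
  obtain ⟨-, f, hf, hfQ⟩ := I.facts H hne
  have hcomm : ∀ p ∈ comDisp α, ∀ q ∈ comDisp α, p * q = q * p := fun p _ q _ => hab p q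
  have hfix : ∀ p : P, α p = p → p = 1 ∨ p = f := by
    intro p hp
    obtain ⟨q, hq, k, hk, rfl⟩ := CfsgLib.Coprime.mem_sup_exists (N := comDisp α) (H := zpowers f)
      (le_of_le_of_eq le_top (normalizer_eq_top_iff.2 inferInstance).symm)
      ((sup_comm (zpowers f) (comDisp α) ▸ hfQ).ge (mem_top p))
    obtain ⟨i, rfl⟩ := mem_zpowers_iff.1 hk
    rw [map_mul, map_zpow, hf, mul_left_inj] at hp
    rw [I.eq_one_of_fix H hcomm hq hp, one_mul]
    rcases Int.even_or_odd i with ⟨n, rfl⟩ | ⟨n, rfl⟩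
    · exact Or.inl (by rw [zpow_add, ← (Commute.refl f).mul_zpow, hexp, one_zpow])
    · exact Or.inr (by
        rw [zpow_add, two_mul, zpow_add, ← (Commute.refl f).mul_zpow, hexp, one_zpow, one_mul,
          zpow_one])
  have hf1 : f ≠ 1 := by
    intro h
    rw [h, zpowers_one_eq_bot, bot_sup_eq] at hfQ
    exact hwy (B.uniq w (hfQ.ge (mem_top _)) y B.yQ hws B.ys (hexp w) hy2 hw1 B.yne.1)
  have hfs : (f : G) ∈ sqSub G := by
    obtain ⟨u', hu'⟩ := I.inv
    have h1 := hu' f
    rw [hf, hab u', mul_inv_cancel_right] at h1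
    have h2 : α (τ f) = τ f := by
      conv_lhs => rw [h1]
      rw [I.apply_three]
    by_contra hfs
    rcases hfix _ h2 with e | e
    · exact hf1 ((map_eq_one_iff _ τ.injective).1 e)
    · rw [hτout hfs, mul_eq_right] at e
      exact B.yne.1 e
  have hfy : f ≠ y := fun h => hf1 (I.eq_one_of_fix H hcomm (h ▸ B.yQ) hf)
  -- a normal complement
  set Φ : G →* MulAut P := MulAut.conjNormal
  have hΦ : ∀ (g : G) (p : P), ((Φ g p : P) : G) = g * p * g⁻¹ := fun g p =>
    MulAut.conjNormal_apply g p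
  have hUrange : Cfsg.autInducedBy ⊤ P = Φ.range := by
    refine le_antisymm ((closure_le _).2 ?_) ?_
    · rintro φ ⟨g, -, hg⟩
      exact ⟨g, MulEquiv.ext fun p => Subtype.ext ((hΦ g p).trans (hg p).symm)⟩
    · rintro _ ⟨g, rfl⟩
      exact subset_closure ⟨g, mem_top g, hΦ g⟩
  have hΦb : Φ d.b = 1 := MulEquiv.ext fun p => Subtype.ext (by
    rw [hΦ, hb, congrArg Subtype.val (hab x p) |> fun h : (x : G) * p = p * x => h,
      mul_inv_cancel_right]
    rfl)
  set vA := Φ d.a with hvA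
  have hcyc : Φ.range = zpowers vA := by
    rw [MonoidHom.range_eq_map, ← d.gen, MonoidHom.map_closure, Set.image_pair, hΦb]
    refine le_antisymm ((closure_le _).2 ?_) (zpowers_le.2 (subset_closure (Set.mem_insert _ _)))
    rintro z (rfl | rfl)
    · exact mem_zpowers _
    · exact one_mem _
  have hvX : vA ∈ X := E.ind (hUrange.ge ⟨d.a, rfl⟩)
  set T := (Cfsg.autInducedBy ⊤ P).subgroupOf X with hT
  have hT2 : IsPGroup 2 T := by
    have h : IsPGroup 2 (Cfsg.autInducedBy ⊤ P) :=
      hUrange ▸ H.pgroup.of_surjective Φ.rangeRestrict (MonoidHom.rangeRestrict_surjective Φ)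
    exact h.comap_of_injective X.subtype X.subtype_injective
  set S := hT2.toSylow E.syl with hS
  haveI hTc : IsCyclic T := by
    haveI : IsCyclic (Cfsg.autInducedBy ⊤ P) := by rw [hUrange, hcyc]; infer_instance
    exact (Subgroup.subgroupOfEquivOfLe E.ind).symm.isCyclic.1 inferInstance
  set τX : X := ⟨τ, hτX⟩
  have hmin : (Nat.card X).minFac = 2 := by
    rw [Nat.minFac_eq_two_iff]
    have : orderOf τX = 2 := orderOf_eq_prime (Subtype.ext (by
      rw [Subgroup.coe_pow, sq]; exact hτ2)) fun h => hτ1 (congrArg Subtype.val h)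
    rw [← this]
    exact orderOf_dvd_natCard τX
  have hSc : normalizer (S : Set X) ≤ centralizer (S : Set X) :=
    IsCyclic.normalizer_le_centralizer hmin (P := S) hTc
  set D := (MonoidHom.transferSylow S hSc).ker with hD
  have hDodd : ¬ 2 ∣ Nat.card D := MonoidHom.not_dvd_card_ker_transferSylow S hSc
  have hαD : (⟨α, hαX⟩ : X) ∈ D := by
    rw [hD, MonoidHom.mem_ker]
    set i := MonoidHom.transferSylow S hSc ⟨α, hαX⟩
    obtain ⟨k, hk⟩ := S.isPGroup' i
    have h3 : i ^ 3 = 1 := by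
      rw [← map_pow, show (⟨α, hαX⟩ : X) ^ 3 = 1 from Subtype.ext I.cube, map_one]
    exact orderOf_eq_one_iff.1 (Nat.eq_one_of_dvd_coprimes
      (show Nat.Coprime (2 ^ k) 3 from Nat.Coprime.pow_left _ (by norm_num))
      (orderOf_dvd_of_pow_eq_one hk) (orderOf_dvd_of_pow_eq_one h3))
  -- `τ` has no fixed point on it
  have hτc : ∀ δ : D, τX * δ * τX⁻¹ ∈ D := fun δ =>
    (inferInstance : D.Normal).conj_mem _ δ.2 τX
  let ι : D →* D := MonoidHom.mk' (fun δ => ⟨τX * δ * τX⁻¹, hτc δ⟩) fun a b => Subtype.ext (by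
    simp only [Subgroup.coe_mul]; group)
  have hfpf : MonoidHom.FixedPointFree ι := by
    intro δ hδ
    have hc : τX * δ = δ * τX := mul_inv_eq_iff_eq_mul.1 (congrArg Subtype.val hδ)
    set δ' : MulAut P := ((δ : X) : MulAut P) with hδ'
    have hcc : ∀ p, τ (δ' p) = δ' (τ p) := fun p =>
      congrArg (fun f : X => (f : MulAut P) p) hc
    have hsq : ∀ p : P, (p : G) ∈ sqSub G → (δ' p : G) ∈ sqSub G := fun p hp => by
      by_contra h
      have h1 := hcc p
      rw [hτfix hp, hτout h, mul_eq_right] at h1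
      exact B.yne.1 h1
    have hδy : δ' y = y := by
      have hns : (δ' x : G) ∉ sqSub G := fun h => by
        have h1 := hcc x
        rw [hτfix h, hτx, map_mul, right_eq_mul] at h1
        exact B.yne.1 ((map_eq_one_iff _ δ'.injective).1 h1)
      have h1 := hcc x
      rw [hτout hns, hτx, map_mul] at h1
      exact (mul_right_cancel h1).symm
    have hδw : δ' (δ' w) = w := by
      rcases hlist _ (hsq w hws) with e | e | e | e
      · exact absurd ((map_eq_one_iff _ δ'.injective).1 e) hw1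
      · exact absurd (δ'.injective (e.trans hδy.symm)) hwy
      · rw [e, e]
      · rw [e, map_mul, hδy, e, ← mul_assoc, hy2, one_mul]
    have h2fix : ∀ p : P, (p : G) ∈ sqSub G → δ' (δ' p) = p := by
      intro p hp
      rcases hlist p hp with e | e | e | e <;> rw [e]
      · rw [map_one, map_one]
      · rw [hδy, hδy]
      · exact hδw
      · rw [map_mul, map_mul, hδy, hδy, hδw]
    have h4x : δ' (δ' (δ' (δ' x))) = x := by
      have hns : (δ' (δ' x) : G) ∉ sqSub G := fun h => by
        have h1 := h2fix _ h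
        exact B.xs (δ'.injective (δ'.injective h1) ▸ h)
      have h1 := h2fix _ (hout hns)
      rw [map_mul, map_mul, map_inv, map_inv] at h1
      rw [inv_mul_eq_iff_eq_mul.1 h1, ← mul_assoc, hab (δ' (δ' x)) x⁻¹, mul_assoc, hexp, mul_one,
        inv_eq_of_mul_eq_one_right (hexp x)]
    have h4 : δ' ^ 4 = 1 := MulEquiv.ext fun p => by
      simp only [pow_succ, pow_zero, one_mul, MulAut.mul_apply, MulAut.one_apply]
      by_cases hp : (p : G) ∈ sqSub G
      · rw [h2fix _ (hsq _ (hsq _ hp)), h2fix p hp]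
      · have h1 : δ' (δ' (δ' (δ' (x⁻¹ * p)))) = x⁻¹ * p := by
          rw [h2fix _ (hsq _ (hsq _ (hout hp))), h2fix _ (hout hp)]
        simp only [map_mul, map_inv, h4x] at h1
        exact mul_left_cancel h1
    have h4' : δ ^ 2 ^ 2 = 1 := Subtype.ext (Subtype.ext (by
      simpa [hδ'] using h4))
    obtain ⟨l, -, hl⟩ := (Nat.dvd_prime_pow Nat.prime_two).1 (orderOf_dvd_of_pow_eq_one h4')
    have hd : orderOf δ ∣ Nat.card D := orderOf_dvd_natCard δ
    rcases l with _ | l
    · exact orderOf_eq_one_iff.1 (by rw [hl, pow_zero])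
    · exact absurd ((dvd_pow_self 2 (by omega : l + 1 ≠ 0)).trans (hl ▸ hd)) hDodd
  have hτX2 : τX * τX = 1 := Subtype.ext hτ2
  have hinvol : Function.Involutive ι := fun δ => Subtype.ext (by
    show τX * (τX * δ * τX⁻¹) * τX⁻¹ = δ
    rw [show τX * (τX * (δ : X) * τX⁻¹) * τX⁻¹ = (τX * τX) * δ * (τX * τX)⁻¹ by group, hτX2,
      one_mul, inv_one, mul_one])
  set vX : X := ⟨vA, hvX⟩
  have hα'D : vX * ⟨α, hαX⟩ * vX⁻¹ ∈ D := (inferInstance : D.Normal).conj_mem _ hαD vX
  have hcom := hfpf.commute_all_of_involutive hinvol ⟨_, hαD⟩ ⟨_, hα'D⟩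
  have hcom' : α * (vA * α * vA⁻¹) = (vA * α * vA⁻¹) * α :=
    congrArg (fun z : D => ((z : X) : MulAut P)) hcom
  set β := vA * α * vA⁻¹ with hβ
  have hβf : β f = f := by
    have h1 : α (β f) = β f := by
      rw [← MulAut.mul_apply, hcom', MulAut.mul_apply, hf]
    rcases hfix _ h1 with e | e
    · exact absurd ((map_eq_one_iff _ β.injective).1 e) hf1
    · exact e
  have hvf : vA f = f := by
    have h1 : α (vA⁻¹ f) = vA⁻¹ f := by
      apply vA.injective
      rw [MulAut.apply_inv_self]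
      exact hβf
    rcases hfix _ h1 with e | e
    · exact absurd ((map_eq_one_iff _ (vA⁻¹ : MulAut P).injective).1 e) hf1
    · conv_lhs => rw [← e]
      exact vA.apply_symm_apply f
  -- so `a` centralizes `G'`
  have hvy : vA y = y := Subtype.ext (by
    rw [hvA, hΦ, four_all H hne hnc d hb hz hall B I hteven,
      ((Commute.refl d.a).pow_right (2 ^ d.r)).eq, mul_inv_cancel_right])
  have hfix_all : ∀ p : P, (p : G) ∈ sqSub G → vA p = p := by
    intro p hp
    have hw : vA w = w := by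
      rcases hlist f hfs with e | e | e | e
      · exact absurd e hf1
      · exact absurd e hfy
      · rw [← e]; exact hvf
      · have h := hvf
        rw [e, map_mul, hvy] at h
        exact mul_left_cancel h
    rcases hlist p hp with e | e | e | e <;> rw [e]
    · exact map_one _
    · exact hvy
    · exact hw
    · rw [map_mul, hvy, hw]
  refine (H.facts hnc d).nu_notMem ?_
  have h := congrArg Subtype.val (hfix_all ⟨_, hRP d.c_mem⟩ (commutator_le_sqSub d.c_mem))
  rw [hvA, hΦ] at h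
  rw [commutatorElement_def d.a, h, mul_inv_cancel]
  exact one_mem _

end CfsgLib.Fusion.Bicyclic
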