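import Cfsg.Agent.Lib.Fusion.System.Bicyclic.CaseQuaternion
import Cfsg.Agent.Lib.Fusion.System.Bicyclic.FourFinal

/-!
# No essential subgroup when the derived group is not cyclic
-/

set_option autoImplicit false
set_option maxHeartbeats 1000000
set_option linter.style.haveILetI false
set_option linter.unusedSectionVars false

open Subgroup

namespace CfsgLib.Fusion.Bicyclic

universe u

variable {G : Type u} [Group G] [Finite G] {P : Subgroup G} (H : Hyp G)
  (hnc : ¬ IsCyclic (commutator G))
include H hnc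

theorem caseB_false {X : Subgroup (MulAut P)} (E : Ess P X) {t : G} {τ α : MulAut P}
    (hτX : τ ∈ X) (hαX : α ∈ X) (I : Inverted P t τ α) (hA : ¬ IsCaseA α) : False := by
  obtain ⟨x, y, z, B⟩ := exists_bdata H E.ne_top hnc I hA
  by_cases hz : z = 1
  · subst hz
    have hexp := four_exponent H E.ne_top hnc E B I
    by_cases hall : ∀ s ∈ commutator G, s * s = 1
    · exact elementary_false_of_all H E.ne_top hnc E B I hτX hαX hexp hall
    · exact elementary_false_of_not_all H E.ne_top hnc E B I hτX hαX hexp hall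
  · exact quaternion_false H E.ne_top hnc E B I hz

/-- There is no essential subgroup. -/
theorem ess_false {X : Subgroup (MulAut P)} (E : Ess P X) : False := by
  haveI : Fact (Nat.Prime 2) := ⟨Nat.prime_two⟩
  haveI : Group.IsNilpotent G := H.pgroup.isNilpotent
  -- normalizing elements in a larger subgroup
  have key : ∀ K : Subgroup G, P < K → ∃ t ∈ K, ∃ τ α : MulAut P, τ ∈ X ∧ α ∈ X ∧
      Inverted P t τ α := by
    intro K hK
    have hlt : P.subgroupOf K < ⊤ :=
      lt_top_iff_ne_top.2 fun h => hK.not_ge (subgroupOf_eq_top.1 h)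
    haveI : Group.IsNilpotent K := (H.pgroup.to_subgroup K).isNilpotent
    obtain ⟨g, hgn, hgP⟩ := SetLike.exists_of_lt
      (normalizerCondition_of_isNilpotent (G := K) (P.subgroupOf K) hlt)
    obtain ⟨m, hm, hm2⟩ := exists_last (P := P) H.pgroup (g := (g : G))
      (fun h => hgP (mem_subgroupOf.2 h))
    have hn : ∀ p ∈ P, (g : G) * p * (g : G)⁻¹ ∈ P := fun p hp =>
      mem_subgroupOf.1 ((mem_normalizer_iff.1 hgn (⟨p, hK.le hp⟩ : K)).1 (mem_subgroupOf.2 hp))
    have hpow : ∀ (n : ℕ), ∀ p ∈ P, (g : G) ^ n * p * ((g : G) ^ n)⁻¹ ∈ P := by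
      intro n
      induction n with
      | zero => intro p hp; simpa using hp
      | succ n ih =>
        intro p hp
        rw [show (g : G) ^ (n + 1) * p * ((g : G) ^ (n + 1))⁻¹ =
          (g : G) ^ n * ((g : G) * p * (g : G)⁻¹) * ((g : G) ^ n)⁻¹ by rw [pow_succ]; group]
        exact ih _ (hn p hp)
    exact ⟨_, pow_mem g.2 _, exists_inverted H E (hpow _) hm hm2⟩
  obtain ⟨t, -, τ, α, hτX, hαX, I⟩ := key ⊤ (lt_top_iff_ne_top.2 E.ne_top)
  by_cases hA : IsCaseA α
  swap
  · exact caseB_false H hnc E hτX hαX I hA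
  refine caseA_false H E.ne_top hnc I hA fun g hg => ?_
  set K := centralizer ({s | s ∈ commutator G ∧ s * s = 1} : Set G)
  have hmem : ∀ k, k ∈ K ↔ CentInvol k := fun k =>
    ⟨fun h s hs hs2 => (mem_centralizer_iff.1 h s ⟨hs, hs2⟩).symm,
      fun h => mem_centralizer_iff.2 fun s hs => (h s hs.1 hs.2).eq.symm⟩
  have hPK : P ≤ K := fun p hp => (hmem p).2 ((caseA_facts H E.ne_top hnc I hA).2.1 p hp)
  by_contra hgP
  obtain ⟨t', ht', τ', α', hτ', hα', I'⟩ := key K
    (lt_of_le_of_ne hPK fun h => hgP (h ▸ (hmem g).2 hg))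
  by_cases hA' : IsCaseA α'
  · exact (caseA_facts H E.ne_top hnc I' hA').2.2 ((hmem t').1 ht')
  · exact caseB_false H hnc E hτ' hα' I' hA'

/-- The automorphism group is a 2-group. -/
theorem isPGroup_mulAut : IsPGroup 2 (MulAut G) := by
  haveI : Fact (Nat.Prime 2) := ⟨Nat.prime_two⟩
  obtain ⟨d⟩ := exists_gens H.pgroup H.notMeta H.bicyclic
  have hle := sqSub_le_frattini H
  have hsq : ∀ (φ : MulAut G) {s : G}, s ∈ sqSub G → φ s ∈ sqSub G := fun φ s hs => by
    induction hs using closure_induction with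
    | mem x hx => obtain ⟨g, rfl⟩ := hx; rw [map_mul]; exact sq_mem _
    | one => simp
    | mul x y _ _ hx hy => rw [map_mul]; exact mul_mem hx hy
    | inv x _ hx => rw [map_inv]; exact inv_mem hx
  set π := QuotientGroup.mk' (sqSub G)
  have h2 : ∀ v : G ⧸ sqSub G, v * v = 1 := fun v => by
    obtain ⟨z, rfl⟩ := QuotientGroup.mk'_surjective _ v
    exact (QuotientGroup.eq_one_iff _).2 (sq_mem z)
  have hpow : ∀ (v : G ⧸ sqSub G) (n : ℤ), (Even n → v ^ n = 1) ∧ (Odd n → v ^ n = v) := by
    intro v n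
    have h2' : v ^ (2 : ℤ) = 1 := by rw [zpow_two, h2]
    exact ⟨fun ⟨m, hm⟩ => by rw [hm, ← two_mul, zpow_mul, h2', one_zpow],
      fun ⟨m, hm⟩ => by rw [hm, zpow_add, zpow_mul, h2', one_zpow, one_mul, zpow_one]⟩
  have hR1 : ∀ s ∈ commutator G, π s = 1 := fun s hs =>
    (QuotientGroup.eq_one_iff _).2 (commutator_le_sqSub hs)
  -- `b` modulo squares is fixed
  have hb : ∀ φ : MulAut G, π (φ d.b) = π d.b := by
    intro φ
    obtain ⟨i, j, s, hs, he⟩ := d.spl (φ d.b)
    have hbb : φ d.b * φ d.b ∈ commutator G := by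
      rw [← map_mul]; exact map_mem_commutator φ (derK_le d.sq)
    have hab : Abelianization.of (d.a ^ (i + i) * d.b ^ (j + j)) = 1 := by
      rw [← MonoidHom.mem_ker, Abelianization.ker_of] at *
      rw [← Abelianization.ker_of, MonoidHom.mem_ker] at hbb hs ⊢
      rw [he] at hbb
      simp only [map_mul, map_zpow] at hbb ⊢
      rw [hs, mul_one, mul_mul_mul_comm, ← zpow_add, ← zpow_add] at hbb
      exact hbb
    have hi : Even i := by
      obtain ⟨e, hie⟩ := (d.rel _ _ (by rw [← Abelianization.ker_of, MonoidHom.mem_ker]; exact hab)).1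
      obtain ⟨r, hr⟩ : ∃ r, d.r = r + 2 := ⟨d.r - 2, by have := d.two_le; omega⟩
      refine ⟨(2 : ℤ) ^ r * e, ?_⟩
      rw [hr, pow_add, show (2 : ℤ) ^ 2 = 4 by norm_num] at hie
      linarith
    have hj : Odd j := Int.not_even_iff_odd.1 fun hje => by
      have hmem : φ d.b ∈ sqSub G := by
        refine (QuotientGroup.eq_one_iff _).1 ?_
        show π (φ d.b) = 1
        rw [he, map_mul, map_mul, map_zpow, map_zpow, (hpow _ i).1 hi, (hpow _ j).1 hje, hR1 s hs,
          one_mul, one_mul]
      have hb' : d.b ∈ sqSub G := by simpa using hsq φ.symm hmem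
      obtain ⟨k, -, s', hs', hbe⟩ := d.mem_sqSub_iff.1 hb'
      have := (d.rel (-k) 1 (by
        rw [zpow_one, hbe, zpow_neg, inv_mul_cancel_left]; exact hs')).2
      omega
    rw [he, map_mul, map_mul, map_zpow, map_zpow, (hpow _ i).1 hi, (hpow _ j).2 hj, hR1 s hs,
      one_mul, mul_one]
  intro φ
  have ha : π (φ (φ d.a)) = π d.a := by
    obtain ⟨i, j, s, hs, he⟩ := d.spl (φ d.a)
    have hφ : π (φ (φ d.a)) = π (φ d.a) ^ i * π d.b ^ j := by
      conv_lhs => rw [he]
      simp only [map_mul, map_zpow, hb φ, hR1 _ (map_mem_commutator φ hs), mul_one]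
    have h1 : π (φ d.a) = π d.a ^ i * π d.b ^ j := by
      rw [he, map_mul, map_mul, map_zpow, map_zpow, hR1 s hs, mul_one]
    rcases Int.even_or_odd i with hi | hi
    · -- then `φ` is not surjective
      exfalso
      have hN : ∀ g : G, π (φ g) ∈ zpowers (π d.b) := fun g => by
        induction d.gen.ge (mem_top g) using closure_induction with
        | mem w hw =>
          rcases hw with rfl | rfl
          · rw [h1, (hpow _ i).1 hi, one_mul]; exact zpow_mem (mem_zpowers _) j
          · rw [hb]; exact mem_zpowers _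
        | one => rw [map_one, map_one]; exact one_mem _
        | mul a b _ _ ha hb' => rw [map_mul, map_mul]; exact mul_mem ha hb'
        | inv a _ ha => rw [map_inv, map_inv]; exact inv_mem ha
      obtain ⟨e, he'⟩ := mem_zpowers_iff.1 (hN (φ.symm d.a))
      rw [MulEquiv.apply_symm_apply, ← map_zpow] at he'
      have hmem : (d.b ^ e)⁻¹ * d.a ∈ sqSub G := QuotientGroup.eq.1 he'
      have htop : zpowers d.b = ⊤ := frattini_nongenerating (eq_top_iff.2 (d.gen.ge.trans
        ((closure_le _).2 (by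
          rintro w (rfl | rfl)
          · have := mul_mem (mem_sup_left (T := frattini G) (zpow_mem (mem_zpowers d.b) e))
              (mem_sup_right (hle hmem))
            rwa [mul_inv_cancel_left] at this
          · exact mem_sup_left (mem_zpowers _)))))
      haveI : IsCyclic G := isCyclic_iff_exists_zpowers_eq_top.2 ⟨_, htop⟩
      exact H.notMeta ⟨⊤, inferInstance, inferInstance, isCyclic_of_surjective (QuotientGroup.mk' _)
        (QuotientGroup.mk'_surjective _)⟩
    rw [hφ, h1, (hpow _ i).2 hi]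
    rcases Int.even_or_odd j with hj | hj
    · rw [(hpow _ j).1 hj, mul_one, mul_one, (hpow _ i).2 hi]
    · rw [(hpow _ j).2 hj, (hpow _ i).2 hi, mul_assoc, h2, mul_one]
  have hker : CfsgLib.PGroup.MetaTwo.frAut (φ * φ) = 1 := by
    refine MulEquiv.ext fun v => ?_
    obtain ⟨g, rfl⟩ := QuotientGroup.mk_surjective v
    rw [CfsgLib.PGroup.MetaTwo.frAut_mk]
    refine QuotientGroup.eq.2 (hle (QuotientGroup.eq.1 ?_))
    show π (φ (φ g)) = π g
    induction d.gen.ge (mem_top g) using closure_induction with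
    | mem w hw =>
      rcases hw with rfl | rfl
      · exact ha
      · exact hb (φ * φ)
    | one => simp
    | mul a b _ _ ha hb' => rw [map_mul, map_mul, map_mul, ha, hb', map_mul]
    | inv a _ ha => rw [map_inv, map_inv, map_inv, ha, map_inv]
  obtain ⟨k, hk⟩ := CfsgLib.PGroup.MetaTwo.isPGroup_ker_frAut H.pgroup
    (⟨φ * φ, hker⟩ : (CfsgLib.PGroup.MetaTwo.frAut (R := G)).ker)
  refine ⟨k + 1, ?_⟩
  rw [pow_succ', pow_mul, sq]
  exact congrArg Subtype.val hk

end CfsgLib.Fusion.Bicyclic
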