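import Cfsg.Agent.Lib.Fusion.System.Bicyclic.Actions

/-!
# Involutions of `Φ(G)`, its sections, and elements outside the cosets of `a`
-/

set_option autoImplicit false
set_option maxHeartbeats 1000000
set_option linter.style.haveILetI false
set_option linter.unusedSectionVars false

open Subgroup
open scoped commutatorElement

namespace CfsgLib.Fusion.Bicyclic

universe u

variable {G : Type u} [Group G]

/-- `g` lies outside the cosets of `a`. -/
def IsEven (d : Gens G) (g : G) : Prop :=
  ∃ i j : ℤ, ∃ s ∈ commutator G, Even i ∧ g = d.a ^ i * d.b ^ j * s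

variable [Finite G] (H : Hyp G)
include H

omit [Finite G] H in
theorem even_of_mem_sqSub [Finite G] (d : Gens G) {g : G} (hg : g ∈ sqSub G) : IsEven d g := by
  obtain ⟨i, hi, s, hs, rfl⟩ := d.mem_sqSub_iff.1 hg
  exact ⟨i, 0, s, hs, hi, by rw [zpow_zero, mul_one]⟩

theorem sqSub_le_frattini : sqSub G ≤ frattini G := by
  haveI : Fact (Nat.Prime 2) := ⟨Nat.prime_two⟩
  exact (closure_le _).2 fun z ⟨g, hg⟩ => by
    rw [hg, ← sq]; exact CfsgLib.Coprime.pow_mem_frattini H.pgroup g

/-- Elements `g` and `b` generate, if `g` lies in a coset of `a`. -/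
theorem closure_eq_top (d : Gens G) {i j : ℤ} (hi : Odd i) {s : G} (hs : s ∈ commutator G) :
    closure ({d.a ^ i * d.b ^ j * s, d.b} : Set G) = ⊤ := by
  haveI : Fact (Nat.Prime 2) := ⟨Nat.prime_two⟩
  set g := d.a ^ i * d.b ^ j * s with hgdef
  refine frattini_nongenerating (eq_top_iff.2 (d.gen.ge.trans ((closure_le _).2 ?_)))
  rintro z (rfl | rfl)
  · have h1 : d.a ^ i ∈ closure ({g, d.b} : Set G) ⊔ frattini G := by
      have h2 := mul_mem (mul_mem (mem_sup_left (T := frattini G)
        (subset_closure (Set.mem_insert g ({d.b} : Set G))))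
        (inv_mem (mem_sup_right (CfsgLib.Coprime.commutator_le_frattini H.pgroup hs))))
        (inv_mem (zpow_mem (mem_sup_left (subset_closure (Set.mem_insert_of_mem g
          (Set.mem_singleton d.b)))) j))
      rwa [hgdef, mul_inv_cancel_right, mul_inv_cancel_right] at h2
    exact zpowers_le.2 h1 (CfsgLib.Invol.MetaTwo.odd_zpow_mem H.pgroup hi)
  · exact mem_sup_left (subset_closure (Set.mem_insert_of_mem g (Set.mem_singleton _)))

/-- An element outside `IsEven` is a first generator. -/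
theorem exists_gens_of_not_even (d : Gens G) {g : G} (hg : ¬ IsEven d g) :
    ∃ d' : Gens G, d'.a = g ∧ d'.b = d.b := by
  obtain ⟨i, j, s, hs, rfl⟩ := d.spl g
  exact exists_gens_of_pair H.pgroup H.notMeta
    (closure_eq_top H d (Int.not_even_iff_odd.1 fun h => hg ⟨i, j, s, hs, h, rfl⟩) hs) d.sq

/-- Outside `Φ(G)` there is one coset of each class. -/
theorem inv_mul_mem_sqSub {P : Subgroup G} (hP : P ≠ ⊤) {p q : G} (hp : p ∈ P) (hq : q ∈ P)
    (hps : p ∉ sqSub G) (hqs : q ∉ sqSub G) : p⁻¹ * q ∈ sqSub G := by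
  haveI : Fact (Nat.Prime 2) := ⟨Nat.prime_two⟩
  obtain ⟨x, y, hxy⟩ := H.bicyclic
  by_contra hne
  refine hP (frattini_nongenerating (eq_top_iff.2 fun g _ => ?_))
  set π := QuotientGroup.mk' (sqSub G)
  have h2 : ∀ v : G ⧸ sqSub G, v * v = 1 := fun v => by
    obtain ⟨z, rfl⟩ := QuotientGroup.mk'_surjective _ v
    exact (QuotientGroup.eq_one_iff _).2 (sq_mem z)
  have hi : ∀ v : G ⧸ sqSub G, v⁻¹ = v := fun v => inv_eq_of_mul_eq_one_right (h2 v)
  have hall : ∀ z : G, π z = 1 ∨ π z = π x ∨ π z = π y ∨ π z = π x * π y := fun z => by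
    obtain ⟨i, j, rfl⟩ := hxy z
    rw [map_mul, map_zpow, map_zpow]
    have hpow : ∀ (v : G ⧸ sqSub G) (n : ℤ), v ^ n = 1 ∨ v ^ n = v := fun v n => by
      have h2' : v ^ (2 : ℤ) = 1 := by rw [zpow_two, h2]
      rcases Int.even_or_odd n with ⟨m, rfl⟩ | ⟨m, rfl⟩
      · exact Or.inl (by rw [← two_mul, zpow_mul, h2', one_zpow])
      · exact Or.inr (by rw [zpow_add, zpow_mul, h2', one_zpow, one_mul, zpow_one])
    rcases hpow (π x) i with h | h <;> rcases hpow (π y) j with h' | h' <;> rw [h, h'] <;> simp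
  have hcomm : ∀ u v : G ⧸ sqSub G, u * v = v * u := fun u v => by
    rw [← hi (u * v), mul_inv_rev, hi, hi]
  -- the two classes of `p` and `q` cover everything
  have hp1 : π p ≠ 1 := fun h => hps ((QuotientGroup.eq_one_iff _).1 h)
  have hq1 : π q ≠ 1 := fun h => hqs ((QuotientGroup.eq_one_iff _).1 h)
  have hpq : π p ≠ π q := fun h => hne (QuotientGroup.eq.1 h)
  have hxx := h2 (π x)
  have hyy := h2 (π y)
  have hcases : π g = 1 ∨ π g = π p ∨ π g = π q ∨ π g = π p * π q := by
    have hxy' : π x * (π x * π y) = π y := by rw [← mul_assoc, h2, one_mul]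
    have hxy'' : π y * (π x * π y) = π x := by rw [hcomm (π x), ← mul_assoc, h2, one_mul]
    rcases hall p with h | h | h | h <;> rcases hall q with h' | h' | h' | h' <;>
      rcases hall g with h'' | h'' | h'' | h'' <;>
      rw [h] at hp1 hpq ⊢ <;> rw [h'] at hq1 hpq ⊢ <;> rw [h''] <;>
      first
        | exact absurd rfl hp1
        | exact absurd rfl hq1
        | exact absurd rfl hpq
        | exact Or.inl rfl
        | exact Or.inr (Or.inl rfl)
        | exact Or.inr (Or.inr (Or.inl rfl))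
        | exact Or.inr (Or.inr (Or.inr rfl))
        | exact Or.inr (Or.inr (Or.inr hxy'.symm))
        | exact Or.inr (Or.inr (Or.inr hxy''.symm))
        | exact Or.inr (Or.inr (Or.inr (hxy'.symm.trans (hcomm _ _))))
        | exact Or.inr (Or.inr (Or.inr (hxy''.symm.trans (hcomm _ _))))
        | exact Or.inr (Or.inr (Or.inr (hcomm _ _)))
  have key : ∀ {z : G}, z ∈ P → π g = π z → g ∈ P ⊔ frattini G := fun {z} hz h => by
    have := mul_mem (mem_sup_left (T := frattini G) hz)
      (mem_sup_right (S := P) (sqSub_le_frattini H (QuotientGroup.eq.1 h.symm)))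
    rwa [mul_inv_cancel_left] at this
  rcases hcases with h | h | h | h
  · exact key (one_mem P) (h.trans (map_one π).symm)
  · exact key hp h
  · exact key hq h
  · exact key (mul_mem hp hq) (h.trans (map_mul π p q).symm)

variable (hnc : ¬ IsCyclic (commutator G))
include hnc

/-- An involution of `Φ(G)` lies in `G'`, and `Φ(G)` centralizes it. -/
theorem comm_sqSub_invol {g s : G} (hg : g ∈ sqSub G) (hs : s ∈ commutator G) (hs2 : s * s = 1) :
    Commute g s := by
  obtain ⟨d⟩ := exists_gens H.pgroup H.notMeta H.bicyclic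
  obtain ⟨i, ⟨n, rfl⟩, t, ht, rfl⟩ := d.mem_sqSub_iff.1 hg
  refine Commute.mul_left ?_ (H.comm ht hs)
  rw [zpow_add, ← (Commute.refl d.a).mul_zpow]
  exact (conj_conj_invol H hnc d hs hs2).1.zpow_left n

theorem invol_mem {y : G} (hy : y ∈ sqSub G) (hy2 : y * y = 1) : y ∈ commutator G := by
  obtain ⟨d⟩ := exists_gens H.pgroup H.notMeta H.bicyclic
  obtain ⟨u, v, hu, hv, hu2, hv2, hu1, hv1, huv⟩ := exists_involutions H hnc d
  have hS := fun {t} (ht : t ∈ commutator G) => commutator_le_sqSub (G := G) ht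
  rcases H.involution_cover (hS hu) (hS hv) hy (H.comm hu hv)
    (comm_sqSub_invol H hnc hy hu hu2).symm (comm_sqSub_invol H hnc hy hv hv2).symm hu2 hv2 hy2
    hu1 hv1 huv with h | h | h | h <;> rw [h]
  · exact one_mem _
  · exact hu
  · exact hv
  · exact mul_mem hu hv

/-- An element normalizing a subgroup that contains `b`, is not in `Φ(G)` and has at most one
involution inside, lies outside the cosets of `a`. -/
theorem even_of_normalizes {Q : Subgroup G} (d : Gens G) (hb : d.b ∈ Q)
    (huniq : ∀ p ∈ Q, ∀ q ∈ Q, p ∈ sqSub G → q ∈ sqSub G → p * p = 1 → q * q = 1 → p ≠ 1 → q ≠ 1 →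
      p = q)
    {g : G} (hg : ∀ q ∈ Q, g * q * g⁻¹ ∈ Q) : IsEven d g := by
  by_contra hne
  obtain ⟨d', ha, hb'⟩ := exists_gens_of_not_even H d hne
  have hc : ⁅g, d.b⁆ ∈ Q := by
    rw [commutatorElement_def]
    exact mul_mem (hg _ hb) (inv_mem hb)
  have hcR : ⁅g, d.b⁆ ∈ commutator G := commutator_mem_commutator (mem_top _) (mem_top _)
  have hle : commutator G ≤ Q ⊓ commutator G := by
    refine d'.R_le_of_mem H hnc inf_le_right d'.c_mem d'.comm ?_ ?_ <;> rw [ha, hb']
    · exact mem_inf.2 ⟨hc, hcR⟩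
    · refine mem_inf.2 ⟨?_, commutator_mem_commutator (mem_top _) (mem_top _)⟩
      rw [commutatorElement_def g]
      exact mul_mem (hg _ hc) (inv_mem hc)
  obtain ⟨u, v, hu, hv, hu2, hv2, hu1, hv1, huv⟩ := exists_involutions H hnc d
  exact huv (huniq u (mem_inf.1 (hle hu)).1 v (mem_inf.1 (hle hv)).1 (commutator_le_sqSub hu)
    (commutator_le_sqSub hv) hu2 hv2 hu1 hv1)

end CfsgLib.Fusion.Bicyclic
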