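import Cfsg.Agent.Lib.Fusion.System.Bicyclic.CaseB
import Cfsg.Agent.Lib.Fusion.System.MetacyclicTwoNormal

/-!
# The displacement group is a four group: `P` is abelian, and `P` is elementary
-/

set_option autoImplicit false
set_option maxHeartbeats 1000000
set_option linter.style.haveILetI false
set_option linter.unusedSectionVars false

open Subgroup
open scoped commutatorElement

namespace CfsgLib.Fusion.Bicyclic

universe u

variable {G : Type u} [Group G] [Finite G] {P : Subgroup G} {t : G} {τ α : MulAut P} {x y : P}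
  (H : Hyp G) (hne : P ≠ ⊤) (hnc : ¬ IsCyclic (commutator G))
include H hne hnc

theorem four_comm (B : BData α x y 1) (I : Inverted P t τ α) (p q : P) : p * q = q * p := by
  rcases B.comm_le H hne hnc I p q with h | h <;>
    exact mul_inv_eq_iff_eq_mul.1 (mul_inv_eq_one.1 h)

/-- An even element centralizes the elements of square one of `P` inside `Φ(G)`. -/
theorem comm_invol_sub {g : G} (hg : CentInvol g) {q : P} (hq : (q : G) ∈ sqSub G)
    (hq2 : q * q = 1) : Commute g q :=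
  hg q (invol_mem H hnc hq (congrArg Subtype.val hq2)) (congrArg Subtype.val hq2)

/-- The commutator of `t` and `x`. -/
theorem four_moved (B : BData α x y 1) (I : Inverted P t τ α) (ht : CentInvol t) :
    t * x * t⁻¹ * (x : G)⁻¹ = y := by
  set q := τ x * x⁻¹ with hq
  have hqG : (q : G) = t * x * t⁻¹ * (x : G)⁻¹ := by rw [← I.apply x]; rfl
  rw [← hqG]
  have hqQ : q ∈ comDisp α := mul_mem (I.tau_disp H hne B.xQ) (inv_mem B.xQ)
  have hqs : (q : G) ∈ sqSub G := by
    rw [hqG, ← commutatorElement_def]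
    exact commutator_le_sqSub (commutator_mem_commutator (mem_top _) (mem_top _))
  have hfix : ∀ {p : P}, (p : G) ∈ sqSub G → p * p = 1 → τ p = p := fun {p} hp hp2 => Subtype.ext (by
    rw [I.apply, (comm_invol_sub H hne hnc ht hp hp2).eq, mul_inv_cancel_right])
  rcases B.sq_cases q hqQ hqs with h | h | h | h
  rotate_left 2
  · rw [h]
  · rw [h, mul_one]
  all_goals
    exfalso
    refine I.exists_moved H hne fun p hp => ?_
    have hx : τ x = x := mul_inv_eq_one.1 h
    by_cases hps : (p : G) ∈ sqSub G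
    · rw [hfix hps (B.four rfl p hp), inv_mul_cancel]; exact one_mem _
    · have h1 : ((x⁻¹ * p : P) : G) ∈ sqSub G := inv_mul_mem_sqSub H hne x.2 p.2 B.xs hps
      have h2 := hfix h1 (B.four rfl _ (mul_mem (inv_mem B.xQ) hp))
      rw [map_mul, map_inv, hx] at h2
      rw [mul_left_cancel h2, inv_mul_cancel]
      exact one_mem _

omit H hne hnc in
/-- Conjugates of `b` by powers of `a * a` when `G'` is a four group. -/
theorem zpow_conj_b {c b ν : G} (hν : c * b * c⁻¹ * b⁻¹ = ν) (hν2 : ν * ν = 1)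
    (hνc : Commute c ν) : ∀ k : ℤ, c ^ k * b * (c ^ k)⁻¹ * b⁻¹ ∈ zpowers ν := by
  intro k
  have h1 : b * c * b⁻¹ = ν * c := by
    have h2 : b * c * b⁻¹ = (c * b * c⁻¹ * b⁻¹)⁻¹ * c := by group
    rw [h2, hν, inv_eq_of_mul_eq_one_right hν2]
  have h3 : b * c ^ k * b⁻¹ = ν ^ k * c ^ k := by rw [← conj_zpow, h1, hνc.symm.mul_zpow]
  rw [show c ^ k * b * (c ^ k)⁻¹ * b⁻¹ = c ^ k * (b * c ^ k * b⁻¹)⁻¹ by group, h3, mul_inv_rev,
    mul_inv_cancel_left]
  exact inv_mem (zpow_mem (mem_zpowers ν) k)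

/-- When `G'` is a four group, `y = a ^ 2 ^ r`. -/
theorem four_all (d : Gens G) (hb : d.b = x) (hz : d.b * d.b * (d.b * d.b) = 1)
    (hall : ∀ s ∈ commutator G, s * s = 1) (B : BData α x y 1) (I : Inverted P t τ α)
    (ht : IsEven d t) : (y : G) = d.a ^ 2 ^ d.r := by
  obtain ⟨hν, -⟩ := delta_four H hnc d hall
  set ν := d.a ^ 2 ^ d.r
  have hνR : ν ∈ commutator G := by
    rw [← hν]; exact commutator_mem_commutator (mem_top _) (mem_top _)
  obtain ⟨i, j, s, hs, ⟨k, rfl⟩, hte⟩ := id ht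
  have htc : CentInvol t := fun w hw hw2 => by
    rw [hte]; exact comm_invol H hnc d hz ⟨k, rfl⟩ hs hw hw2
  have hy := four_moved H hne hnc B I htc
  have hsb : Commute s d.b := (b_comm_invol H hnc d hz hs (hall s hs)).symm
  have h1 : t * x * t⁻¹ * (x : G)⁻¹ = (d.a * d.a) ^ k * d.b * ((d.a * d.a) ^ k)⁻¹ * d.b⁻¹ := by
    rw [← hb, hte, (Commute.refl d.a).mul_zpow, ← zpow_add]
    calc d.a ^ (k + k) * d.b ^ j * s * d.b * (d.a ^ (k + k) * d.b ^ j * s)⁻¹ * d.b⁻¹
        = d.a ^ (k + k) * d.b ^ j * (s * d.b * s⁻¹) * (d.b ^ j)⁻¹ * (d.a ^ (k + k))⁻¹ * d.b⁻¹ := by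
          group
      _ = _ := by
        rw [hsb.eq, mul_inv_cancel_right,
          show d.a ^ (k + k) * d.b ^ j * d.b * (d.b ^ j)⁻¹ = d.a ^ (k + k) * d.b by group]
  have h2 : (y : G) ∈ zpowers ν := by
    rw [← hy, h1]
    refine zpow_conj_b (by rw [← commutatorElement_def]; exact hν) (hall ν hνR) ?_ k
    exact ((Commute.refl d.a).pow_right (2 ^ d.r)).mul_left ((Commute.refl d.a).pow_right _) 
  obtain ⟨e, he⟩ := mem_zpowers_iff.1 h2
  rcases Int.even_or_odd e with ⟨f, rfl⟩ | ⟨f, rfl⟩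
  · rw [zpow_add, ← (Commute.refl ν).mul_zpow, hall ν hνR, one_zpow] at he
    exact absurd (Subtype.ext he.symm) B.yne.1
  · rw [← he, zpow_add, two_mul, zpow_add, ← (Commute.refl ν).mul_zpow, hall ν hνR, one_zpow,
      one_mul, zpow_one]

/-- `P` is elementary. -/
theorem four_exponent {X : Subgroup (MulAut P)} (E : Ess P X) (B : BData α x y 1)
    (I : Inverted P t τ α) : ∀ p : P, p * p = 1 := by
  haveI : Fact (Nat.Prime 2) := ⟨Nat.prime_two⟩
  obtain ⟨d, hb, hz, hPeven, hteven, hci, hWP⟩ := B.setup H hne hnc I E.cent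
  have hab := four_comm H hne hnc B I
  have hP := pgroup_sub H P
  set Q := comDisp α
  obtain ⟨-, f, hf, hfQ⟩ := I.facts H hne
  have hspl : ∀ p : P, ∃ i : ℤ, ∃ q ∈ Q, p = q * f ^ i := fun p => by
    obtain ⟨q, hq, k, hk, rfl⟩ := CfsgLib.Coprime.mem_sup_exists (N := Q) (H := zpowers f)
      (le_of_le_of_eq le_top (normalizer_eq_top_iff.2 inferInstance).symm)
      ((sup_comm (zpowers f) Q ▸ hfQ).ge (mem_top p))
    obtain ⟨i, rfl⟩ := mem_zpowers_iff.1 hk
    exact ⟨i, q, hq, rfl⟩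
  by_contra hex
  have hf2 : f * f ≠ 1 := fun h => hex fun p => by
    obtain ⟨i, q, hq, rfl⟩ := hspl p
    rw [show q * f ^ i * (q * f ^ i) = q * (f ^ i * q) * f ^ i by group, hab (f ^ i) q,
      show q * (q * f ^ i) * f ^ i = q * q * (f ^ i * f ^ i) by group, B.four rfl q hq, one_mul,
      ← (Commute.refl f).mul_zpow, h, one_zpow]
  -- the involution of the squares
  obtain ⟨k, hk⟩ := IsPGroup.iff_orderOf.1 hP f
  obtain ⟨m, rfl⟩ : ∃ m, k = m + 2 := by
    refine ⟨k - 2, ?_⟩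
    rcases k with _ | _ | k
    · exact absurd (orderOf_eq_one_iff.1 (by rwa [pow_zero] at hk)) fun h => hf2 (by rw [h, one_mul])
    · exact absurd (by rw [← sq]; exact orderOf_dvd_iff_pow_eq_one.1 (by rw [hk, pow_one])) hf2
    · omega
  set c := (f * f) ^ 2 ^ m with hc
  have hcf : c = f ^ 2 ^ (m + 1) := by rw [hc, pow_succ', pow_mul, sq]
  have hc1 : c ≠ 1 := fun h => by
    have := orderOf_dvd_of_pow_eq_one (hcf ▸ h : f ^ 2 ^ (m + 1) = 1)
    rw [hk] at this
    exact absurd ((Nat.pow_dvd_pow_iff_le_right one_lt_two).1 this) (by omega)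
  have hc2 : c * c = 1 := by
    rw [hcf, ← pow_add, ← two_mul, ← pow_succ', show m + 1 + 1 = m + 2 from rfl, ← hk,
      pow_orderOf_eq_one]
  have hcG : (c : G) * c = 1 := congrArg Subtype.val hc2
  have hcs : (c : G) ∈ sqSub G := by
    rw [hc, Subgroup.coe_pow, Subgroup.coe_mul]; exact pow_mem (sq_mem _) _
  have hcR : (c : G) ∈ commutator G := invol_mem H hnc hcs hcG
  have hαc : α c = c := by rw [hc, map_pow, map_mul, hf]
  have hcQ : c ∉ Q := fun h => hc1 (I.eq_one_of_fix H (fun p _ q _ => hab p q) h hαc)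
  by_cases hall : ∀ s ∈ commutator G, s * s = 1
  · -- both `c` and `y` are the involution in `⟨a⟩`
    have hy := four_all H hne hnc d hb hz hall B I hteven
    obtain ⟨i, j, s, hs, ⟨n, rfl⟩, hfe⟩ := hPeven f f.2
    have hsP : s ∈ P := hWP s hs (hall s hs)
    set A : P := f * (⟨s, hsP⟩ : P)⁻¹ * (x ^ j)⁻¹ with hA
    have hAG : (A : G) = d.a ^ (n + n) := by
      rw [hA]
      simp only [Subgroup.coe_mul, Subgroup.coe_inv, Subgroup.coe_zpow, hfe, ← hb]
      group
    have hff : f * f = A * A := by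
      have hf' : f = A * x ^ j * ⟨s, hsP⟩ := by rw [hA]; group
      have hs2 : (⟨s, hsP⟩ : P) * ⟨s, hsP⟩ = 1 := Subtype.ext (hall s hs)
      have hxj : x ^ j * x ^ j = 1 := by rw [← (Commute.refl x).mul_zpow, B.xx, one_zpow]
      set S : P := ⟨s, hsP⟩
      calc f * f = A * x ^ j * (S * (A * x ^ j)) * S := by rw [hf']; group
        _ = A * (x ^ j * A) * x ^ j * (S * S) := by rw [hab S (A * x ^ j)]; group
        _ = A * A * (x ^ j * x ^ j) * (S * S) := by rw [hab (x ^ j) A]; group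
        _ = _ := by rw [hxj, hs2, mul_one, mul_one]
    have hca : (c : G) ∈ zpowers d.a := by
      rw [hc, hff, Subgroup.coe_pow, Subgroup.coe_mul, hAG]
      exact pow_mem (mul_mem (zpow_mem (mem_zpowers _) _) (zpow_mem (mem_zpowers _) _)) _
    have hya : (y : G) ∈ zpowers d.a := hy ▸ pow_mem (mem_zpowers _) _
    have := CfsgLib.Fusion.MetaTwo.involution_unique
      (a := (⟨c, hca⟩ : zpowers d.a)) (b := ⟨y, hya⟩)
      (Subtype.ext (by rw [Subgroup.coe_pow, sq]; exact hcG))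
      (Subtype.ext (by rw [Subgroup.coe_pow, sq]; exact congrArg Subtype.val (B.four rfl y B.yQ)))
      (fun h => hc1 (Subtype.ext (congrArg (fun w : zpowers d.a => (w : G)) h)))
      (fun h => B.yne.1 (Subtype.ext (congrArg (fun w : zpowers d.a => (w : G)) h)))
    exact hcQ (by
      rw [show c = y from Subtype.ext (congrArg (fun w : zpowers d.a => (w : G)) this)]
      exact B.yQ)
  -- an element moving `x` by `c`
  obtain ⟨g, hg, hgw⟩ := exists_delta H hnc d hz hall hcR hcG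
  have hgP : g ∉ P := fun hgP => hc1 (Subtype.ext (by
    rw [← hgw, hb, commutatorElement_def]
    have h : g * (x : G) = x * g := congrArg Subtype.val (hab ⟨g, hgP⟩ x)
    rw [h, mul_inv_cancel_right, mul_inv_cancel]
    rfl))
  have hbP : d.b ∈ P := hb ▸ x.2
  have hcomm : ∀ p q : P, (p : G) * q = q * p := fun p q => congrArg Subtype.val (hab p q)
  have hpow := exists_conj_invol H hne hnc d hz hbP (hb ▸ B.xs)
    (fun s hs hs2 => hci _ (hPeven _ hbP) s hs hs2) hg hcR hcG hgw fun n hn =>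
      ⟨1, one_mem _, one_mul 1, by
        rw [one_mul, hcomm ⟨_, hbP⟩ ⟨n, hn⟩, mul_inv_cancel_right]⟩
  obtain ⟨l, hlP, hl2⟩ := exists_last H.pgroup hgP
  set h := g ^ 2 ^ l with hh
  obtain ⟨τ', β, -, -, J⟩ := exists_inverted H E (t := h) (fun n hn => by
    obtain ⟨s, hs, hs2, he⟩ := hpow (2 ^ l) n hn
    rw [he]; exact mul_mem (hWP s hs hs2) hn) hlP hl2
  haveI : (zpowers c).Normal := ⟨fun n hn p => by rwa [hab p n, mul_inv_cancel_right]⟩
  -- `β` fixes `c`
  have hβc : β c = c := by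
    have hsq : β (f * f) ∈ zpowers (f * f) := by
      obtain ⟨i, q, hq, he⟩ := hspl (β f)
      rw [map_mul, he, show q * f ^ i * (q * f ^ i) = q * (f ^ i * q) * f ^ i by group,
        hab (f ^ i) q, show q * (q * f ^ i) * f ^ i = q * q * (f ^ i * f ^ i) by group,
        B.four rfl q hq, one_mul, ← (Commute.refl f).mul_zpow]
      exact zpow_mem (mem_zpowers _) i
    have hm : β c ∈ zpowers (f * f) := by rw [hc, map_pow]; exact pow_mem hsq _
    exact congrArg Subtype.val (CfsgLib.Fusion.MetaTwo.involution_unique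
      (a := (⟨β c, hm⟩ : zpowers (f * f))) (b := ⟨c, pow_mem (mem_zpowers _) _⟩)
      (Subtype.ext (by rw [Subgroup.coe_pow, sq, Subgroup.coe_one, ← map_mul, hc2, map_one]))
      (Subtype.ext (by rw [Subgroup.coe_pow, sq, Subgroup.coe_one, hc2]))
      (fun e => hc1 ((map_eq_one_iff _ β.injective).1 (congrArg Subtype.val e)))
      (fun e => hc1 (congrArg Subtype.val e)))
  have hhs : h ∈ sqSub G := pow_mem hg _
  have hgc : CentInvol g := fun s hs hs2 => comm_sqSub_invol H hnc hg hs hs2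
  have hhx : ∀ n : ℕ, g ^ n * d.b * (g ^ n)⁻¹ * d.b⁻¹ ∈ zpowers (c : G) := by
    intro n
    have := zpow_conj_b (c := g) (b := d.b) (by rw [← commutatorElement_def]; exact hgw) hcG
      (hgc _ hcR hcG) (n : ℤ)
    rwa [zpow_natCast] at this
  have hcp : ∀ {w : P}, (w : G) ∈ zpowers (c : G) → w ∈ zpowers c := fun {w} hw => by
    obtain ⟨e, he⟩ := mem_zpowers_iff.1 hw
    exact mem_zpowers_iff.2 ⟨e, Subtype.ext (by rw [Subgroup.coe_zpow, he])⟩
  have hhc : CentInvol h := fun s hs hs2 => comm_sqSub_invol H hnc hhs hs hs2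
  have hmod : ∀ w : P, w * w = 1 → w⁻¹ * τ' w ∈ zpowers c := by
    intro w hw
    refine hcp ?_
    rw [Subgroup.coe_mul, Subgroup.coe_inv, J.apply]
    by_cases hws : (w : G) ∈ sqSub G
    · rw [(comm_invol_sub H hne hnc hhc hws hw).eq, mul_inv_cancel_right, inv_mul_cancel]
      exact one_mem _
    have h1 : ((x⁻¹ * w : P) : G) ∈ sqSub G := inv_mul_mem_sqSub H hne x.2 w.2 B.xs hws
    have h2 : (x⁻¹ * w) * (x⁻¹ * w) = 1 := by
      rw [show x⁻¹ * w * (x⁻¹ * w) = x⁻¹ * (w * x⁻¹) * w by group, hab w x⁻¹,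
        show x⁻¹ * (x⁻¹ * w) * w = (x * x)⁻¹ * (w * w) by group, B.xx, hw, inv_one, one_mul]
    have h3 : h * ((x : G)⁻¹ * w) * h⁻¹ = (x : G)⁻¹ * w := by
      have h4 : Commute h ((x : G)⁻¹ * w) := comm_invol_sub H hne hnc hhc h1 h2
      rw [h4.eq, mul_inv_cancel_right]
    rw [show (w : G)⁻¹ * (h * w * h⁻¹) =
      (w : G)⁻¹ * (h * x * h⁻¹ * (h * ((x : G)⁻¹ * w) * h⁻¹)) by group, h3, ← hb]
    obtain ⟨e, he⟩ := mem_zpowers_iff.1 (hhx (2 ^ l))
    rw [← hh] at he
    have hec : Commute (c ^ e : P) w := hab _ _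
    have hec' : (c : G) ^ e * w = w * (c : G) ^ e := by
      have := congrArg Subtype.val hec.eq
      simpa using this
    rw [show (w : G)⁻¹ * (h * d.b * h⁻¹ * (d.b⁻¹ * w)) =
      (w : G)⁻¹ * ((h * d.b * h⁻¹ * d.b⁻¹) * w) by group, ← he, hec', inv_mul_cancel_left]
    exact zpow_mem (mem_zpowers _) e
  have hfix : ∀ w : P, w * w = 1 → β w = w := by
    intro w hw
    have hm := J.trivial_of_fix (N := zpowers c) (fun n hn => by
      obtain ⟨e, rfl⟩ := mem_zpowers_iff.1 hn
      rw [map_zpow, hβc]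
      exact zpow_mem (mem_zpowers c) e) (hmod w hw) (hmod _ (by rw [← map_mul, hw, map_one]))
      fun u => by
        rw [hab u, mul_inv_cancel_right, mul_inv_cancel]; exact one_mem _
    obtain ⟨e, he⟩ := mem_zpowers_iff.1 hm
    rcases Int.even_or_odd e with ⟨e', rfl⟩ | ⟨e', rfl⟩
    · rw [zpow_add, ← (Commute.refl c).mul_zpow, hc2, one_zpow] at he
      exact (inv_mul_eq_one.1 he.symm).symm
    · rw [zpow_add, two_mul, zpow_add, ← (Commute.refl c).mul_zpow, hc2, one_zpow, one_mul,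
        zpow_one] at he
      have hb1 : β w = w * c := by rw [he, mul_inv_cancel_left]
      have hb3 : β (β (β w)) = w * c := by
        rw [hb1, map_mul, hβc, hb1, mul_assoc, hc2, mul_one, hb1]
      rw [J.apply_three, left_eq_mul] at hb3
      exact absurd hb3 hc1
  haveI := J.nontrivial
  obtain ⟨⟨w, hwQ⟩, hw2, -, hwm⟩ := exists_moved_involution (β := dispAut β J.cube)
    (hP.to_subgroup (comDisp β)) (fun p q => Subtype.ext (hab _ _))
    (MulEquiv.ext fun q => Subtype.ext (by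
      simp only [pow_succ, pow_zero, one_mul, MulAut.mul_apply, MulAut.one_apply, dispAut_apply]
      exact J.apply_three _))
    (comDisp_dispAut hP J.cube)
  exact hwm (Subtype.ext (hfix w (congrArg Subtype.val hw2)))

end CfsgLib.Fusion.Bicyclic
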