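import Cfsg.Agent.Lib.Fusion.System.Bicyclic.Structure

/-!
# The Frattini subgroup of a bicyclic 2-group is metacyclic

Otherwise it has a quotient of order 16 on which the first generator induces an automorphism with
square the nontrivial inner automorphism of its square, which is impossible.
-/

set_option autoImplicit false
set_option maxHeartbeats 1000000
set_option linter.style.haveILetI false
set_option linter.unusedSectionVars false

open Subgroup
open scoped commutatorElement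

namespace CfsgLib.Fusion.Bicyclic

universe u

variable {G : Type u} [Group G]

/-- The subgroup generated by the squares. -/
def sqSub (G : Type u) [Group G] : Subgroup G := closure {h | ∃ g : G, h = g * g}

theorem sq_mem (g : G) : g * g ∈ sqSub G := subset_closure ⟨g, rfl⟩

theorem commutator_le_sqSub : commutator G ≤ sqSub G := by
  rw [_root_.commutator_def, Subgroup.commutator_le]
  intro g _ k _
  rw [show ⁅g, k⁆ = g * g * (g⁻¹ * k * (g⁻¹ * k)) * (k⁻¹ * k⁻¹) by
    simp only [commutatorElement_def]; group]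
  exact mul_mem (mul_mem (sq_mem g) (sq_mem _)) (sq_mem _)

instance sqSub_normal : (sqSub G).Normal := ⟨fun n hn g => by
  have h := mul_mem (commutator_le_sqSub (commutator_mem_commutator (mem_top g) (mem_top n))) hn
  rwa [show ⁅g, n⁆ * n = g * n * g⁻¹ by simp only [commutatorElement_def]; group] at h⟩

theorem map_mem_commutator (φ : MulAut G) {s : G} (hs : s ∈ commutator G) : φ s ∈ commutator G := by
  have h := mem_map_of_mem φ.toMonoidHom hs
  rw [_root_.commutator_def, Subgroup.map_commutator] at h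
  exact Subgroup.commutator_mono le_top le_top h

theorem map_mem_derK (φ : MulAut G) {s : G} (hs : s ∈ derK G) : φ s ∈ derK G := by
  induction hs using closure_induction with
  | mem x hx =>
    rcases hx with ⟨t, ht, rfl⟩ | ⟨t, ht, g, rfl⟩
    · rw [map_mul]
      exact sq_mem_derK (map_mem_commutator φ ht)
    · rw [map_commutatorElement]
      exact comm_mem_derK (map_mem_commutator φ ht) _
  | one => simp
  | mul x y _ _ hx hy => rw [map_mul]; exact mul_mem hx hy
  | inv x _ hx => rw [map_inv]; exact inv_mem hx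

variable [Finite G]

theorem parity_of_mem_sqSub (hG : IsPGroup 2 G) (hm : ¬ Cfsg.IsMetacyclic G) {x y : G}
    (hxy : ∀ g : G, ∃ i j : ℤ, g = x ^ i * y ^ j) {i j : ℤ} (h : x ^ i * y ^ j ∈ sqSub G) :
    Even i ∧ Even j := by
  haveI : Fact (Nat.Prime 2) := ⟨Nat.prime_two⟩
  have hle : sqSub G ≤ frattini G := (closure_le _).2 fun z ⟨g, hg⟩ => by
    rw [hg, ← sq]; exact CfsgLib.Coprime.pow_mem_frattini hG g
  have key : ∀ u : G, ⊤ ≤ zpowers u ⊔ sqSub G → False := by
    intro u hu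
    have hu' : zpowers u = ⊤ := frattini_nongenerating
      (eq_top_iff.2 (hu.trans (sup_le_sup_left hle _)))
    haveI : IsCyclic G := isCyclic_iff_exists_zpowers_eq_top.2 ⟨u, hu'⟩
    exact hm ⟨⊤, inferInstance, inferInstance, isCyclic_of_surjective (QuotientGroup.mk' _)
      (QuotientGroup.mk'_surjective _)⟩
  have hall : ∀ u, (x ∈ zpowers u ⊔ sqSub G) → (y ∈ zpowers u ⊔ sqSub G) → False :=
    fun u hx hy => key u fun g _ => by
      obtain ⟨k, l, rfl⟩ := hxy g
      exact mul_mem (zpow_mem hx k) (zpow_mem hy l)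
  refine ⟨Int.not_odd_iff_even.1 fun hi => ?_, Int.not_odd_iff_even.1 fun hj => ?_⟩
  · refine hall y ?_ (mem_sup_left (mem_zpowers y))
    have h1 := mul_mem (mem_sup_right (S := zpowers y) h)
      (inv_mem (mem_sup_left (zpow_mem (mem_zpowers y) j)))
    rw [mul_inv_cancel_right] at h1
    exact zpowers_le.2 h1 (CfsgLib.Invol.MetaTwo.odd_zpow_mem hG hi)
  · refine hall x (mem_sup_left (mem_zpowers x)) ?_
    have h1 := mul_mem (inv_mem (mem_sup_left (zpow_mem (mem_zpowers x) i)))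
      (mem_sup_right (S := zpowers x) h)
    rw [inv_mul_cancel_left] at h1
    exact zpowers_le.2 h1 (CfsgLib.Invol.MetaTwo.odd_zpow_mem hG hj)

section Quotient

variable {Q : Type u} [Group Q] {A B C : Q}

/-- The final contradiction, in the quotient of order 16. -/
theorem false_of_auto (hAB : B * A * B⁻¹ = A * C) (hC : ∀ q, Commute C q) (hC2 : C * C = 1)
    (hB2 : B * B = 1) (hA4 : (A * A) * (A * A) = 1) (hC1 : C ≠ 1) (hA2 : A * A ≠ 1)
    (hA2C : A * A ≠ C) (hspl : ∀ q, ∃ i j k : ℤ, q = A ^ i * B ^ j * C ^ k) {u v : Q}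
    (huv : ∀ q, ∃ p q' : ℤ, q = u ^ p * v ^ q') (φ : Q →* Q) (hφu : φ u = u)
    (hinj : Function.Injective φ) (hφ : φ (φ v) = u * v * u⁻¹) : False := by
  have hnc : ¬ Commute u v := fun h => hC1 (by
    obtain ⟨p, q, hA⟩ := huv A
    obtain ⟨p', q', hB⟩ := huv B
    have hc : Commute A B := by
      rw [hA, hB]
      exact (((Commute.refl u).zpow_zpow p p').mul_right (h.zpow_zpow p q')).mul_left
        ((h.symm.zpow_zpow q p').mul_right ((Commute.refl v).zpow_zpow q q'))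
    rw [← hc.eq, mul_inv_cancel_right] at hAB
    exact mul_left_cancel (a := A) (by rw [mul_one, ← hAB]))
  have hC' : ∀ n : ℤ, C ^ n * C ^ n = 1 := fun n => by
    rw [← (Commute.refl C).mul_zpow, hC2, one_zpow]
  have hA2c : ∀ q, Commute (A * A) q := by
    have hb : Commute (A * A) B := by
      have h := zpow_mul_zpow hAB hC 2 1
      rw [zpow_one, show ((2 : ℤ) * 1) = 1 + 1 by norm_num, zpow_add C, zpow_one, hC2, mul_one,
        zpow_two] at h
      exact h.symm
    intro q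
    obtain ⟨i, j, k, rfl⟩ := hspl q
    exact ((((Commute.refl A).mul_left (Commute.refl A)).zpow_right i).mul_right
      (hb.zpow_right j)).mul_right ((hC (A * A)).symm.zpow_right k)
  have hev : ∀ n : ℤ, A ^ (n + n) = (A * A) ^ n := fun n => by
    rw [(Commute.refl A).mul_zpow, zpow_add]
  have hevB : ∀ n : ℤ, B ^ (n + n) = 1 := fun n => by
    rw [zpow_add, ← (Commute.refl B).mul_zpow, hB2, one_zpow]
  have hsq : ∀ i j k : ℤ, (A ^ i * B ^ j * C ^ k) * (A ^ i * B ^ j * C ^ k) =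
      (A * A) ^ i * C ^ (i * j) := by
    intro i j k
    calc A ^ i * B ^ j * C ^ k * (A ^ i * B ^ j * C ^ k)
        = A ^ i * B ^ j * (C ^ k * (A ^ i * B ^ j)) * C ^ k := by group
      _ = A ^ i * B ^ j * (A ^ i * B ^ j) * (C ^ k * C ^ k) := by
        rw [((hC (A ^ i * B ^ j)).zpow_left k).eq]; group
      _ = A ^ i * (B ^ j * A ^ i) * B ^ j := by rw [hC']; group
      _ = A ^ i * A ^ i * (B ^ j * (C ^ (i * j) * B ^ j)) := by
        rw [zpow_mul_zpow hAB hC]; group
      _ = A ^ i * A ^ i * (B ^ j * B ^ j * C ^ (i * j)) := by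
        rw [((hC (B ^ j)).zpow_left (i * j)).eq]; group
      _ = _ := by
        rw [← zpow_add A, ← zpow_add B, hev, hevB, one_mul]
  have hA2two : ∀ n : ℤ, (A * A) ^ n * (A * A) ^ n = 1 := fun n => by
    rw [← (Commute.refl (A * A)).mul_zpow, hA4, one_zpow]
  have heven : ∀ i j k : ℤ, Even i → (A ^ i * B ^ j * C ^ k) * (A ^ i * B ^ j * C ^ k) = 1 := by
    rintro i j k ⟨n, rfl⟩
    rw [hsq, zpow_add (A * A), hA2two, add_mul, zpow_add C, hC', one_mul]
  have hodd : ∀ i j k : ℤ, Odd i → (A ^ i * B ^ j * C ^ k) * (A ^ i * B ^ j * C ^ k) =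
      A * A * C ^ j := by
    rintro i j k ⟨n, rfl⟩
    rw [hsq, zpow_add (A * A), two_mul, zpow_add (A * A), hA2two, one_mul, zpow_one, add_mul,
      add_mul, zpow_add C, zpow_add C, hC', one_mul, one_mul]
  have hCj : ∀ j : ℤ, C ^ j = 1 ∨ C ^ j = C := fun j => by
    rcases Int.even_or_odd j with ⟨n, rfl⟩ | ⟨n, rfl⟩
    · exact Or.inl (by rw [zpow_add, hC'])
    · exact Or.inr (by rw [zpow_add, two_mul, zpow_add, hC', one_mul, zpow_one])
  have hA2ne : ∀ j : ℤ, A * A * C ^ j ≠ 1 ∧ A * A * C ^ j ≠ C := fun j => by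
    rcases hCj j with h | h <;> rw [h]
    · rw [mul_one]; exact ⟨hA2, hA2C⟩
    · exact ⟨fun e => hA2C (mul_right_cancel (e.trans hC2.symm)), fun e => hA2 (mul_eq_right.1 e)⟩
  -- squares
  have hcases : ∀ w w' : Q, (∀ q, ∃ p q' : ℤ, q = w ^ p * w' ^ q' ∨ q = w' ^ q' * w ^ p) →
      ¬ Commute w w' → w * w ≠ 1 := by
    intro w w' hww hnc' hw
    obtain ⟨p, q, hpq⟩ := hww C
    obtain ⟨i, j, k, hw'⟩ := hspl w'
    rcases Int.even_or_odd p with ⟨n, hn⟩ | ⟨n, hn⟩
    · have hp : w ^ p = 1 := by rw [hn, zpow_add, ← (Commute.refl w).mul_zpow, hw, one_zpow]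
      have hq : C = w' ^ q := by rcases hpq with e | e <;> simpa [hp] using e
      have hsq' : (w' * w') * (w' * w') = 1 := by
        rw [hw']
        rcases Int.even_or_odd i with hi | hi
        · rw [heven i j k hi, one_mul]
        · rw [hodd i j k hi, show A * A * C ^ j * (A * A * C ^ j) =
            A * A * (C ^ j * (A * A)) * C ^ j by group, ((hC (A * A)).zpow_left j).eq,
            show A * A * (A * A * C ^ j) * C ^ j = (A * A * (A * A)) * (C ^ j * C ^ j) by group,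
            hA4, hC', one_mul]
      rcases Int.even_or_odd q with ⟨m, hm⟩ | ⟨m, hm⟩
      · rw [hm, zpow_add, ← (Commute.refl w').mul_zpow] at hq
        rcases Int.even_or_odd m with ⟨l, hl⟩ | ⟨l, hl⟩
        · rw [hl, zpow_add, ← (Commute.refl (w' * w')).mul_zpow, hsq', one_zpow] at hq
          exact hC1 hq
        · rw [hl, zpow_add, two_mul, zpow_add, ← (Commute.refl (w' * w')).mul_zpow, hsq', one_zpow,
            one_mul, zpow_one, hw'] at hq
          rcases Int.even_or_odd i with hi | hi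
          · rw [heven i j k hi] at hq; exact hC1 hq
          · rw [hodd i j k hi] at hq; exact (hA2ne j).2 hq.symm
      · refine hnc' ?_
        have hw'C : w' = ((w' * w') ^ m)⁻¹ * C := by
          rw [hq, hm, zpow_add, two_mul, zpow_add, ← (Commute.refl w').mul_zpow, zpow_one,
            inv_mul_cancel_left]
        rw [hw'C]
        refine (Commute.zpow_right ?_ m).inv_right.mul_right (hC w).symm
        rw [hw']
        rcases Int.even_or_odd i with hi | hi
        · rw [heven i j k hi]; exact Commute.one_right w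
        · rw [hodd i j k hi]; exact ((hA2c w).mul_left ((hC w).zpow_left j)).symm
    · refine hnc' ?_
      have hp : w ^ p = w := by
        rw [hn, zpow_add, two_mul, zpow_add, ← (Commute.refl w).mul_zpow, hw, one_zpow, one_mul,
          zpow_one]
      rcases hpq with e | e <;> rw [hp] at e
      · rw [eq_mul_inv_of_mul_eq e.symm]
        exact ((hC w').mul_left ((Commute.refl w').zpow_left q).inv_left)
      · rw [eq_inv_mul_of_mul_eq e.symm]
        exact (((Commute.refl w').zpow_left q).inv_left.mul_left (hC w'))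
  have hu2 : u * u ≠ 1 := hcases u v (fun q => by
    obtain ⟨p, q', e⟩ := huv q; exact ⟨p, q', Or.inl e⟩) hnc
  have hv2 : v * v ≠ 1 := hcases v u (fun q => by
    obtain ⟨p, q', e⟩ := huv q; exact ⟨q', p, Or.inr e⟩) fun h => hnc h.symm
  have hw2 : φ v * φ v ≠ 1 := fun h => hv2 (hinj (by rw [map_mul, h, map_one]))
  obtain ⟨i₁, j₁, k₁, hu⟩ := hspl u
  obtain ⟨i₂, j₂, k₂, hv⟩ := hspl v
  obtain ⟨i₃, j₃, k₃, hw⟩ := hspl (φ v)
  have ho₁ : Odd i₁ := Int.not_even_iff_odd.1 fun h => hu2 (hu ▸ heven _ _ _ h)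
  have ho₂ : Odd i₂ := Int.not_even_iff_odd.1 fun h => hv2 (hv ▸ heven _ _ _ h)
  have ho₃ : Odd i₃ := Int.not_even_iff_odd.1 fun h => hw2 (hw ▸ heven _ _ _ h)
  -- elements in the same coset differ centrally
  have hdiff : ∀ i j k i' j' k' : ℤ, Odd i → Odd i' → Even (j - j') → ∃ n m : ℤ,
      A ^ i' * B ^ j' * C ^ k' = A ^ i * B ^ j * C ^ k * ((A * A) ^ n * C ^ m) := by
    intro i j k i' j' k' hi hi' hj
    obtain ⟨n, hn⟩ := hi'.sub_odd hi
    obtain ⟨l, hl⟩ := hj
    refine ⟨n, k' - k, ?_⟩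
    rw [show i' = i + (n + n) by omega, show j' = j + (-l + -l) by omega, zpow_add A, zpow_add B,
      hevB, hev, mul_one]
    calc A ^ i * (A * A) ^ n * B ^ j * C ^ k'
        = A ^ i * ((A * A) ^ n * B ^ j) * C ^ k' := by group
      _ = A ^ i * B ^ j * ((A * A) ^ n * C ^ k) * C ^ (k' - k) := by
        rw [((hA2c (B ^ j)).zpow_left n).eq]; group
      _ = _ := by rw [((hA2c (C ^ k)).zpow_left n).eq]; group
  have hzc : ∀ (n m : ℤ) (q : Q), Commute ((A * A) ^ n * C ^ m) q := fun n m q =>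
    ((hA2c q).zpow_left n).mul_left ((hC q).zpow_left m)
  have hj₁₂ : ¬ Even (j₁ - j₂) := fun h => by
    obtain ⟨n, m, e⟩ := hdiff _ _ k₁ _ _ k₂ ho₁ ho₂ h
    rw [← hu, ← hv] at e
    exact hnc (e ▸ (Commute.refl u).mul_right (hzc n m u).symm)
  have hj₂₃ : Even (j₂ - j₃) := by
    by_contra h
    have h13 : Even (j₁ - j₃) := by
      rw [Int.not_even_iff_odd] at h hj₁₂
      have := hj₁₂.add_odd h
      rwa [sub_add_sub_cancel] at this
    obtain ⟨n, m, e⟩ := hdiff _ _ k₁ _ _ k₃ ho₁ ho₃ h13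
    rw [← hu, ← hw] at e
    refine hnc (hinj ?_)
    rw [map_mul, map_mul, hφu, e, mul_assoc u _ u, (hzc n m u).eq]
  obtain ⟨n, m, e⟩ := hdiff _ _ k₂ _ _ k₃ ho₂ ho₃ hj₂₃
  rw [← hv, ← hw] at e
  -- the automorphism fixes the centre
  have hcomm : u * v = v * u * C := by
    obtain ⟨a₁, hu'⟩ : ∃ d, u * v = v * u * C ^ d := ⟨i₁ * (-j₂) + i₂ * j₁, by
      rw [hu, hv]
      calc A ^ i₁ * B ^ j₁ * C ^ k₁ * (A ^ i₂ * B ^ j₂ * C ^ k₂)
          = A ^ i₁ * B ^ j₁ * (A ^ i₂ * B ^ j₂) * (C ^ k₁ * C ^ k₂) := by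
            rw [show A ^ i₁ * B ^ j₁ * C ^ k₁ * (A ^ i₂ * B ^ j₂ * C ^ k₂) =
              A ^ i₁ * B ^ j₁ * (C ^ k₁ * (A ^ i₂ * B ^ j₂)) * C ^ k₂ by group,
              ((hC _).zpow_left k₁).eq]
            group
        _ = A ^ i₁ * (B ^ j₁ * A ^ i₂) * B ^ j₂ * C ^ (k₁ + k₂) := by group
        _ = A ^ i₁ * A ^ i₂ * B ^ j₁ * (C ^ (i₂ * j₁) * B ^ j₂) * C ^ (k₁ + k₂) := by
            rw [zpow_mul_zpow hAB hC]; group
        _ = A ^ (i₂ + i₁) * B ^ (j₂ + j₁) * C ^ (i₂ * j₁) * C ^ (k₁ + k₂) := by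
            rw [((hC _).zpow_left _).eq, add_comm i₂, add_comm j₂]; group
        _ = A ^ i₂ * (B ^ j₂ * A ^ i₁) * B ^ j₁ *
              C ^ (i₁ * (-j₂) + i₂ * j₁) * C ^ (k₁ + k₂) := by
            rw [zpow_mul_zpow hAB hC,
              show A ^ i₂ * (A ^ i₁ * B ^ j₂ * C ^ (i₁ * j₂)) * B ^ j₁ =
                A ^ i₂ * A ^ i₁ * B ^ j₂ * (C ^ (i₁ * j₂) * B ^ j₁) by group,
              ((hC _).zpow_left _).eq]
            group
        _ = A ^ i₂ * B ^ j₂ * (C ^ k₂ * (A ^ i₁ * B ^ j₁ * C ^ k₁)) *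
              C ^ (i₁ * (-j₂) + i₂ * j₁) := by
            rw [((hC _).zpow_left k₂).eq,
              show A ^ i₂ * B ^ j₂ * (A ^ i₁ * B ^ j₁ * C ^ k₁ * C ^ k₂) *
                C ^ (i₁ * -j₂ + i₂ * j₁) = A ^ i₂ * B ^ j₂ * (A ^ i₁ * B ^ j₁) *
                (C ^ (k₁ + k₂) * C ^ (i₁ * -j₂ + i₂ * j₁)) by group,
              (((hC _).zpow_left (k₁ + k₂)).eq)]
            group
        _ = _ := by group⟩
    rcases hCj a₁ with h | h <;> rw [h] at hu'
    · exact absurd (by rwa [mul_one] at hu') hnc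
    · exact hu'
  have hφC : φ C = C := by
    have h1 := congrArg φ hcomm
    rw [map_mul, map_mul, map_mul, hφu, e] at h1
    have h2 : u * v = v * u * φ C := by
      refine mul_right_cancel (b := (A * A) ^ n * C ^ m) ?_
      calc u * v * ((A * A) ^ n * C ^ m) = v * (((A * A) ^ n * C ^ m) * u) * φ C := by
            rw [mul_assoc u, h1]; group
        _ = v * u * (((A * A) ^ n * C ^ m) * φ C) := by rw [(hzc n m u).eq]; group
        _ = _ := by rw [(hzc n m (φ C)).eq]; group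
    rw [hcomm] at h2
    exact (mul_left_cancel h2).symm
  have hφA : φ (A * A) = A * A := by
    have h1 : φ (u * u) = u * u := by rw [map_mul, hφu]
    rw [hu, hodd _ _ _ ho₁, map_mul, map_zpow, hφC] at h1
    exact mul_right_cancel h1
  have hφφ : φ (φ v) = v := by
    rw [e, map_mul, map_mul, map_zpow, map_zpow, hφA, hφC, e, mul_assoc,
      show (A * A) ^ n * C ^ m * ((A * A) ^ n * C ^ m) =
        (A * A) ^ n * (C ^ m * (A * A) ^ n) * C ^ m by group,
      ((hC _).zpow_left m).eq,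
      show (A * A) ^ n * ((A * A) ^ n * C ^ m) * C ^ m =
        ((A * A) ^ n * (A * A) ^ n) * (C ^ m * C ^ m) by group, hA2two, hC', mul_one, mul_one]
  rw [hφφ] at hφ
  exact hnc (by
    show u * v = v * u
    conv_rhs => rw [hφ, inv_mul_cancel_right])

end Quotient

/-- The subgroup generated by the squares is metacyclic. -/
theorem isMetacyclic_sqSub (hG : IsPGroup 2 G) (hm : ¬ Cfsg.IsMetacyclic G) (hb : IsBicyclic G) :
    Cfsg.IsMetacyclic (sqSub G) := by
  obtain ⟨x, y, hxy⟩ := hb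
  by_contra hN
  haveI : Fact (Nat.Prime 2) := ⟨Nat.prime_two⟩
  let N := ↥(sqSub G)
  set u : sqSub G := ⟨x * x, sq_mem x⟩ with hu
  set v : sqSub G := ⟨y * y, sq_mem y⟩ with hv
  have hNb : ∀ g : sqSub G, ∃ i j : ℤ, g = u ^ i * v ^ j := fun g => by
    obtain ⟨i, j, he⟩ := hxy g
    obtain ⟨⟨i', rfl⟩, ⟨j', rfl⟩⟩ := parity_of_mem_sqSub hG hm hxy (he ▸ g.2)
    refine ⟨i', j', Subtype.ext ?_⟩
    rw [he, Subgroup.coe_mul, Subgroup.coe_zpow, Subgroup.coe_zpow, hu, hv,
      (Commute.refl x).mul_zpow, (Commute.refl y).mul_zpow, zpow_add, zpow_add]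
  have hNp : IsPGroup 2 (sqSub G) := hG.to_subgroup _
  obtain ⟨D⟩ := exists_gens hNp hN ⟨u, v, hNb⟩
  set L := closure ((derK (sqSub G) : Set (sqSub G)) ∪ {h | ∃ n : sqSub G, h = n ^ 4}) with hL
  have hLmap : ∀ ψ : MulAut (sqSub G), ∀ z ∈ L, ψ z ∈ L := by
    intro ψ z hz
    induction hz using closure_induction with
    | mem z hz =>
      rcases hz with hz | ⟨n, rfl⟩
      · exact subset_closure (Or.inl (map_mem_derK ψ hz))
      · exact subset_closure (Or.inr ⟨ψ n, map_pow ψ n 4⟩)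
    | one => simp
    | mul z w _ _ hz hw => rw [map_mul]; exact mul_mem hz hw
    | inv z _ hz => rw [map_inv]; exact inv_mem hz
  haveI : L.Normal := ⟨fun n hn g => hLmap (MulAut.conj g) n hn⟩
  set ρ := QuotientGroup.mk' (derK (sqSub G)) with hρ
  set d := D.a⁻¹ * D.b * D.a * D.b⁻¹ with hd
  have hdR : d ∈ commutator (sqSub G) := by
    rw [show d = ⁅D.a⁻¹, D.b⁆ by rw [hd, commutatorElement_def]; group]
    exact commutator_mem_commutator (mem_top _) (mem_top _)
  have hconj : ρ D.b * ρ D.a * (ρ D.b)⁻¹ = ρ D.a * ρ d := by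
    rw [← map_inv, ← map_mul, ← map_mul, ← map_mul]
    congr 1
    rw [hd]; group
  have hdc : ∀ q, Commute (ρ d) q := mk_comm hdR
  have hspl : ∀ g : sqSub G, ∃ i j k : ℤ, ρ g = ρ D.a ^ i * ρ D.b ^ j * ρ d ^ k := fun g => by
    obtain ⟨i, j, s, hs, rfl⟩ := D.spl g
    have h1 := commutator_le_zpowers D.gen hs
    rw [← SetLike.mem_coe, Subgroup.mul_normal] at h1
    obtain ⟨w, hw, k₀, hk₀, rfl⟩ := Set.mem_mul.1 h1
    obtain ⟨k, rfl⟩ := mem_zpowers_iff.1 hw
    refine ⟨i, j, k, ?_⟩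
    rw [map_mul, map_mul, map_mul, map_zpow, map_zpow, map_zpow,
      show ρ k₀ = 1 from (QuotientGroup.eq_one_iff _).2 hk₀, mul_one]
  have hL4 : ∀ z ∈ L, ρ z ∈ zpowers ((ρ D.a) ^ (4 : ℤ)) := by
    intro z hz
    induction hz using closure_induction with
    | mem z hz =>
      rcases hz with hz | ⟨n, rfl⟩
      · rw [show ρ z = 1 from (QuotientGroup.eq_one_iff _).2 hz]; exact one_mem _
      · obtain ⟨i, j, k, hn⟩ := hspl n
        refine mem_zpowers_iff.2 ⟨i, ?_⟩
        have hb2 : ρ D.b * ρ D.b = 1 := by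
          rw [← map_mul]; exact (QuotientGroup.eq_one_iff _).2 D.sq
        have hd2 : ∀ e : ℤ, ρ d ^ e * ρ d ^ e = 1 := fun e => by
          rw [← (Commute.refl (ρ d)).mul_zpow, show ρ d * ρ d = 1 from mk_sq hdR, one_zpow]
        have hsq : ρ n * ρ n = ρ D.a ^ (i + i) * ρ d ^ (i * j) := by
          rw [hn]
          calc ρ D.a ^ i * ρ D.b ^ j * ρ d ^ k * (ρ D.a ^ i * ρ D.b ^ j * ρ d ^ k)
              = ρ D.a ^ i * ρ D.b ^ j * (ρ d ^ k * (ρ D.a ^ i * ρ D.b ^ j)) * ρ d ^ k := by group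
            _ = ρ D.a ^ i * ρ D.b ^ j * (ρ D.a ^ i * ρ D.b ^ j) * (ρ d ^ k * ρ d ^ k) := by
              rw [((hdc _).zpow_left k).eq]; group
            _ = ρ D.a ^ i * (ρ D.b ^ j * ρ D.a ^ i) * ρ D.b ^ j := by rw [hd2]; group
            _ = ρ D.a ^ i * ρ D.a ^ i * (ρ D.b ^ j * (ρ d ^ (i * j) * ρ D.b ^ j)) := by
              rw [zpow_mul_zpow hconj hdc]; group
            _ = ρ D.a ^ i * ρ D.a ^ i * (ρ D.b ^ j * ρ D.b ^ j * ρ d ^ (i * j)) := by
              rw [((hdc (ρ D.b ^ j)).zpow_left (i * j)).eq]; group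
            _ = _ := by rw [← (Commute.refl (ρ D.b)).mul_zpow, hb2, one_zpow, one_mul, ← zpow_add]
        rw [map_pow, show ρ n ^ 4 = (ρ n * ρ n) * (ρ n * ρ n) by simp [pow_succ, mul_assoc], hsq,
          show ρ D.a ^ (i + i) * ρ d ^ (i * j) * (ρ D.a ^ (i + i) * ρ d ^ (i * j)) =
            ρ D.a ^ (i + i) * (ρ d ^ (i * j) * ρ D.a ^ (i + i)) * ρ d ^ (i * j) by group,
          ((hdc _).zpow_left (i * j)).eq,
          show ρ D.a ^ (i + i) * (ρ D.a ^ (i + i) * ρ d ^ (i * j)) * ρ d ^ (i * j) =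
            ρ D.a ^ (i + i) * ρ D.a ^ (i + i) * (ρ d ^ (i * j) * ρ d ^ (i * j)) by group,
          hd2, mul_one, ← zpow_mul, ← zpow_add]
        congr 1
        ring
    | one => simp
    | mul z w _ _ hz hw => rw [map_mul]; exact mul_mem hz hw
    | inv z _ hz => rw [map_inv]; exact inv_mem hz
  have hrel : ∀ (i : ℤ) (s : sqSub G), s ∈ commutator (sqSub G) →
      D.a ^ i * s ∈ L → ∃ m : ℤ, (2 : ℤ) ^ D.r ∣ i - 4 * m := by
    intro i s hs h
    obtain ⟨m, hm'⟩ := mem_zpowers_iff.1 (hL4 _ h)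
    rw [← zpow_mul, ← map_zpow] at hm'
    refine ⟨m, (D.rel (i - 4 * m) 0 ?_).1⟩
    have h1 := derK_le (QuotientGroup.eq.1 hm')
    rw [zpow_zero, mul_one]
    have h2 := mul_mem h1 (inv_mem hs)
    rwa [← mul_assoc, mul_inv_cancel_right, ← zpow_neg, ← zpow_add, neg_add_eq_sub] at h2
  set π := QuotientGroup.mk' L with hπ
  have hπL : ∀ z, π z = 1 ↔ z ∈ L := fun z => QuotientGroup.eq_one_iff z
  have hK : derK (sqSub G) ≤ L := fun z hz => subset_closure (Or.inl hz)
  have hA2 : ∀ e : ℤ, π D.a * π D.a * π d ^ e ≠ 1 := fun e he => by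
    rw [← map_mul, ← map_zpow, ← map_mul, hπL, ← zpow_two] at he
    obtain ⟨m, hm'⟩ := hrel 2 _ (zpow_mem hdR e) he
    have h4 : (4 : ℤ) ∣ 2 ^ D.r := by
      rw [show (4 : ℤ) = 2 ^ 2 by norm_num]; exact pow_dvd_pow 2 D.two_le
    have h5 : (4 : ℤ) ∣ 2 := by
      have := (h4.trans hm').add (dvd_mul_right (4 : ℤ) m)
      rwa [sub_add_cancel] at this
    norm_num at h5
  have hC2 : π d * π d = 1 := by rw [← map_mul, hπL]; exact hK (sq_mem_derK hdR)
  have hC : ∀ q, Commute (π d) q := fun q => by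
    obtain ⟨g, rfl⟩ := QuotientGroup.mk'_surjective L q
    refine commutatorElement_eq_one_iff_commute.1 ?_
    rw [← map_commutatorElement, hπL]
    exact hK (comm_mem_derK hdR g)
  set φ₀ : MulAut (sqSub G) := MulAut.conjNormal x with hφ₀
  set φ := QuotientGroup.map L L φ₀.toMonoidHom fun z hz => hLmap φ₀ z hz with hφdef
  have hφπ : ∀ z, φ (π z) = π (φ₀ z) := fun z => rfl
  refine false_of_auto (A := π D.a) (B := π D.b) (C := π d) (u := π u) (v := π v) ?_ hC hC2 ?_ ?_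
    ?_ ?_ ?_ (fun q => ?_) (fun q => ?_) φ ?_ ?_ ?_
  · rw [← map_inv, ← map_mul, ← map_mul, ← map_mul]; congr 1; rw [hd]; group
  · rw [← map_mul, hπL]; exact hK D.sq
  · rw [← map_mul, ← map_mul, hπL]
    exact subset_closure (Or.inr ⟨D.a, by simp [pow_succ, mul_assoc]⟩)
  · intro h1
    rw [hπL] at h1
    obtain ⟨m, hm'⟩ := hrel 0 d hdR (by rwa [zpow_zero, one_mul])
    refine D.comm ?_
    have hd0 : ρ d = 1 := by
      obtain ⟨l, hl⟩ := mem_zpowers_iff.1 (hL4 _ h1)
      rw [← hl, ← zpow_mul, ← map_zpow]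
      refine (QuotientGroup.eq_one_iff _).2 ?_
      have hdiv : (2 : ℤ) ^ D.r ∣ 4 * l := (D.rel (4 * l) 0 (by
        rw [zpow_zero, mul_one]
        rw [← zpow_mul, ← map_zpow] at hl
        have h2 := derK_le (QuotientGroup.eq.1 hl)
        have h3 := mul_mem hdR (inv_mem h2)
        rwa [mul_inv_rev, inv_inv, mul_inv_cancel_left] at h3)).1
      obtain ⟨k, hk⟩ := hdiv
      rw [hk, zpow_mul, show ((2 : ℤ) ^ D.r) = ((2 ^ D.r : ℕ) : ℤ) by push_cast; rfl, zpow_natCast]
      exact zpow_mem D.pow k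
    show ⁅D.a, D.b⁆ ∈ _
    refine (QuotientGroup.eq_one_iff _).1 ?_
    show ρ _ = 1
    rw [map_commutatorElement, commutatorElement_eq_one_iff_mul_comm]
    rw [hd0, mul_one] at hconj
    exact (eq_mul_inv_iff_mul_eq.1 hconj.symm)
  · simpa using hA2 0
  · intro h1
    exact hA2 1 (by rw [zpow_one, h1, hC2])
  · obtain ⟨g, rfl⟩ := QuotientGroup.mk'_surjective L q
    obtain ⟨i, j, k, hg⟩ := hspl g
    refine ⟨i, j, k, ?_⟩
    simp only [← map_zpow, ← map_mul, hρ] at hg
    show π g = _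
    rw [← map_zpow, ← map_zpow, ← map_zpow, ← map_mul, ← map_mul, hπ]
    exact QuotientGroup.eq.2 (hK (QuotientGroup.eq.1 hg))
  · obtain ⟨g, rfl⟩ := QuotientGroup.mk'_surjective L q
    obtain ⟨i, j, rfl⟩ := hNb g
    exact ⟨i, j, by simp [hπ]⟩
  · rw [hφπ]
    congr 1
    refine Subtype.ext ?_
    rw [hφ₀, MulAut.conjNormal_apply, hu]
    group
  · intro p q hpq
    obtain ⟨g, rfl⟩ := QuotientGroup.mk'_surjective L p
    obtain ⟨k, rfl⟩ := QuotientGroup.mk'_surjective L q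
    rw [← hπ, hφπ, hφπ] at hpq
    refine QuotientGroup.eq.2 ?_
    have h1 := hLmap φ₀.symm _ (QuotientGroup.eq.1 hpq)
    rwa [map_mul, map_inv, MulEquiv.symm_apply_apply, MulEquiv.symm_apply_apply] at h1
  · rw [hφπ, hφπ, ← map_inv, ← map_mul, ← map_mul]
    congr 1
    refine Subtype.ext ?_
    rw [hφ₀, MulAut.conjNormal_apply, MulAut.conjNormal_apply, hu]
    simp only [Subgroup.coe_mul, Subgroup.coe_inv]
    group

end CfsgLib.Fusion.Bicyclic
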