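import Cfsg.Agent.Lib.Fusion.System.Bicyclic.Essential
import Cfsg.Agent.Lib.Fusion.System.Inner

/-!
# A saturated system on a bicyclic nonmetacyclic 2-group with noncyclic derived group is inner
-/

set_option autoImplicit false
set_option linter.style.haveILetI false

open Subgroup

namespace CfsgLib.Fusion.Bicyclic

open Cfsg (autInducedBy FusionSystem)

universe u

variable {Ω : Type u} [Group Ω] {S : Subgroup Ω} [Finite S] {F : FusionSystem S}

theorem isInner (hS : IsPGroup 2 S) (H : Hyp ↥S) (hnc : ¬ IsCyclic (commutator ↥S))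
    (hF : F.IsSaturated 2) : IsInner F := by
  haveI : Fact (Nat.Prime 2) := ⟨Nat.prime_two⟩
  have hT : IsPGroup 2 (F.autGroup S) := (isPGroup_mulAut H hnc).to_subgroup _
  refine isInner_of_aut_isPGroup hS hF hT fun R hR => ?_
  by_cases hRS : R = S
  · subst hRS; exact hT
  exfalso
  have hle : R ≤ S := hR.1.1
  haveI := finite_of_le hle
  haveI := finite_mulAut (P := R)
  set P := R.subgroupOf S
  set e : R ≃* P := (subgroupOfEquivOfLe hle).symm
  set c : MulAut R →* MulAut P := (MulAut.congr e).toMonoidHom with hc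
  have hcinj : Function.Injective c := (MulAut.congr e).injective
  have hind : autInducedBy ⊤ P = (autInducedBy S R).map c := by
    apply le_antisymm
    · refine (closure_le _).2 ?_
      rintro φ ⟨g, -, hg⟩
      refine ⟨MulAut.congr e.symm φ, subset_closure ⟨g, g.2, fun r => ?_⟩, ?_⟩
      · exact congrArg Subtype.val (hg (e r))
      · exact MulEquiv.ext fun p => by simp [hc]
    · rw [map_le_iff_le_comap]
      refine (closure_le _).2 ?_
      rintro φ ⟨g, hgS, hg⟩
      exact subset_closure ⟨⟨g, hgS⟩, mem_top _, fun p => Subtype.ext (hg (e.symm p))⟩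
  have hE : Ess P ((F.autGroup R).map c) := by
    refine ⟨fun g hg => ?_, fun h => hRS (le_antisymm hle (subgroupOf_eq_top.1 h)), ?_, ?_, ?_⟩
    · refine mem_subgroupOf.2 (centralizerIn_le_of_isCentric hR.1 ⟨g.2, mem_centralizer_iff.2
        fun r hr => ?_⟩)
      exact congrArg Subtype.val (mem_centralizer_iff.1 hg ⟨r, hle hr⟩ (mem_subgroupOf.2 hr))
    · rw [hind]; exact map_mono (autInducedBy_le_autGroup hle)
    · intro N hN hNp
      set q := (F.autGroup R).equivMapOfInjective c hcinj
      haveI : (N.comap q.toMonoidHom).Normal := Normal.comap hN _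
      have h1 : IsPGroup 2 (N.comap q.toMonoidHom) :=
        hNp.comap_of_injective _ q.injective
      rintro _ ⟨n, hn, rfl⟩
      obtain ⟨a, rfl⟩ := q.surjective n
      obtain ⟨r, hr⟩ : ((a : MulAut R)) ∈ Cfsg.Inn R := by
        rw [← (isRadical_of_isEssential hS hR).2]
        exact ⟨a, CfsgLib.Coprime.le_pCore h1 hn, rfl⟩
      exact ⟨e r, MulEquiv.ext fun p => by
        show e r * p * (e r)⁻¹ = e ((a : MulAut R) (e.symm p))
        rw [← hr, MulAut.conj_apply, map_mul, map_mul, map_inv, e.apply_symm_apply]⟩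
    · rw [hind, relIndex_map_map_of_injective _ _ hcinj]
      exact ((isFullyAutomized_iff hS).1 (IsSaturated.automized_receptive hS hF hR.2.1).1).2
  exact ess_false H hnc hE

end CfsgLib.Fusion.Bicyclic
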