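import Cfsg.Agent.Lib.Fusion.System.Bicyclic.Even
import Cfsg.Agent.Lib.Fusion.System.Bicyclic.OddAut

/-!
# Sections of proper subgroups
-/

set_option autoImplicit false
set_option maxHeartbeats 1000000
set_option linter.style.haveILetI false
set_option linter.unusedSectionVars false

open Subgroup

namespace CfsgLib.Fusion.Bicyclic

universe u

variable {G : Type u} [Group G] [Finite G] (H : Hyp G)
include H

/-- Elementary sections inside `Φ(G)` have order at most four. -/
theorem card_le_four_mul {A : Type u} [Group A] [Finite A] (f : A →* G)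
    (hf : Function.Injective f) {L N : Subgroup A} (hL : ∀ x ∈ L, f x ∈ sqSub G) (hNL : N ≤ L)
    (hn : ∀ h ∈ L, ∀ n ∈ N, h * n * h⁻¹ ∈ N) (hsq : ∀ h ∈ L, h * h ∈ N) :
    Nat.card L ≤ 4 * Nat.card N := by
  classical
  haveI : (N.subgroupOf L).Normal := ⟨fun n h g => hn g g.2 n h⟩
  set W := L ⧸ N.subgroupOf L
  set π := QuotientGroup.mk' (N.subgroupOf L)
  have hW : Nat.card W ≤ 4 := by
    by_contra hlt
    push Not at hlt
    haveI : Fintype W := Fintype.ofFinite W
    rw [Nat.card_eq_fintype_card, ← Finset.card_univ] at hlt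
    obtain ⟨x, -, hx⟩ := Finset.exists_mem_notMem_of_card_lt_card (s := ({1} : Finset W))
      (t := Finset.univ) (by rw [Finset.card_singleton]; omega)
    obtain ⟨y, -, hy⟩ := Finset.exists_mem_notMem_of_card_lt_card (s := ({1, x} : Finset W))
      (t := Finset.univ) (by
        have := Finset.card_le_two (a := (1 : W)) (b := x)
        omega)
    obtain ⟨z, -, hz⟩ := Finset.exists_mem_notMem_of_card_lt_card
      (s := ({1, x, y, x * y} : Finset W)) (t := Finset.univ) (by
        have := Finset.card_le_four (a := (1 : W)) (b := x) (c := y) (d := x * y)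
        omega)
    simp only [Finset.mem_insert, Finset.mem_singleton, not_or] at hx hy hz
    have h2 : ∀ w : W, w * w = 1 := fun w => by
      obtain ⟨h, rfl⟩ := QuotientGroup.mk'_surjective _ w
      exact (QuotientGroup.eq_one_iff _).2 (mem_subgroupOf.2 (hsq _ h.2))
    have hi : ∀ w : W, w⁻¹ = w := fun w => inv_eq_of_mul_eq_one_right (h2 w)
    obtain ⟨xl, rfl⟩ := QuotientGroup.mk'_surjective _ x
    obtain ⟨yl, rfl⟩ := QuotientGroup.mk'_surjective _ y
    obtain ⟨zl, rfl⟩ := QuotientGroup.mk'_surjective _ z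
    have hone : ∀ w : L, f w ∈ N.map f → π w = 1 := fun w hw =>
      (QuotientGroup.eq_one_iff _).2 (mem_subgroupOf.2 ((mem_map_iff_mem hf).1 hw))
    rcases H.cover' (L := L.map f) (N := N.map f) (map_le_iff_le_comap.2 hL) (by
        rintro _ ⟨h, hh, rfl⟩ _ ⟨n, hn', rfl⟩
        exact ⟨_, hn h hh n hn', by simp⟩) (by
        rintro _ ⟨h, hh, rfl⟩
        exact ⟨_, hsq h hh, map_mul f h h⟩)
      (mem_map_of_mem f xl.2) (mem_map_of_mem f yl.2) (mem_map_of_mem f zl.2)
      with h | h | h | h | h | h | h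
    · exact hx (hone xl h)
    · exact hy.1 (hone yl h)
    · rw [← map_mul] at h
      have h' := hone (xl * yl) h
      rw [map_mul, mul_eq_one_iff_eq_inv, hi] at h'
      exact hy.2 h'.symm
    · exact hz.1 (hone zl h)
    · rw [← map_mul] at h
      have h' := hone (zl * xl) h
      rw [map_mul, mul_eq_one_iff_eq_inv, hi] at h'
      exact hz.2.1 h'
    · rw [← map_mul] at h
      have h' := hone (zl * yl) h
      rw [map_mul, mul_eq_one_iff_eq_inv, hi] at h'
      exact hz.2.2.1 h'
    · rw [← map_mul, ← map_mul] at h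
      have h' := hone (zl * (xl * yl)) h
      rw [map_mul, mul_eq_one_iff_eq_inv, hi, map_mul] at h'
      exact hz.2.2.2 h'
  have h1 := (N.subgroupOf L).card_mul_index
  rw [Subgroup.index_eq_card, Nat.card_congr (subgroupOfEquivOfLe hNL).toEquiv] at h1
  rw [← h1, mul_comm 4]
  exact Nat.mul_le_mul_left _ hW

theorem frattini_le_sqSub {A : Type u} [Group A] [Finite A] (f : A →* G) :
    frattini A ≤ (sqSub G).comap f := by
  haveI : Fact (Nat.Prime 2) := ⟨Nat.prime_two⟩
  refine CfsgLib.FrattiniLe.frattini_le_of_pow_of_commutator (p := 2) (fun x => ?_) ?_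
  · rw [mem_comap, map_pow, sq]; exact sq_mem _
  · refine map_le_iff_le_comap.1 ?_
    rw [_root_.commutator_def, Subgroup.map_commutator]
    exact (Subgroup.commutator_mono le_top le_top).trans commutator_le_sqSub

/-- A proper subgroup has at most three generators. -/
theorem index_frattini_le {A : Type u} [Group A] [Finite A] (f : A →* G)
    (hf : Function.Injective f) (hne : f.range ≠ ⊤) : (frattini A).index ≤ 8 := by
  haveI : Fact (Nat.Prime 2) := ⟨Nat.prime_two⟩
  have hA : IsPGroup 2 A := H.pgroup.of_injective f hf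
  set L := (sqSub G).comap f
  have hle : frattini A ≤ L := frattini_le_sqSub H f
  have h4 : Nat.card L ≤ 4 * Nat.card (frattini A) :=
    card_le_four_mul H f hf (fun x hx => hx) hle
      (fun h _ n hn => (inferInstance : (frattini A).Normal).conj_mem n hn h)
      fun h _ => by rw [← sq]; exact CfsgLib.Coprime.pow_mem_frattini hA h
  have h2 : L.index ≤ 2 := by
    by_cases hall : ∀ p, p ∈ L
    · rw [show L = ⊤ from eq_top_iff.2 fun p _ => hall p, index_top]; omega
    push Not at hall
    obtain ⟨p, hp⟩ := hall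
    let g : Fin 2 → A ⧸ L := ![(1 : A), p]
    have hsurj : Function.Surjective g := fun v => by
      obtain ⟨q, rfl⟩ := QuotientGroup.mk_surjective v
      by_cases hq : q ∈ L
      · exact ⟨0, (QuotientGroup.eq.2 (by simpa using hq))⟩
      · refine ⟨1, QuotientGroup.eq.2 ?_⟩
        show f (p⁻¹ * q) ∈ sqSub G
        rw [map_mul, map_inv]
        exact inv_mul_mem_sqSub H hne ⟨p, rfl⟩ ⟨q, rfl⟩ hp hq
    have := Nat.card_le_card_of_surjective g hsurj
    rwa [Nat.card_fin, ← Subgroup.index_eq_card] at this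
  have h1 := (frattini A).card_mul_index
  have h3 := L.card_mul_index
  by_contra hlt
  push Not at hlt
  have hpos : 0 < Nat.card (frattini A) := Nat.card_pos
  nlinarith [Nat.mul_le_mul_left (Nat.card L) h2]

/-- A subgroup with an automorphism of order three that permutes its maximal subgroups
transitively is metacyclic. -/
theorem isMetacyclic_disp {A : Type u} [Group A] [Finite A] [Nontrivial A] (f : A →* G)
    (hf : Function.Injective f) (hne : f.range ≠ ⊤) {β : MulAut A} (h3 : β ^ 3 = 1)
    (htop : comDisp β = ⊤) : Cfsg.IsMetacyclic A := by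
  haveI : Fact (Nat.Prime 2) := ⟨Nat.prime_two⟩
  have hA : IsPGroup 2 A := H.pgroup.of_injective f hf
  obtain ⟨hidx, hmov⟩ := index_frattini_four hA h3 htop (index_frattini_le H f hf hne)
  refine CfsgLib.Invol.MetaTwo.metacyclic_of_sqBound _ A rfl hA fun U N hNU hn hsq => ?_
  set L := (sqSub G).comap f
  have hΦL : frattini A ≤ L := frattini_le_sqSub H f
  by_cases hU : U ⊔ frattini A = ⊤
  · obtain rfl := frattini_nongenerating hU
    haveI : N.Normal := ⟨fun n h g => hn g (mem_top g) n h⟩
    have hsN : ∀ x : A, x * x ∈ N := fun x => hsq x (mem_top x)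
    have hΦN : frattini A ≤ N := CfsgLib.FrattiniLe.frattini_le_of_pow_of_commutator (p := 2)
      (fun x => by rw [sq]; exact hsN x)
      (commutator_le_sqSub.trans ((closure_le _).2 fun z ⟨x, hx⟩ => hx ▸ hsN x))
    rw [card_top, ← N.card_mul_index, mul_comm 4]
    refine Nat.mul_le_mul_left _ ?_
    rw [← hidx]
    exact Nat.le_of_dvd (Nat.pos_of_ne_zero index_ne_zero_of_finite)
      (Subgroup.index_dvd_of_le hΦN)
  -- a power of `β` moves `U` into `Φ(G)`
  obtain ⟨k, hk⟩ : ∃ k : ℕ, ∀ x ∈ U, (β ^ k) x ∈ L := by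
    have hchar : ∀ (k : ℕ) {x : A}, x ∈ frattini A → (β ^ k) x ∈ frattini A := fun k x hx =>
      (Subgroup.characteristic_iff_map_eq.1 inferInstance (β ^ k)).le ⟨x, hx, rfl⟩
    by_cases hall : ∀ x ∈ U, x ∈ frattini A
    · exact ⟨0, fun x hx => hΦL (hall x hx)⟩
    push Not at hall
    obtain ⟨h, hhU, hhΦ⟩ := hall
    obtain ⟨k, hk⟩ : ∃ k : ℕ, (β ^ k) h ∈ L := by
      by_contra hnone
      push Not at hnone
      refine hnone 2 ?_
      have h1 : h⁻¹ * β h ∈ L := by
        show f (h⁻¹ * β h) ∈ sqSub G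
        rw [map_mul, map_inv]
        exact inv_mul_mem_sqSub H hne ⟨h, rfl⟩ ⟨β h, rfl⟩ (by simpa [L] using hnone 0)
          (by simpa [L] using hnone 1)
      have hN : ((h * β h * β (β h) : A) : A ⧸ frattini A) = 1 :=
        norm_eq_one (frattini_quot_comm hA) (frAut_cube h3) (comDisp_frAut htop) (h : A ⧸ frattini A)
      have h2 : (((h⁻¹ * β h)⁻¹ * (β ^ 2) h : A) : A ⧸ frattini A) = 1 := by
        rw [QuotientGroup.mk_mul, QuotientGroup.mk_mul] at hN
        rw [sq, MulAut.mul_apply, QuotientGroup.mk_mul, QuotientGroup.mk_inv, QuotientGroup.mk_mul,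
          QuotientGroup.mk_inv, mul_inv_rev, inv_inv,
          inv_eq_of_mul_eq_one_right (frattini_quot_sq hA (β h : A ⧸ frattini A)),
          frattini_quot_comm hA ((β h : A) : A ⧸ frattini A)]
        exact hN
      have := L.mul_mem h1 (hΦL ((QuotientGroup.eq_one_iff _).1 h2))
      rwa [mul_inv_cancel_left] at this
    refine ⟨k, fun x hx => ?_⟩
    by_cases hxΦ : x ∈ frattini A
    · exact hΦL (hchar k hxΦ)
    have hd : h⁻¹ * x ∈ frattini A := by
      by_contra hd
      exact hU (CfsgLib.PGroup.MetaTwo.sup_frattini_eq_top hidx (U ⊔ frattini A)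
        (mem_sup_left hhU) (mem_sup_left hx) hhΦ hxΦ hd)
    have := L.mul_mem hk (hΦL (hchar k hd))
    rwa [← map_mul, mul_inv_cancel_left] at this
  set ψ := (β ^ k).toMonoidHom
  have hψ : Function.Injective ψ := (β ^ k).injective
  have h4 := card_le_four_mul H f hf (L := U.map ψ) (N := N.map ψ)
    (by rintro _ ⟨x, hx, rfl⟩; exact hk x hx) (map_mono hNU)
    (by rintro _ ⟨x, hx, rfl⟩ _ ⟨n, hn', rfl⟩; exact ⟨_, hn x hx n hn', by simp⟩)
    (by rintro _ ⟨x, hx, rfl⟩; exact ⟨_, hsq x hx, map_mul ψ x x⟩)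
  rwa [← Nat.card_congr (U.equivMapOfInjective ψ hψ).toEquiv,
    ← Nat.card_congr (N.equivMapOfInjective ψ hψ).toEquiv] at h4

end CfsgLib.Fusion.Bicyclic
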