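import Cfsg.Prelude.Def_FusionSystem
import Cfsg.Agent.Lib.Fusion.System.Bicyclic.Section
import Cfsg.Agent.Lib.Invol.InvertedOdd

/-!
# An element of the normalizer inverts an automorphism of order three
-/

set_option autoImplicit false
set_option maxHeartbeats 1000000
set_option linter.style.haveILetI false
set_option linter.unusedSectionVars false

open Subgroup
open scoped commutatorElement

namespace CfsgLib.Fusion.Bicyclic

universe u

variable {G : Type u} [Group G]

/-- What is used of the automorphisms of an essential subgroup. -/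
structure Ess (P : Subgroup G) (X : Subgroup (MulAut P)) : Prop where
  cent : centralizer (P : Set G) ≤ P
  ne_top : P ≠ ⊤
  ind : Cfsg.autInducedBy ⊤ P ≤ X
  core : ∀ N : Subgroup X, N.Normal → IsPGroup 2 N → N.map X.subtype ≤ Cfsg.Inn P
  syl : ¬ 2 ∣ (Cfsg.autInducedBy ⊤ P).relIndex X

/-- Conjugation by `t` is `τ`, which inverts `α` modulo inner automorphisms. -/
structure Inverted (P : Subgroup G) (t : G) (τ α : MulAut P) : Prop where
  apply : ∀ x : P, ((τ x : P) : G) = t * x * t⁻¹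
  notMem : t ∉ P
  sq : t * t ∈ P
  cube : α ^ 3 = 1
  ne : α ≠ 1
  inv : ∃ u : P, ∀ x, τ (α x) = u * α (α (τ x)) * u⁻¹

variable {P : Subgroup G} {t : G} {τ α : MulAut P}

theorem Inverted.apply_three (I : Inverted P t τ α) (x : P) : α (α (α x)) = x := by
  simpa [pow_succ] using congrArg (fun f : MulAut P => f x) I.cube

theorem Inverted.norm (I : Inverted P t τ α) {x : G} (hx : x ∈ P) : t * x * t⁻¹ ∈ P :=
  I.apply ⟨x, hx⟩ ▸ (τ ⟨x, hx⟩).2

/-- Where `τ` is trivial, `α` is trivial. -/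
theorem Inverted.trivial_of_fix (I : Inverted P t τ α) {N : Subgroup P} [N.Normal]
    (hN : ∀ n ∈ N, α n ∈ N) {x : P} (h1 : x⁻¹ * τ x ∈ N) (h2 : (α x)⁻¹ * τ (α x) ∈ N)
    (hcomm : ∀ u, u * α (α (τ x)) * u⁻¹ * (α (α (τ x)))⁻¹ ∈ N) : x⁻¹ * α x ∈ N := by
  obtain ⟨u, hu⟩ := I.inv
  set π := QuotientGroup.mk' N
  have hα : ∀ {y z : P}, π y = π z → π (α y) = π (α z) := fun {y z} h => by
    refine QuotientGroup.eq.2 ?_
    rw [← map_inv, ← map_mul]
    exact hN _ (QuotientGroup.eq.1 h)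
  have e1 : π x = π (τ x) := QuotientGroup.eq.2 h1
  have e2 : π (α x) = π (τ (α x)) := QuotientGroup.eq.2 h2
  have e3 : π (τ (α x)) = π (α (α (τ x))) := by
    rw [hu x]
    have := (QuotientGroup.eq_one_iff (N := N) _).2 (hcomm u)
    rwa [← QuotientGroup.mk'_apply, map_mul, mul_eq_one_iff_eq_inv, map_inv, inv_inv] at this
  have e4 : π (α (α x)) = π (α x) := by rw [e2, e3]; exact hα (hα e1)
  have e5 := hα e4
  rw [I.apply_three] at e5
  exact QuotientGroup.eq.1 (e5.trans e4)

variable [Finite G] (H : Hyp G)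
include H

theorem pgroup_sub (P : Subgroup G) : IsPGroup 2 P := H.pgroup.to_subgroup P

theorem index_frattini_sub (hne : P ≠ ⊤) : (frattini P).index ≤ 8 :=
  index_frattini_le H P.subtype P.subtype_injective (by rwa [range_subtype])

theorem exists_inverted {X : Subgroup (MulAut P)} (E : Ess P X)
    (hn : ∀ x ∈ P, t * x * t⁻¹ ∈ P) (ht : t ∉ P) (ht2 : t * t ∈ P) :
    ∃ τ α : MulAut P, τ ∈ X ∧ α ∈ X ∧ Inverted P t τ α := by
  haveI : Fact (Nat.Prime 2) := ⟨Nat.prime_two⟩
  haveI : Finite (MulAut P) := Finite.of_injective (fun a : MulAut P => (a : P → P))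
    DFunLike.coe_injective
  let τ : MulAut P := MulEquiv.ofBijective
    ({ toFun := fun x => ⟨t * x * t⁻¹, hn x x.2⟩
       map_one' := Subtype.ext (by simp)
       map_mul' := fun x y => Subtype.ext (by simp only [Subgroup.coe_mul]; group) } : P →* P)
    (Finite.injective_iff_bijective.1 fun x y h => Subtype.ext (by
      simpa using congrArg Subtype.val h))
  have hτ : ∀ x : P, ((τ x : P) : G) = t * x * t⁻¹ := fun x => rfl
  have hτX : τ ∈ X := E.ind (subset_closure ⟨t, mem_top t, hτ⟩)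
  have hτ2 : τ * τ = MulAut.conj (⟨t * t, ht2⟩ : P) := MulEquiv.ext fun x => Subtype.ext (by
    rw [MulAut.mul_apply, hτ, hτ]
    simp [mul_assoc])
  set In := (Cfsg.Inn P).subgroupOf X
  haveI : In.Normal := Subgroup.Normal.subgroupOf inferInstance X
  have hτI : (⟨τ, hτX⟩ : X) ∉ In := by
    intro h
    obtain ⟨p, hp⟩ := mem_subgroupOf.1 h
    refine ht ?_
    have hc : (p : G)⁻¹ * t ∈ centralizer (P : Set G) := by
      refine mem_centralizer_iff.2 fun y hy => ?_
      have h1 : (p : G) * y * (p : G)⁻¹ = t * y * t⁻¹ :=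
        (congrArg (fun f : MulAut P => ((f ⟨y, hy⟩ : P) : G)) hp).trans (hτ ⟨y, hy⟩)
      calc y * ((p : G)⁻¹ * t) = (p : G)⁻¹ * ((p : G) * y * (p : G)⁻¹) * t := by group
        _ = _ := by rw [h1]; group
    have := P.mul_mem p.2 (E.cent hc)
    rwa [mul_inv_cancel_left] at this
  set π := QuotientGroup.mk' In
  have hπτ : orderOf (π ⟨τ, hτX⟩) = 2 := orderOf_eq_prime (by
    rw [sq, ← map_mul]
    exact (QuotientGroup.eq_one_iff _).2 (mem_subgroupOf.2 ⟨_, hτ2.symm⟩))
    fun h => hτI ((QuotientGroup.eq_one_iff _).1 h)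
  have hIn2 : IsPGroup 2 (Cfsg.Inn P) :=
    (pgroup_sub H P).of_surjective (MulAut.conj (G := P)).rangeRestrict
      (MonoidHom.rangeRestrict_surjective _)
  have hcore : π ⟨τ, hτX⟩ ∉ Cfsg.pCore 2 (X ⧸ In) := by
    intro h
    haveI := CfsgLib.Coprime.pCore_normal' (G := X ⧸ In) 2
    have hp : IsPGroup 2 ((Cfsg.pCore 2 (X ⧸ In)).comap π) :=
      (CfsgLib.Coprime.pCore_isPGroup 2).comap_of_ker_isPGroup π (by
        rw [QuotientGroup.ker_mk']
        exact hIn2.comap_of_injective X.subtype X.subtype_injective)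
    exact hτI (mem_subgroupOf.2 (E.core _ inferInstance hp ⟨_, h, rfl⟩))
  obtain ⟨x, hx1, hxo, hxinv⟩ := CfsgLib.Invol.exists_odd_inverted_of_notMem_pCore hπτ hcore
  obtain ⟨g, rfl⟩ := QuotientGroup.mk'_surjective In x
  obtain ⟨e, m, hm, he⟩ := Nat.exists_eq_two_pow_mul_odd (orderOf_pos g).ne'
  set g' := g ^ 2 ^ e with hg'
  have hodd : Odd (orderOf (g' : MulAut P)) := by
    refine hm.of_dvd_nat (orderOf_dvd_of_pow_eq_one ?_)
    rw [hg', ← Subgroup.coe_pow, ← pow_mul, ← he, pow_orderOf_eq_one]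
    rfl
  have hne : (g' : MulAut P) ≠ 1 := fun h => hx1 (by
    have h1 : π g ^ 2 ^ e = 1 := by
      rw [← map_pow, ← hg', show g' = 1 from Subtype.ext h, map_one]
    exact orderOf_eq_one_iff.1 (Nat.eq_one_of_dvd_coprimes
      (show Nat.Coprime (2 ^ e) (orderOf (π g)) from
        Nat.Coprime.pow_left _ ((Nat.coprime_two_left).2 hxo))
      (orderOf_dvd_of_pow_eq_one h1) dvd_rfl))
  have hinv : π (⟨τ, hτX⟩ * g' * (⟨τ, hτX⟩ : X)⁻¹ * g') = 1 := by
    rw [map_mul, map_mul, map_mul, map_inv, hg', map_pow, ← conj_pow, hxinv, inv_pow,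
      inv_mul_cancel]
  obtain ⟨u, hu⟩ := mem_subgroupOf.1 ((QuotientGroup.eq_one_iff _).1 hinv)
  simp only [Subgroup.coe_mul, Subgroup.coe_inv] at hu
  set σ : MulAut P := (g' : MulAut P)
  have hσinv : τ * σ * τ⁻¹ = MulAut.conj u * σ⁻¹ := by
    rw [hu, mul_inv_cancel_right]
  -- the order is three
  set fr := CfsgLib.PGroup.MetaTwo.frAut (R := P)
  have hconj : ∀ v : P, fr (MulAut.conj v) = 1 := fun v => MulEquiv.ext fun q => by
    obtain ⟨y, rfl⟩ := QuotientGroup.mk_surjective q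
    rw [CfsgLib.PGroup.MetaTwo.frAut_mk, MulAut.conj_apply, QuotientGroup.mk_mul,
      QuotientGroup.mk_mul, frattini_quot_comm (pgroup_sub H P) (v : P ⧸ frattini P),
      QuotientGroup.mk_inv, mul_inv_cancel_right]
    rfl
  have h3 : σ ^ 3 = 1 := by
    have h := cube_of_inverted (frattini_quot_sq (pgroup_sub H P))
      (by rw [← Subgroup.index_eq_card]; exact index_frattini_sub H E.ne_top)
      (σ := fr σ) (τ := fr τ) (hodd.of_dvd_nat (orderOf_map_dvd fr σ))
      (by rw [← map_mul, hτ2, hconj])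
      (by rw [← map_inv, ← map_mul, ← map_mul, hσinv, map_mul, hconj, one_mul, map_inv])
    rw [← map_pow] at h
    obtain ⟨k, hk⟩ := CfsgLib.PGroup.MetaTwo.isPGroup_ker_frAut (pgroup_sub H P)
      (⟨σ ^ 3, h⟩ : fr.ker)
    have hk' : (σ ^ 3) ^ 2 ^ k = 1 := congrArg Subtype.val hk
    exact orderOf_eq_one_iff.1 (Nat.eq_one_of_dvd_coprimes
      (show Nat.Coprime (2 ^ k) (orderOf σ) from Nat.Coprime.pow_left _ ((Nat.coprime_two_left).2 hodd))
      (orderOf_dvd_of_pow_eq_one hk') (orderOf_pow_dvd 3))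
  refine ⟨τ, σ, hτX, g'.2, hτ, ht, ht2, h3, hne, u, fun y => ?_⟩
  have hsi : σ⁻¹ = σ * σ := inv_eq_of_mul_eq_one_right (by rw [← h3, pow_succ, pow_succ, pow_one, mul_assoc])
  have h := congrArg (fun f : MulAut P => f (τ y)) hσinv
  simp only [MulAut.mul_apply, hsi, MulAut.conj_apply] at h
  rwa [show τ⁻¹ (τ y) = y from τ.symm_apply_apply y] at h

/-- The structure forced by `α`. -/
theorem Inverted.facts (hne : P ≠ ⊤) (I : Inverted P t τ α) :
    (∀ v w : P, v⁻¹ * α v ∈ frattini P → w⁻¹ * α w ∈ frattini P → v ∉ frattini P →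
      w ∉ frattini P → v⁻¹ * w ∈ frattini P) ∧
    ∃ f : P, α f = f ∧ zpowers f ⊔ comDisp α = ⊤ :=
  quotient_facts (pgroup_sub H P) I.cube I.ne (index_frattini_sub H hne)

theorem Inverted.commutator_le (hne : P ≠ ⊤) (I : Inverted P t τ α) :
    commutator P ≤ comDisp α := by
  obtain ⟨-, f, -, hgen⟩ := I.facts H hne
  haveI : IsCyclic (P ⧸ comDisp α) := isCyclic_iff_exists_zpowers_eq_top.2
    ⟨QuotientGroup.mk' _ f, by
      rw [← MonoidHom.map_zpowers, ← Subgroup.map_top_of_surjective _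
        (QuotientGroup.mk'_surjective (comDisp α)), ← hgen, Subgroup.map_sup,
        QuotientGroup.map_mk'_self, sup_bot_eq]⟩
  rw [_root_.commutator_def, Subgroup.commutator_le]
  intro x _ y _
  refine (QuotientGroup.eq_one_iff _).1 ?_
  rw [← QuotientGroup.mk'_apply, map_commutatorElement, commutatorElement_eq_one_iff_mul_comm]
  exact (IsCyclic.isMulCommutative (α := P ⧸ comDisp α)).is_comm.comm _ _

/-- `t` normalizes the displacement group. -/
theorem Inverted.tau_disp (hne : P ≠ ⊤) (I : Inverted P t τ α) {q : P} (hq : q ∈ comDisp α) :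
    τ q ∈ comDisp α := by
  induction hq using closure_induction with
  | mem x hx =>
    obtain ⟨p, rfl⟩ := hx
    obtain ⟨u, hu⟩ := I.inv
    rw [map_mul, map_inv, hu]
    set p' := τ p
    set y := α (α p')
    have h1 : (p')⁻¹ * u * p' * u⁻¹ ∈ comDisp α := I.commutator_le H hne (by
      have := commutator_mem_commutator (mem_top p'⁻¹) (mem_top u)
      rwa [commutatorElement_def, inv_inv] at this)
    have h2 : p'⁻¹ * y ∈ comDisp α := by
      have h3 := inv_mem (disp_mem α y)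
      rwa [mul_inv_rev, inv_inv, show α y = p' from I.apply_three p'] at h3
    have := mul_mem h1 ((inferInstance : (comDisp α).Normal).conj_mem _ h2 u)
    simpa [mul_assoc] using this
  | one => simp
  | mul x y _ _ hx hy => rw [map_mul]; exact mul_mem hx hy
  | inv x _ hx => rw [map_inv]; exact inv_mem hx

/-- `t` moves the displacements modulo the Frattini subgroup. -/
theorem Inverted.exists_moved (hne : P ≠ ⊤) (I : Inverted P t τ α) :
    ¬ ∀ q ∈ comDisp α, q⁻¹ * τ q ∈ frattini P := by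
  haveI : Fact (Nat.Prime 2) := ⟨Nat.prime_two⟩
  intro hall
  have hP := pgroup_sub H P
  have hchar : ∀ n ∈ frattini P, α n ∈ frattini P := fun n hn =>
    (Subgroup.characteristic_iff_map_eq.1 inferInstance α).le ⟨n, hn, rfl⟩
  have hQ : ∀ q ∈ comDisp α, q⁻¹ * α q ∈ frattini P := fun q hq =>
    I.trivial_of_fix hchar (hall q hq) (hall _ (comDisp_apply_mem α hq)) fun u => by
      have := CfsgLib.Coprime.commutator_le_frattini hP
        (commutator_mem_commutator (mem_top u) (mem_top (α (α (τ q)))))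
      rwa [commutatorElement_def] at this
  set fr := CfsgLib.PGroup.MetaTwo.frAut α
  have hfr : fr = 1 := by
    refine MulEquiv.ext fun v => ?_
    obtain ⟨p, rfl⟩ := QuotientGroup.mk_surjective v
    set V := P ⧸ frattini P
    have h1 : ((α (p⁻¹ * α p) : P) : V) = ((p⁻¹ * α p : P) : V) :=
      (QuotientGroup.eq.2 (hQ _ (disp_mem α p))).symm
    rw [map_mul, map_inv, QuotientGroup.mk_mul, QuotientGroup.mk_mul, QuotientGroup.mk_inv,
      QuotientGroup.mk_inv] at h1
    have hcomm := frattini_quot_comm (Q := P) hP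
    set A : V := (p : V)
    set B : V := ((α p : P) : V)
    set C : V := ((α (α p) : P) : V)
    -- `C = A`
    have h2 : C = A⁻¹ * B * B := by
      rw [show C = B * (B⁻¹ * C) by group, h1, hcomm B]
    rw [mul_assoc, frattini_quot_sq hP B, mul_one,
      inv_eq_of_mul_eq_one_right (frattini_quot_sq hP A)] at h2
    show B = A
    have h3 : ((α (α (α p)) : P) : V) = ((α p : P) : V) := by
      refine QuotientGroup.eq.2 ?_
      rw [← map_inv, ← map_mul]
      exact hchar _ (QuotientGroup.eq.1 (show C = A from h2))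
    rw [I.apply_three] at h3
    exact h3.symm
  obtain ⟨k, hk⟩ := CfsgLib.PGroup.MetaTwo.isPGroup_ker_frAut hP
    (⟨α, hfr⟩ : (CfsgLib.PGroup.MetaTwo.frAut (R := P)).ker)
  have hk' : α ^ 2 ^ k = 1 := congrArg Subtype.val hk
  exact I.ne (orderOf_eq_one_iff.1 (Nat.eq_one_of_dvd_coprimes
    (show Nat.Coprime (2 ^ k) 3 from Nat.Coprime.pow_left _ (by norm_num))
    (orderOf_dvd_of_pow_eq_one hk') (orderOf_dvd_of_pow_eq_one I.cube)))

omit H in
/-- The last power outside a subgroup. -/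
theorem exists_last (hG : IsPGroup 2 G) {g : G} (hg : g ∉ P) :
    ∃ n : ℕ, g ^ 2 ^ n ∉ P ∧ g ^ 2 ^ n * g ^ 2 ^ n ∈ P := by
  classical
  obtain ⟨k, hk⟩ := hG g
  have hex : ∃ n, g ^ 2 ^ n ∈ P := ⟨k, hk ▸ one_mem P⟩
  obtain ⟨m, hm⟩ : ∃ m, Nat.find hex = m + 1 := Nat.exists_eq_succ_of_ne_zero fun h => hg (by
    have := Nat.find_spec hex
    rwa [h, pow_zero, pow_one] at this)
  refine ⟨m, Nat.find_min hex (by omega), ?_⟩
  have := Nat.find_spec hex
  rwa [hm, pow_succ, pow_mul, sq] at this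

end CfsgLib.Fusion.Bicyclic
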