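import Cfsg.Prelude.Def_OddOrderLocal
import Cfsg.Agent.Lib.Invol.MetacyclicTwo
import Cfsg.Agent.Lib.Coprime.PGroupFrattini
import Cfsg.Agent.Lib.PGroup.FourGen.Centralizer

/-!
# Bicyclic 2-groups that are not metacyclic

With `K = derK G`, the subgroup generated by the squares in `G'` and `[G', G]`, such a group has
generators `a`, `b` with `b * b ∈ K`, `G / G'` is `C_{2^r} × C_2` with `2 ≤ r`, and `a ^ 2 ^ r ∈ K`.
-/

set_option autoImplicit false
set_option linter.style.haveILetI false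
set_option linter.unusedSectionVars false

open Subgroup
open scoped commutatorElement

namespace CfsgLib.Fusion.Bicyclic

universe u

/-- Every element is `x ^ i * y ^ j`. -/
def IsBicyclic (G : Type u) [Group G] : Prop := ∃ x y : G, ∀ g : G, ∃ i j : ℤ, g = x ^ i * y ^ j

/-- The squares in the derived group and its commutators with the group. -/
def derK (G : Type u) [Group G] : Subgroup G :=
  closure ({h | ∃ s ∈ commutator G, h = s * s} ∪ {h | ∃ s ∈ commutator G, ∃ g, h = ⁅s, g⁆})

variable {G : Type u} [Group G]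

theorem sq_mem_derK {s : G} (hs : s ∈ commutator G) : s * s ∈ derK G :=
  subset_closure (Or.inl ⟨s, hs, rfl⟩)

theorem comm_mem_derK {s : G} (hs : s ∈ commutator G) (g : G) : ⁅s, g⁆ ∈ derK G :=
  subset_closure (Or.inr ⟨s, hs, g, rfl⟩)

theorem derK_le : derK G ≤ commutator G := (closure_le _).2 fun h hh => by
  rcases hh with ⟨s, hs, rfl⟩ | ⟨s, hs, g, rfl⟩
  · exact mul_mem hs hs
  · exact commutator_mem_commutator (mem_top s) (mem_top g)

instance derK_normal : (derK G).Normal := by
  refine ⟨fun n hn k => ?_⟩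
  induction hn using closure_induction with
  | mem x hx =>
    rcases hx with ⟨s, hs, rfl⟩ | ⟨s, hs, g, rfl⟩
    · rw [show k * (s * s) * k⁻¹ = (k * s * k⁻¹) * (k * s * k⁻¹) by group]
      exact sq_mem_derK ((inferInstance : (commutator G).Normal).conj_mem s hs k)
    · rw [show k * ⁅s, g⁆ * k⁻¹ = ⁅k * s * k⁻¹, k * g * k⁻¹⁆ by
        simp only [commutatorElement_def]; group]
      exact comm_mem_derK ((inferInstance : (commutator G).Normal).conj_mem s hs k) _
  | one => simp
  | mul x y _ _ hx hy =>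
    rw [show k * (x * y) * k⁻¹ = k * x * k⁻¹ * (k * y * k⁻¹) by group]
    exact mul_mem hx hy
  | inv x _ hx =>
    rw [show k * x⁻¹ * k⁻¹ = (k * x * k⁻¹)⁻¹ by group]
    exact inv_mem hx

/-- A subgroup between `derK` and the derived group is normal. -/
theorem normal_of_between {N : Subgroup G} (h₁ : derK G ≤ N) (h₂ : N ≤ commutator G) : N.Normal :=
  ⟨fun n hn g => by
    have h := inv_mem (h₁ (comm_mem_derK (h₂ hn) g))
    have h' := mul_mem h hn
    rwa [show ⁅n, g⁆⁻¹ * n = g * n * g⁻¹ by simp only [commutatorElement_def]; group] at h'⟩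

theorem mk_comm {s : G} (hs : s ∈ commutator G) (q : G ⧸ derK G) :
    Commute (QuotientGroup.mk' (derK G) s) q := by
  obtain ⟨g, rfl⟩ := QuotientGroup.mk_surjective q
  refine commutatorElement_eq_one_iff_commute.1 ?_
  rw [← QuotientGroup.mk'_apply, ← map_commutatorElement]
  exact (QuotientGroup.eq_one_iff _).2 (comm_mem_derK hs g)

theorem mk_sq {s : G} (hs : s ∈ commutator G) :
    QuotientGroup.mk' (derK G) s * QuotientGroup.mk' (derK G) s = 1 := by
  rw [← map_mul]
  exact (QuotientGroup.eq_one_iff _).2 (sq_mem_derK hs)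

/-- The derived group of a group with two generators modulo `derK`. -/
theorem commutator_le_zpowers {x y : G} (hgen : closure ({x, y} : Set G) = ⊤) :
    commutator G ≤ zpowers (x⁻¹ * y * x * y⁻¹) ⊔ derK G := by
  set d := x⁻¹ * y * x * y⁻¹ with hd
  have hdR : d ∈ commutator G := by
    rw [show d = ⁅x⁻¹, y⁆ by rw [hd, commutatorElement_def]; group]
    exact commutator_mem_commutator (mem_top _) (mem_top _)
  set N := zpowers d ⊔ derK G
  haveI : N.Normal := normal_of_between le_sup_right (sup_le (zpowers_le.2 hdR) derK_le)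
  set π := QuotientGroup.mk' N
  have hxy : π x * π y = π y * π x := by
    have h1 : π d = 1 :=
      (QuotientGroup.eq_one_iff _).2 (mem_sup_left (mem_zpowers d))
    rw [hd, map_mul, map_mul, map_mul, map_inv, map_inv] at h1
    calc π x * π y = π x * (((π x)⁻¹ * π y * π x * (π y)⁻¹) * π y) := by rw [h1, one_mul]
      _ = π y * π x := by group
  have htop : closure ({π x, π y} : Set (G ⧸ N)) = ⊤ := by
    rw [show ({π x, π y} : Set (G ⧸ N)) = π '' {x, y} from (Set.image_pair _ _ _).symm,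
      ← MonoidHom.map_closure, hgen, ← MonoidHom.range_eq_map]
    exact MonoidHom.range_eq_top.2 (QuotientGroup.mk'_surjective N)
  have hc : IsMulCommutative (closure ({π x, π y} : Set (G ⧸ N))) :=
    Subgroup.isMulCommutative_closure (by
      rintro a (rfl | rfl) b (rfl | rfl) <;> first | rfl | exact hxy | exact hxy.symm)
  rw [_root_.commutator_def, Subgroup.commutator_le]
  intro g _ k _
  refine (QuotientGroup.eq_one_iff (N := N) _).1 ?_
  show π ⁅g, k⁆ = 1
  rw [map_commutatorElement, commutatorElement_eq_one_iff_mul_comm]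
  exact congrArg Subtype.val (hc.is_comm.comm (⟨π g, htop.ge (mem_top _)⟩ : closure ({π x, π y} : Set (G ⧸ N)))
    ⟨π k, htop.ge (mem_top _)⟩)

variable [Finite G]

/-- A generator whose powers cover the derived group modulo `derK` gives a metacyclic group. -/
theorem isMetacyclic_of_lift (hG : IsPGroup 2 G) {g k : G} (hgen : closure ({g, k} : Set G) = ⊤)
    (hR : commutator G ≤ zpowers g ⊔ derK G) : Cfsg.IsMetacyclic G := by
  haveI : Fact (Nat.Prime 2) := ⟨Nat.prime_two⟩
  haveI : Group.IsNilpotent G := hG.isNilpotent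
  by_cases hgR : g ∈ commutator G
  · have hk : zpowers k = ⊤ := by
      refine frattini_nongenerating ((eq_top_iff.2 (hgen.ge.trans <| (closure_le _).2 ?_)))
      rintro z (rfl | rfl)
      · exact mem_sup_right (CfsgLib.Coprime.commutator_le_frattini hG hgR)
      · exact mem_sup_left (mem_zpowers _)
    haveI : IsCyclic G := isCyclic_iff_exists_zpowers_eq_top.2 ⟨k, hk⟩
    exact ⟨⊤, inferInstance, inferInstance, isCyclic_of_surjective (QuotientGroup.mk' _)
      (QuotientGroup.mk'_surjective _)⟩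
  set N := zpowers g ⊔ commutator G with hN
  haveI hNn : N.Normal := ⟨fun n hn x => by
    have h := mul_mem (mem_sup_right (commutator_mem_commutator (mem_top x) (mem_top n))) hn
    rwa [show ⁅x, n⁆ * n = x * n * x⁻¹ by simp only [commutatorElement_def]; group] at h⟩
  set L := closure {h | ∃ n ∈ N, h = n * n} with hL
  haveI hLn : L.Normal := by
    refine ⟨fun n hn x => ?_⟩
    induction hn using closure_induction with
    | mem z hz =>
      obtain ⟨n, hn, rfl⟩ := hz
      exact subset_closure ⟨x * n * x⁻¹, hNn.conj_mem n hn x, by group⟩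
    | one => simp
    | mul z w _ _ hz hw =>
      rw [show x * (z * w) * x⁻¹ = x * z * x⁻¹ * (x * w * x⁻¹) by group]
      exact mul_mem hz hw
    | inv z _ hz =>
      rw [show x * z⁻¹ * x⁻¹ = (x * z * x⁻¹)⁻¹ by group]
      exact inv_mem hz
  have hK : derK G ≤ L ⊔ ⁅commutator G, (⊤ : Subgroup G)⁆ := (closure_le _).2 fun z hz => by
    rcases hz with ⟨s, hs, rfl⟩ | ⟨s, hs, x, rfl⟩
    · exact mem_sup_left (subset_closure ⟨s, mem_sup_right hs, rfl⟩)
    · exact mem_sup_right (commutator_mem_commutator hs (mem_top x))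
  have hstep : commutator G ≤ L ⊔ ⁅commutator G, (⊤ : Subgroup G)⁆ := fun s hs => by
    have h1 := hR hs
    rw [← SetLike.mem_coe, Subgroup.mul_normal] at h1
    obtain ⟨u, hu, k₀, hk₀, rfl⟩ := Set.mem_mul.1 h1
    refine mul_mem ?_ (hK hk₀)
    obtain ⟨i, rfl⟩ := mem_zpowers_iff.1 hu
    have hiR : g ^ i ∈ commutator G := by
      have := mul_mem hs (inv_mem (derK_le hk₀))
      rwa [mul_inv_cancel_right] at this
    rcases Int.even_or_odd i with ⟨j, rfl⟩ | hi
    · refine mem_sup_left (subset_closure ⟨g ^ j, ?_, zpow_add g j j⟩)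
      exact mem_sup_left (zpow_mem (mem_zpowers g) j)
    · exact absurd (zpowers_le.2 hiR (CfsgLib.Invol.MetaTwo.odd_zpow_mem hG hi)) hgR
  have hRL : commutator G ≤ L := by
    have h := map_mono (f := QuotientGroup.mk' L) hstep
    rw [Subgroup.map_sup, QuotientGroup.map_mk'_self, bot_sup_eq, map_commutator,
      Subgroup.map_top_of_surjective _ (QuotientGroup.mk'_surjective L)] at h
    have := CfsgLib.PGroup.FourGen.eq_bot_of_commutator_eq h
    rwa [Subgroup.map_eq_bot_iff, QuotientGroup.ker_mk'] at this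
  have hNg : N = zpowers g := by
    refine le_antisymm ?_ le_sup_left
    have hNp : IsPGroup 2 N := hG.to_subgroup N
    have htop : (zpowers g).subgroupOf N = ⊤ := by
      refine frattini_nongenerating (eq_top_iff.2 fun n _ => ?_)
      have hle : N ≤ ((zpowers g).subgroupOf N ⊔ frattini N).map N.subtype := by
        refine sup_le ?_ (hRL.trans ((closure_le _).2 ?_))
        · rw [Subgroup.map_sup, subgroupOf_map_subtype, inf_eq_left.2 le_sup_left]
          exact le_sup_left
        · rintro _ ⟨m, hm, rfl⟩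
          refine ⟨⟨m, hm⟩ * ⟨m, hm⟩, mem_sup_right ?_, rfl⟩
          rw [← sq]
          exact CfsgLib.Coprime.pow_mem_frattini hNp _
      obtain ⟨m, hm, hme⟩ := hle n.2
      rwa [show n = m from Subtype.ext hme.symm]
    exact subgroupOf_eq_top.1 htop
  refine ⟨N, hNn, ?_, isCyclic_iff_exists_zpowers_eq_top.2 ⟨QuotientGroup.mk' N k, ?_⟩⟩
  · rw [hNg]; infer_instance
  · refine eq_top_iff.2 fun q _ => ?_
    obtain ⟨z, rfl⟩ := QuotientGroup.mk'_surjective N q
    have hz : z ∈ (zpowers (QuotientGroup.mk' N k)).comap (QuotientGroup.mk' N) := by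
      refine (closure_le _).2 ?_ (hgen.ge (mem_top z))
      rintro w (rfl | rfl)
      · rw [SetLike.mem_coe, mem_comap, show QuotientGroup.mk' N w = 1 from
          (QuotientGroup.eq_one_iff _).2 (mem_sup_left (mem_zpowers w))]
        exact one_mem _
      · exact mem_zpowers _
    exact hz

omit [Finite G] in
/-- Powers in a group with central commutator. -/
theorem zpow_mul_zpow {Q : Type u} [Group Q] {x y d : Q} (hd : y * x * y⁻¹ = x * d)
    (hdc : ∀ q, Commute d q) (p q : ℤ) : y ^ q * x ^ p = x ^ p * y ^ q * d ^ (p * q) := by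
  have h1 : y * x ^ p * y⁻¹ = x ^ p * d ^ p := by
    rw [← conj_zpow, hd, (hdc x).symm.mul_zpow]
  have h2 : (x ^ p)⁻¹ * y * x ^ p = y * d ^ p := by
    rw [((hdc y).zpow_left p).symm.eq]
    calc (x ^ p)⁻¹ * y * x ^ p = (x ^ p)⁻¹ * (y * x ^ p * y⁻¹) * y := by group
      _ = d ^ p * y := by rw [h1, inv_mul_cancel_left]
  have h3 : (x ^ p)⁻¹ * y ^ q * x ^ p = y ^ q * d ^ (p * q) := by
    have h4 : ((x ^ p)⁻¹ * y * x ^ p) ^ q = (y * d ^ p) ^ q := by rw [h2]
    rw [((hdc y).zpow_left p).symm.mul_zpow, ← zpow_mul,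
      show (x ^ p)⁻¹ * y * x ^ p = (x ^ p)⁻¹ * y * ((x ^ p)⁻¹)⁻¹ by rw [inv_inv], conj_zpow,
      inv_inv] at h4
    exact h4
  calc y ^ q * x ^ p = x ^ p * ((x ^ p)⁻¹ * y ^ q * x ^ p) := by group
    _ = _ := by rw [h3, mul_assoc]

/-- Generators adapted to `derK`. -/
structure Gens (G : Type u) [Group G] where
  a : G
  b : G
  r : ℕ
  two_le : 2 ≤ r
  gen : closure ({a, b} : Set G) = ⊤
  sq : b * b ∈ derK G
  pow : a ^ 2 ^ r ∈ derK G
  rel : ∀ i j : ℤ, a ^ i * b ^ j ∈ commutator G → (2 : ℤ) ^ r ∣ i ∧ 2 ∣ j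
  comm : ⁅a, b⁆ ∉ derK G

theorem Gens.commutator_le (d : Gens G) : commutator G ≤ zpowers ⁅d.a, d.b⁆ ⊔ derK G := by
  refine (commutator_le_zpowers d.gen).trans (sup_le (zpowers_le.2 ?_) le_sup_right)
  have hc : ⁅d.a, d.b⁆ ∈ commutator G := commutator_mem_commutator (mem_top _) (mem_top _)
  rw [show d.a⁻¹ * d.b * d.a * d.b⁻¹ = ⁅⁅d.a, d.b⁆⁻¹, d.a⁻¹⁆⁻¹ * ⁅d.a, d.b⁆⁻¹ by
    simp only [commutatorElement_def]; group]
  exact mul_mem (mem_sup_right (inv_mem (comm_mem_derK (inv_mem hc) _)))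
    (mem_sup_left (inv_mem (mem_zpowers _)))

theorem Gens.spl (d : Gens G) (g : G) :
    ∃ i j : ℤ, ∃ s ∈ commutator G, g = d.a ^ i * d.b ^ j * s := by
  have h : ∀ z ∈ closure ({d.a, d.b} : Set G), ∃ i j : ℤ,
      Abelianization.of z = Abelianization.of (d.a ^ i * d.b ^ j) := by
    intro z hz
    induction hz using closure_induction with
    | mem z hz =>
      rcases hz with rfl | rfl
      · exact ⟨1, 0, by simp⟩
      · exact ⟨0, 1, by simp⟩
    | one => exact ⟨0, 0, by simp⟩
    | mul z w _ _ hz hw =>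
      obtain ⟨i, j, hz⟩ := hz
      obtain ⟨k, l, hw⟩ := hw
      refine ⟨i + k, j + l, ?_⟩
      simp only [map_mul, map_zpow] at hz hw ⊢
      rw [hz, hw, zpow_add, zpow_add, mul_mul_mul_comm]
    | inv z _ hz =>
      obtain ⟨i, j, hz⟩ := hz
      refine ⟨-i, -j, ?_⟩
      simp only [map_mul, map_zpow, map_inv] at hz ⊢
      rw [hz, zpow_neg, zpow_neg, mul_inv]
  obtain ⟨i, j, he⟩ := h g (d.gen.ge (mem_top g))
  refine ⟨i, j, (d.a ^ i * d.b ^ j)⁻¹ * g, ?_, by group⟩
  rw [← Abelianization.ker_of, MonoidHom.mem_ker, map_mul, map_inv, he, inv_mul_cancel]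

omit [Finite G] in
/-- An element outside the Frattini subgroup of square one. -/
theorem exists_square_eq_one {Q : Type u} [Group Q] [Finite Q] (hQ : IsPGroup 2 Q) {x y d : Q}
    (hconj : y * x * y⁻¹ = x * d) (hdc : ∀ q, Commute d q) (hd2 : d * d = 1)
    (hnot : ∀ p q : ℤ, Odd p ∨ Odd q → d ∉ zpowers (x ^ p * y ^ q)) :
    ∀ (m : ℕ) (i j : ℤ), i.natAbs + j.natAbs ≤ m → d ∈ zpowers (x ^ i * y ^ j) →
      ∃ p q : ℤ, (Odd p ∨ Odd q) ∧ (x ^ p * y ^ q) * (x ^ p * y ^ q) = 1 := by
  intro m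
  induction m using Nat.strong_induction_on with
  | _ m ih =>
  intro i j hij hmem
  rcases Int.even_or_odd i with ⟨i', rfl⟩ | hi
  swap
  · exact absurd hmem (hnot _ _ (Or.inl hi))
  rcases Int.even_or_odd j with ⟨j', rfl⟩ | hj
  swap
  · exact absurd hmem (hnot _ _ (Or.inr hj))
  set h := x ^ i' * y ^ j' with hh
  have hsq : h * h = x ^ (i' + i') * y ^ (j' + j') * d ^ (i' * j') := by
    calc h * h = x ^ i' * (y ^ j' * x ^ i') * y ^ j' := by rw [hh]; group
      _ = x ^ i' * x ^ i' * y ^ j' * (d ^ (i' * j') * y ^ j') := by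
        rw [zpow_mul_zpow hconj hdc]; group
      _ = _ := by rw [((hdc (y ^ j')).zpow_left _).eq, zpow_add, zpow_add]; group
  have hd2' : ∀ n : ℤ, d ^ n * d ^ n = 1 := fun n => by
    rw [← (Commute.refl d).mul_zpow, hd2, one_zpow]
  by_cases h0 : i' = 0 ∧ j' = 0
  · obtain ⟨rfl, rfl⟩ := h0
    rw [add_zero, zpow_zero, zpow_zero, one_mul, zpowers_one_eq_bot, mem_bot] at hmem
    exact absurd (hmem ▸ one_mem _) (hnot 1 0 (Or.inl odd_one))
  rcases Int.even_or_odd (i' * j') with ⟨n, hn⟩ | hodd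
  · rw [hn, zpow_add d, hd2', mul_one] at hsq
    rw [← hsq] at hmem
    refine ih (i'.natAbs + j'.natAbs) ?_ i' j' le_rfl
      (zpowers_le.2 (mul_mem (mem_zpowers h) (mem_zpowers h)) hmem)
    omega
  · obtain ⟨hi', hj'⟩ := Int.odd_mul.1 hodd
    obtain ⟨n, hn⟩ := hodd
    rw [hn, zpow_add d, two_mul, zpow_add d, hd2', one_mul, zpow_one] at hsq
    obtain ⟨l, hl⟩ := mem_zpowers_iff.1 hmem
    rw [show x ^ (i' + i') * y ^ (j' + j') = h * h * d by
      rw [hsq, mul_assoc, hd2, mul_one], ((hdc (h * h)).symm).mul_zpow] at hl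
    rcases Int.even_or_odd l with ⟨l', rfl⟩ | hlo
    · rw [zpow_add d, hd2', mul_one] at hl
      exact absurd (hl ▸ zpow_mem (mul_mem (mem_zpowers h) (mem_zpowers h)) _)
        (hnot i' j' (Or.inl hi'))
    · obtain ⟨l', rfl⟩ := hlo
      rw [zpow_add d, two_mul, zpow_add d, hd2', one_mul, zpow_one, mul_eq_right] at hl
      refine ⟨i', j', Or.inl hi', ?_⟩
      have h1 := CfsgLib.Invol.MetaTwo.odd_zpow_mem hQ (a := h * h) (odd_two_mul_add_one l')
      rw [two_mul, hl, zpowers_one_eq_bot, mem_bot] at h1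
      exact h1

variable (hG : IsPGroup 2 G) (hm : ¬ Cfsg.IsMetacyclic G)
include hG hm

/-- Any generators `a`, `b` with `b * b ∈ derK` are adapted. -/
theorem exists_gens_of_pair {a b : G} (hgen : closure ({a, b} : Set G) = ⊤)
    (hsq : b * b ∈ derK G) : ∃ d : Gens G, d.a = a ∧ d.b = b := by
  haveI : Fact (Nat.Prime 2) := ⟨Nat.prime_two⟩
  set π := QuotientGroup.mk' (derK G) with hπ
  set d := a⁻¹ * b * a * b⁻¹ with hd
  have hdR : d ∈ commutator G := by
    rw [show d = ⁅a⁻¹, b⁆ by rw [hd, commutatorElement_def]; group]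
    exact commutator_mem_commutator (mem_top _) (mem_top _)
  have hRd := commutator_le_zpowers hgen
  have hnot : ∀ g k : G, closure ({g, k} : Set G) = ⊤ → π d ∉ zpowers (π g) := by
    intro g k hgk hmem
    refine hm (isMetacyclic_of_lift hG hgk (hRd.trans (sup_le (zpowers_le.2 ?_) le_sup_right)))
    obtain ⟨n, hn⟩ := mem_zpowers_iff.1 hmem
    rw [← map_zpow] at hn
    have h1 : (g ^ n)⁻¹ * d ∈ derK G := QuotientGroup.eq.1 hn
    have h2 := mul_mem (mem_sup_left (T := derK G) (zpow_mem (mem_zpowers g) n))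
      (mem_sup_right h1)
    rwa [mul_inv_cancel_left] at h2
  have hdc : ∀ q, Commute (π d) q := mk_comm hdR
  have hd2 : π d * π d = 1 := mk_sq hdR
  have hb2 : π b * π b = 1 := by
    rw [← map_mul]; exact (QuotientGroup.eq_one_iff _).2 hsq
  have hd1 : π d ≠ 1 := fun e => hnot a b hgen (e ▸ one_mem _)
  have hconj : π b * π a * (π b)⁻¹ = π a * π d := by
    rw [← map_inv, ← map_mul, ← map_mul, ← map_mul]
    congr 1
    rw [hd]; group
  have hab : π a * π b ≠ π b * π a := fun e => hd1 (by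
    rw [← e, mul_inv_cancel_right] at hconj
    exact mul_left_cancel (a := π a) (by rw [mul_one, ← hconj]))
  obtain ⟨r, hr⟩ := IsPGroup.iff_orderOf.1 (hG.to_quotient (derK G)) (π a)
  have hr2 : 2 ≤ r := by
    by_contra hlt
    interval_cases r
    · rw [pow_zero, orderOf_eq_one_iff] at hr
      exact hab (by rw [hr, one_mul, mul_one])
    · have ha2 : π a * π a = 1 := by
        rw [← sq, ← show orderOf (π a) = 2 by rw [hr, pow_one], pow_orderOf_eq_one]
      refine hnot (a * b) b (eq_top_iff.2 (hgen.ge.trans <| (closure_le _).2 ?_)) (mem_zpowers_iff.2 ⟨2, ?_⟩)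
      · rintro z (rfl | rfl)
        · have := mul_mem (subset_closure (Set.mem_insert (z * b) {b}))
            (inv_mem (subset_closure (Set.mem_insert_of_mem (z * b) (Set.mem_singleton b))))
          rwa [mul_inv_cancel_right] at this
        · exact subset_closure (Set.mem_insert_of_mem _ (Set.mem_singleton _))
      · have h := zpow_mul_zpow hconj hdc 1 1
        rw [zpow_one, zpow_one, one_mul, zpow_one] at h
        rw [zpow_two, map_mul]
        calc π a * π b * (π a * π b) = π a * (π b * π a) * π b := by group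
          _ = π a * π a * π b * (π d * π b) := by rw [h]; group
          _ = π a * π a * (π b * π b) * π d := by rw [(hdc (π b)).eq]; group
          _ = π d := by rw [ha2, hb2, one_mul, one_mul]
  refine ⟨⟨a, b, r, hr2, hgen, hsq, ?_, fun i j hij => ?_, fun hc => ?_⟩, rfl, rfl⟩
  · refine (QuotientGroup.eq_one_iff _).1 ?_
    show π (a ^ 2 ^ r) = 1
    rw [map_pow, ← hr, pow_orderOf_eq_one]
  · obtain ⟨u, hu, k₀, hk₀, he⟩ : ∃ u ∈ zpowers d, ∃ k₀ ∈ derK G, u * k₀ = a ^ i * b ^ j := by
      have h := hRd hij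
      rw [← SetLike.mem_coe, Subgroup.mul_normal] at h
      exact Set.mem_mul.1 h
    obtain ⟨e, rfl⟩ := mem_zpowers_iff.1 hu
    have hq : π a ^ i * π b ^ j = π d ^ e := by
      rw [← map_zpow, ← map_zpow, ← map_zpow, ← map_mul, ← he, map_mul,
        show π k₀ = 1 from (QuotientGroup.eq_one_iff _).2 hk₀, mul_one]
    have hb2' : π b ^ (2 : ℤ) = 1 := by rw [zpow_two, hb2]
    have hj : (2 : ℤ) ∣ j := by
      by_contra hodd
      obtain ⟨l, rfl⟩ : Odd j := Int.not_even_iff_odd.1 fun h => hodd (even_iff_two_dvd.1 h)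
      rw [zpow_add, zpow_mul, hb2', one_zpow, one_mul, zpow_one] at hq
      have hb : π b = (π a ^ i)⁻¹ * π d ^ e := by rw [← hq, inv_mul_cancel_left]
      exact hab (by
        rw [hb]
        exact ((Commute.zpow_right (Commute.refl (π a)) i).inv_right.mul_right
          ((hdc (π a)).zpow_left e).symm).eq)
    obtain ⟨l, rfl⟩ := hj
    rw [zpow_mul, hb2', one_zpow, mul_one] at hq
    refine ⟨?_, dvd_mul_right 2 l⟩
    have hi : π a ^ i = 1 := by
      rcases Int.even_or_odd e with ⟨n, rfl⟩ | ⟨n, rfl⟩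
      · rw [hq, zpow_add, ← (Commute.refl (π d)).mul_zpow, hd2, one_zpow]
      · exfalso
        refine hnot a b hgen (mem_zpowers_iff.2 ⟨i, ?_⟩)
        rw [hq, zpow_add, two_mul, zpow_add, ← (Commute.refl (π d)).mul_zpow, hd2, one_zpow,
          one_mul, zpow_one]
    have := orderOf_dvd_iff_zpow_eq_one.2 hi
    rwa [hr, Nat.cast_pow, Nat.cast_ofNat] at this
  · refine hab ?_
    have h : π ⁅a, b⁆ = 1 := (QuotientGroup.eq_one_iff _).2 hc
    rwa [map_commutatorElement, commutatorElement_eq_one_iff_mul_comm] at h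

/-- Adapted generators exist. -/
theorem exists_gens (hb : IsBicyclic G) : Nonempty (Gens G) := by
  obtain ⟨x, y, hxy⟩ := hb
  have hgen : closure ({x, y} : Set G) = ⊤ := eq_top_iff.2 fun g _ => by
    obtain ⟨i, j, rfl⟩ := hxy g
    exact mul_mem (zpow_mem (subset_closure (Set.mem_insert x _)) i)
      (zpow_mem (subset_closure (Set.mem_insert_of_mem x (Set.mem_singleton y))) j)
  set π := QuotientGroup.mk' (derK G) with hπ
  set d := x⁻¹ * y * x * y⁻¹ with hd
  have hdR : d ∈ commutator G := by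
    rw [show d = ⁅x⁻¹, y⁆ by rw [hd, commutatorElement_def]; group]
    exact commutator_mem_commutator (mem_top _) (mem_top _)
  have hRd := commutator_le_zpowers hgen
  have hdc : ∀ q, Commute (π d) q := mk_comm hdR
  have hd2 : π d * π d = 1 := mk_sq hdR
  have hconj : π y * π x * (π y)⁻¹ = π x * π d := by
    rw [← map_inv, ← map_mul, ← map_mul, ← map_mul]
    congr 1
    rw [hd]; group
  have hgenof : ∀ p q : ℤ, Odd p → closure ({x ^ p * y ^ q, y} : Set G) = ⊤ := fun p q hp =>
    eq_top_iff.2 (hgen.ge.trans <| (closure_le _).2 (by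
      rintro z (rfl | rfl)
      · have h1 := mul_mem (subset_closure (Set.mem_insert (z ^ p * y ^ q) {y}))
          (inv_mem (zpow_mem (subset_closure (Set.mem_insert_of_mem (z ^ p * y ^ q)
            (Set.mem_singleton y))) q))
        rw [mul_inv_cancel_right] at h1
        exact zpowers_le.2 h1 (CfsgLib.Invol.MetaTwo.odd_zpow_mem hG hp)
      · exact subset_closure (Set.mem_insert_of_mem _ (Set.mem_singleton _))))
  have hgenof' : ∀ p q : ℤ, Odd q → closure ({x ^ p * y ^ q, x} : Set G) = ⊤ := fun p q hq =>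
    eq_top_iff.2 (hgen.ge.trans <| (closure_le _).2 (by
      rintro z (rfl | rfl)
      · exact subset_closure (Set.mem_insert_of_mem _ (Set.mem_singleton _))
      · have h1 := mul_mem (inv_mem (zpow_mem (subset_closure (Set.mem_insert_of_mem (x ^ p * z ^ q)
            (Set.mem_singleton x))) p)) (subset_closure (Set.mem_insert (x ^ p * z ^ q) {x}))
        rw [inv_mul_cancel_left] at h1
        exact zpowers_le.2 h1 (CfsgLib.Invol.MetaTwo.odd_zpow_mem hG hq)))
  have hpair : ∀ p q : ℤ, Odd p ∨ Odd q → ∃ k, closure ({x ^ p * y ^ q, k} : Set G) = ⊤ :=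
    fun p q h => h.elim (fun hp => ⟨y, hgenof p q hp⟩) fun hq => ⟨x, hgenof' p q hq⟩
  have hnot : ∀ p q : ℤ, Odd p ∨ Odd q → π d ∉ zpowers (π x ^ p * π y ^ q) := by
    intro p q hpq hmem
    obtain ⟨k, hk⟩ := hpair p q hpq
    refine hm (isMetacyclic_of_lift hG hk (hRd.trans (sup_le (zpowers_le.2 ?_) le_sup_right)))
    rw [← map_zpow π x, ← map_zpow π y, ← map_mul] at hmem
    obtain ⟨n, hn⟩ := mem_zpowers_iff.1 hmem
    rw [← map_zpow] at hn
    have h1 : ((x ^ p * y ^ q) ^ n)⁻¹ * d ∈ derK G := QuotientGroup.eq.1 hn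
    have h2 := mul_mem (mem_sup_left (T := derK G) (zpow_mem (mem_zpowers (x ^ p * y ^ q)) n))
      (mem_sup_right h1)
    rwa [mul_inv_cancel_left] at h2
  obtain ⟨i, j, hij⟩ := hxy d
  obtain ⟨p, q, hpq, hsq⟩ := exists_square_eq_one (hG.to_quotient (derK G)) hconj hdc hd2 hnot _
    i j le_rfl (by rw [hij, map_mul, map_zpow, map_zpow]; exact mem_zpowers _)
  rw [← map_zpow, ← map_zpow, ← map_mul, ← map_mul] at hsq
  obtain ⟨k, hk⟩ := hpair p q hpq
  rw [Set.pair_comm] at hk
  obtain ⟨D, -, -⟩ := exists_gens_of_pair hG hm hk ((QuotientGroup.eq_one_iff _).1 hsq)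
  exact ⟨D⟩

end CfsgLib.Fusion.Bicyclic
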