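import Cfsg.Agent.Lib.Fusion.System.FamilySatCriterion
import Cfsg.Agent.Lib.Fusion.System.AbelianSupersoluble
import Cfsg.Agent.Lib.Fusion.System.Inner

/-!
# A saturated system generated by a 2-group and one automorphism of order 3

`S` is a finite 2-group, `P` a self-centralizing subgroup with `N_S(P) = P ⟨w⟩` and `w ^ 2 ∈ P`,
and `θ` an automorphism of `P` of order 3 inverted by `w` up to inner automorphisms.  If no proper
self-centralizing subgroup of `P` has a nontrivial automorphism of odd order fixing the central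
`θ`-fixed elements, then `⟨S, θ⟩` is a saturated fusion system which is not inner.
-/

set_option autoImplicit false
set_option linter.style.haveILetI false
set_option linter.unusedSectionVars false

open Subgroup
open scoped Classical

namespace CfsgLib.Fusion.Bicyclic

open Cfsg (FusionSystem autInducedBy)
open Cfsg.FusionSystem (normalizerIn centralizerIn)
open CfsgLib.Fusion.AbelianSupersoluble (univSystem)

variable {Ω : Type*} [Group Ω] {S P : Subgroup Ω}

/-- The data for one automorphism of order 3. -/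
structure Datum (S P : Subgroup Ω) (θ : MulAut P) (w : Ω) : Prop where
  le : P ≤ S
  w_mem : w ∈ S
  w_norm : w ∈ Subgroup.normalizer (P : Set Ω)
  w_out : w ∉ P
  norm_le : ∀ n ∈ normalizerIn S P, n ∈ P ∨ w⁻¹ * n ∈ P
  cent : centralizerIn S P ≤ P
  cube : θ ^ 3 = 1
  ne_one : θ ≠ 1
  inv : ∃ u ∈ P, ∀ x ∈ P, w * autFun θ x * w⁻¹ = u * autFun (θ * θ) (w * x * w⁻¹) * u⁻¹
  small : ∀ Q < P, centralizerIn S Q ≤ Q → ∀ φ : MulAut Q,
    (∀ x ∈ Q, (∀ s ∈ S, Commute s x) → autFun θ x = x → autFun φ x = x) →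
    Odd (orderOf φ) → φ = 1

/-- The maps generated by conjugations and the powers of `θ`. -/
inductive GMap (S : Subgroup Ω) (θ : MulAut P) : Subgroup Ω → (Ω → Ω) → Prop
  | conj (Q : Subgroup Ω) (s : Ω) : Q ≤ S → s ∈ S → GMap S θ Q (fun x => s * x * s⁻¹)
  | theta (Q : Subgroup Ω) (n : ℕ) : Q ≤ P → GMap S θ Q (autFun (θ ^ n))
  | comp (Q R : Subgroup Ω) (f g : Ω → Ω) : GMap S θ Q f → GMap S θ R g →
      (∀ x ∈ Q, f x ∈ R) → GMap S θ Q (g ∘ f)
  | congr (Q : Subgroup Ω) (f g : Ω → Ω) : GMap S θ Q f → (∀ x ∈ Q, g x = f x) → GMap S θ Q g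

variable {θ : MulAut P}

theorem GMap.mono {Q : Subgroup Ω} {f : Ω → Ω} (h : GMap S θ Q f) :
    ∀ {Q' : Subgroup Ω}, Q' ≤ Q → GMap S θ Q' f := by
  induction h with
  | conj Q s hQ hs => exact fun hle => .conj _ s (hle.trans hQ) hs
  | theta Q n hQ => exact fun hle => .theta _ n (hle.trans hQ)
  | comp Q R f g _ hg hf ih _ => exact fun hle => .comp _ R f g (ih hle) hg fun x hx => hf x (hle hx)
  | congr Q f g _ hfg ih => exact fun hle => .congr _ f g (ih hle) fun x hx => hfg x (hle hx)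

theorem isMap_univ_autFun (hP : P ≤ S) (α : MulAut P) : IsMap (univSystem S) P (autFun α) :=
  ⟨P.subtype.comp α.toMonoidHom, ⟨hP, fun _ => hP (SetLike.coe_mem _),
    fun _ _ h => α.injective (Subtype.ext h)⟩, fun x => (autFun_coe α x).symm⟩

theorem GMap.isMap (hP : P ≤ S) {Q : Subgroup Ω} {f : Ω → Ω} (h : GMap S θ Q f) :
    IsMap (univSystem S) Q f ∧ Q ≤ S ∧ ∀ x ∈ Q, f x ∈ S := by
  suffices hm : IsMap (univSystem S) Q f from ⟨hm, hm.le, fun x hx => hm.mem_S hx⟩
  induction h with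
  | conj Q s hQ hs => exact isMap_conj hQ hs
  | theta Q n hQ => exact (isMap_univ_autFun hP _).mono hQ
  | comp Q R f g _ _ hf ih ih' => exact ih.comp ih' hf
  | congr Q f g _ hfg ih => exact ih.congr hfg

theorem GMap.exists_inverse (hP : P ≤ S) (hθ : θ ^ 3 = 1) {Q : Subgroup Ω} {f : Ω → Ω}
    (h : GMap S θ Q f) : ∃ f', GMap S θ (img Q f) f' ∧ ∀ x ∈ Q, f' (f x) = x := by
  induction h with
  | conj Q s hQ hs =>
    refine ⟨fun x => s⁻¹ * x * s⁻¹⁻¹, .conj _ _ ?_ (inv_mem hs), fun x _ => by group⟩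
    exact (isMap_conj (F := univSystem S) hQ hs).img_le
  | theta Q n hQ =>
    refine ⟨autFun (θ ^ (2 * n)), .theta _ _
      (((isMap_univ_autFun hP _).mono hQ).img_le_of_forall fun x hx => autFun_mem _ (hQ hx)),
      fun x hx => ?_⟩
    rw [← autFun_mul _ _ (hQ hx), ← pow_add, show 2 * n + n = 3 * n by ring, pow_mul, hθ, one_pow,
      autFun_one (hQ hx)]
  | comp Q R f g hfG hgG hf ih ih' =>
    obtain ⟨f', hf', hff⟩ := ih
    obtain ⟨g', hg', hgg⟩ := ih'
    have hm := (hfG.isMap hP).1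
    have hgm := (hgG.isMap hP).1
    have hle : img Q (g ∘ f) ≤ img R g := by
      rw [← img_img hm]
      exact hgm.img_mono (hm.img_le_of_forall hf)
    refine ⟨f' ∘ g', .comp _ _ _ _ (hg'.mono hle) hf' fun y hy => ?_, fun x hx => ?_⟩
    · obtain ⟨x, hx, rfl⟩ := (hm.comp hgm hf).mem_img.1 hy
      show g' (g (f x)) ∈ _
      rw [hgg _ (hf x hx)]
      exact hm.mem_img.2 ⟨x, hx, rfl⟩
    · show f' (g' (g (f x))) = x
      rw [hgg _ (hf x hx), hff x hx]
  | congr Q f g _ hfg ih =>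
    obtain ⟨f', hf', hff⟩ := ih
    exact ⟨f', by rwa [IsMap.img_congr hfg], fun x hx => by rw [hfg x hx]; exact hff x hx⟩

/-- The generated system. -/
noncomputable def gSys (hP : P ≤ S) (hθ : θ ^ 3 = 1) : FusionSystem S :=
  mkSystem (univSystem S) S (GMap S θ) (fun _ _ h => h.isMap hP)
    (fun Q f g h hfg => .congr Q f g h hfg) (fun Q t hQ ht => .conj Q t hQ ht)
    (fun Q R f g hf hg h => .comp Q R f g hf hg h) (fun Q f f' h _ hff => by
      obtain ⟨f'', h'', hff''⟩ := h.exists_inverse hP hθ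
      refine .congr _ _ _ h'' fun y hy => ?_
      obtain ⟨x, hx, rfl⟩ := (h.isMap hP).1.mem_img.1 hy
      rw [hff x hx, hff'' x hx])

theorem isMap_gSys_iff (hP : P ≤ S) (hθ : θ ^ 3 = 1) {Q : Subgroup Ω} {f : Ω → Ω} :
    IsMap (gSys hP hθ) Q f ↔ GMap S θ Q f := isMap_mkSystem_iff _

/-- Conjugation by an element of `P` moved past an automorphism. -/
theorem conj_mul_aut (p : P) (α : MulAut P) :
    MulAut.conj p * α = α * MulAut.conj (α⁻¹ p) := MulEquiv.ext fun x => by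
  simp [MulAut.mul_apply, MulAut.conj_apply]

theorem conj_mem_autInducedBy (hP : P ≤ S) (p : P) : MulAut.conj p ∈ autInducedBy S P :=
  mem_autInducedBy_iff.2 ⟨p, hP p.2, fun x hx => by
    rw [autFun_apply _ hx, MulAut.conj_apply]; rfl⟩

section Main

variable {w : Ω} (D : Datum S P θ w)
include D

theorem Datum.mixed (k : ℕ) : ∃ q : P,
    conjAut w D.w_norm * θ ^ k = θ ^ (2 * k) * MulAut.conj q * conjAut w D.w_norm := by
  obtain ⟨u, hu, hux⟩ := D.inv
  set cw := conjAut w D.w_norm with hcw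
  have h1 : cw * θ = MulAut.conj ⟨u, hu⟩ * θ ^ 2 * cw := autFun_ext fun x hx => by
    rw [autFun_mul _ _ hx, hcw, autFun_conjAut _ (autFun_mem _ hx), hux x hx, autFun_mul _ _ hx,
      autFun_mul _ _ (autFun_mem _ hx), autFun_conjAut _ hx,
      autFun_apply (MulAut.conj _) (autFun_mem _ ((Subgroup.mem_normalizer_iff.1 D.w_norm x).1 hx)),
      MulAut.conj_apply, sq]
    rfl
  induction k with
  | zero => exact ⟨1, by simp⟩
  | succ k ih =>
    obtain ⟨q, hq⟩ := ih
    refine ⟨(θ ^ 2)⁻¹ (q * ⟨u, hu⟩), ?_⟩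
    calc cw * θ ^ (k + 1) = cw * θ ^ k * θ := by rw [pow_succ, mul_assoc]
      _ = θ ^ (2 * k) * MulAut.conj q * (cw * θ) := by rw [hq, mul_assoc]
      _ = θ ^ (2 * k) * (MulAut.conj (q * ⟨u, hu⟩) * θ ^ 2) * cw := by
        rw [h1, map_mul]; simp only [mul_assoc]
      _ = _ := by
        rw [conj_mul_aut, ← mul_assoc, ← pow_add, show 2 * k + 2 = 2 * (k + 1) by ring]

/-- An induced automorphism is inner, or inner times the one induced by `w`. -/
theorem Datum.autInducedBy_cases {t : MulAut P} (ht : t ∈ autInducedBy S P) :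
    ∃ p : P, t = MulAut.conj p ∨ t = conjAut w D.w_norm * MulAut.conj p := by
  obtain ⟨g, hg, hgx⟩ := mem_autInducedBy_iff.1 ht
  rcases D.norm_le g ⟨hg, mem_normalizer_of_autFun hgx⟩ with h | h
  · exact ⟨⟨g, h⟩, Or.inl (autFun_ext fun x hx => by
      rw [hgx x hx, autFun_apply _ hx, MulAut.conj_apply]; rfl)⟩
  · refine ⟨⟨_, h⟩, Or.inr (autFun_ext fun x hx => ?_)⟩
    rw [hgx x hx, autFun_mul _ _ hx, autFun_conjAut _ (autFun_mem _ hx),
      autFun_apply (MulAut.conj _) hx, MulAut.conj_apply]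
    show _ = w * (w⁻¹ * g * x * (w⁻¹ * g)⁻¹) * w⁻¹
    group

theorem Datum.swap {t : MulAut P} (ht : t ∈ autInducedBy S P) (k : ℕ) :
    ∃ j : ℕ, ∃ t' ∈ autInducedBy S P, t * θ ^ k = θ ^ j * t' := by
  obtain ⟨p, rfl | rfl⟩ := D.autInducedBy_cases ht
  · exact ⟨k, _, conj_mem_autInducedBy D.le _, conj_mul_aut p _⟩
  · obtain ⟨q, hq⟩ := D.mixed k
    refine ⟨2 * k, _, mul_mem (mul_mem (conj_mem_autInducedBy D.le q)
      (conjAut_mem D.w_mem D.w_norm)) (conj_mem_autInducedBy D.le ((θ ^ k)⁻¹ p)), ?_⟩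
    rw [mul_assoc, conj_mul_aut, ← mul_assoc, hq]
    simp only [mul_assoc]

/-- The automizer of `P` in the generated system. -/
def Datum.autA : Subgroup (MulAut P) where
  carrier := {a | ∃ i : ℕ, ∃ t ∈ autInducedBy S P, a = θ ^ i * t}
  one_mem' := ⟨0, 1, one_mem _, by simp⟩
  mul_mem' := by
    rintro _ _ ⟨i, t, ht, rfl⟩ ⟨k, t', ht', rfl⟩
    obtain ⟨j, t'', ht'', he⟩ := D.swap ht k
    refine ⟨i + j, t'' * t', mul_mem ht'' ht', ?_⟩
    rw [pow_add, mul_assoc (θ ^ i) t, ← mul_assoc t, he]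
    simp only [mul_assoc]
  inv_mem' := by
    rintro _ ⟨i, t, ht, rfl⟩
    obtain ⟨j, t', ht', he⟩ := D.swap (inv_mem ht) (2 * i)
    refine ⟨j, t', ht', ?_⟩
    rw [← he, mul_inv_rev, inv_eq_of_mul_eq_one_right (show θ ^ i * θ ^ (2 * i) = 1 by
      rw [← pow_add, show i + 2 * i = 3 * i by ring, pow_mul, D.cube, one_pow])]

theorem Datum.le_autA : autInducedBy S P ≤ D.autA := fun t ht => ⟨0, t, ht, by simp⟩

theorem Datum.theta_mem_autA (n : ℕ) : θ ^ n ∈ D.autA := ⟨n, 1, one_mem _, by simp⟩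

theorem Datum.eq_one_of_mem (hS : IsPGroup 2 S) {i : ℕ} (h : θ ^ i ∈ autInducedBy S P) :
    θ ^ i = 1 := by
  obtain ⟨k, hk⟩ := isPGroup_autInducedBy (P := P) hS ⟨_, h⟩
  have h2 : (θ ^ i) ^ 2 ^ k = 1 := congrArg Subtype.val hk
  have h3 : (θ ^ i) ^ 3 = 1 := by rw [← pow_mul, mul_comm, pow_mul, D.cube, one_pow]
  exact orderOf_eq_one_iff.1 (Nat.eq_one_of_dvd_coprimes
    (Nat.Coprime.pow_left k (by norm_num : Nat.Coprime 2 3))
    (orderOf_dvd_of_pow_eq_one h2) (orderOf_dvd_of_pow_eq_one h3))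

/-- On a subgroup conjugate to `P` every map is an element of the automizer up to conjugation. -/
theorem Datum.key [Finite S] {Q : Subgroup Ω} {f : Ω → Ω} (h : GMap S θ Q f) :
    ∀ s ∈ S, conjBy s P ≤ Q →
      ∃ s' ∈ S, ∃ a ∈ D.autA, ∀ x ∈ P, f (s * x * s⁻¹) = s' * autFun a x * s'⁻¹ := by
  induction h with
  | conj Q r hQ hr =>
    intro s hs _
    exact ⟨r * s, mul_mem hr hs, 1, one_mem _, fun x hx => by rw [autFun_one hx]; group⟩
  | theta Q n hQ =>
    intro s hs hle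
    have hn : s ∈ Subgroup.normalizer (P : Set Ω) :=
      conjBy_eq_iff.1 (eq_of_le_of_card_le D.le (hle.trans hQ) (card_conjBy s P).ge)
    refine ⟨1, one_mem S, θ ^ n * conjAut s hn,
      mul_mem (D.theta_mem_autA n) (D.le_autA (conjAut_mem hs hn)), fun x hx => ?_⟩
    rw [autFun_mul _ _ hx, autFun_conjAut _ hx]
    simp
  | comp Q R f g hfG _ hf ih ih' =>
    intro s hs hle
    obtain ⟨s₁, hs₁, a₁, ha₁, h₁⟩ := ih s hs hle
    have hR : conjBy s₁ P ≤ R := conjBy_le_iff.2 fun x hx => by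
      have e := h₁ _ (autFun_mem a₁⁻¹ hx)
      rw [← autFun_mul _ _ hx, mul_inv_cancel, autFun_one hx] at e
      rw [← e]
      exact hf _ (hle (conj_mem_conjBy (autFun_mem _ hx)))
    obtain ⟨s₂, hs₂, a₂, ha₂, h₂⟩ := ih' s₁ hs₁ hR
    refine ⟨s₂, hs₂, a₂ * a₁, mul_mem ha₂ ha₁, fun x hx => ?_⟩
    rw [Function.comp_apply, h₁ x hx, h₂ _ (autFun_mem a₁ hx), autFun_mul _ _ hx]
  | congr Q f g _ hfg ih =>
    intro s hs hle
    obtain ⟨s₁, hs₁, a₁, ha₁, h₁⟩ := ih s hs hle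
    exact ⟨s₁, hs₁, a₁, ha₁, fun x hx => by rw [hfg _ (hle (conj_mem_conjBy hx))]; exact h₁ x hx⟩

/-- A map on a subgroup not conjugate into `P` is a conjugation. -/
theorem Datum.pure {Q : Subgroup Ω} {f : Ω → Ω} (h : GMap S θ Q f) :
    ∀ Q' ≤ Q, (∀ s ∈ S, ¬ conjBy s Q' ≤ P) →
      ∃ s ∈ S, ∀ x ∈ Q', f x = s * x * s⁻¹ := by
  induction h with
  | conj Q r hQ hr => exact fun _ _ _ => ⟨r, hr, fun _ _ => rfl⟩
  | theta Q n hQ =>
    intro Q' hle hno
    exact absurd ((conjBy_one Q').le.trans (hle.trans hQ)) (hno 1 (one_mem S))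
  | comp Q R f g _ _ hf ih ih' =>
    intro Q' hle hno
    obtain ⟨s₁, hs₁, h₁⟩ := ih Q' hle hno
    obtain ⟨s₂, hs₂, h₂⟩ := ih' (conjBy s₁ Q')
      (conjBy_le_iff.2 fun x hx => by rw [← h₁ x hx]; exact hf x (hle hx))
      fun s hs hle' => hno (s * s₁) (mul_mem hs hs₁) (by rwa [← conjBy_conjBy])
    refine ⟨s₂ * s₁, mul_mem hs₂ hs₁, fun x hx => ?_⟩
    rw [Function.comp_apply, h₁ x hx, h₂ _ (conj_mem_conjBy hx)]
    group
  | congr Q f g _ hfg ih =>
    intro Q' hle hno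
    obtain ⟨s, hs, h⟩ := ih Q' hle hno
    exact ⟨s, hs, fun x hx => by rw [hfg x (hle hx)]; exact h x hx⟩

theorem Datum.fixed {Q : Subgroup Ω} {f : Ω → Ω} (h : GMap S θ Q f) {x : Ω}
    (hc : ∀ s ∈ S, Commute s x) (hθx : autFun θ x = x) : x ∈ Q → x ∈ P → f x = x := by
  induction h with
  | conj Q r hQ hr =>
    intro _ _
    show r * x * r⁻¹ = x
    rw [(hc r hr).eq, mul_inv_cancel_right]
  | theta Q n hQ =>
    intro _ hxP
    induction n with
    | zero => rw [pow_zero, autFun_one hxP]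
    | succ n ih => rw [pow_succ, autFun_mul _ _ hxP, hθx, ih]
  | comp Q R f g _ _ hf ih ih' =>
    intro hxQ hxP
    have hR := hf x hxQ
    rw [Function.comp_apply, ih hxQ hxP] at *
    exact ih' hR hxP
  | congr Q f g _ hfg ih =>
    intro hxQ hxP
    rw [hfg x hxQ]
    exact ih hxQ hxP

local notation "𝐅" => gSys D.le D.cube

theorem Datum.isMap_theta (n : ℕ) : IsMap 𝐅 P (autFun (θ ^ n)) :=
  (isMap_gSys_iff _ _).2 (.theta P n le_rfl)

theorem Datum.autGroup_eq [Finite S] : FusionSystem.autGroup 𝐅 P = D.autA := by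
  refine le_antisymm (fun a ha => ?_) ?_
  · obtain ⟨s', hs', b, hb, he⟩ := D.key ((isMap_gSys_iff _ _).1 ((mem_autGroup_iff D.le).1 ha))
      1 (one_mem S) (conjBy_one P).le
    simp only [one_mul, inv_one, mul_one] at he
    have hn : s' ∈ Subgroup.normalizer (P : Set Ω) := mem_normalizer_of_autFun (α := a * b⁻¹)
      fun x hx => by
        rw [autFun_mul _ _ hx, he _ (autFun_mem _ hx), ← autFun_mul _ _ hx, mul_inv_cancel,
          autFun_one hx]
    rw [show a = conjAut s' hn * b from autFun_ext fun x hx => by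
      rw [autFun_mul _ _ hx, autFun_conjAut _ (autFun_mem _ hx), he x hx]]
    exact mul_mem (D.le_autA (conjAut_mem hs' hn)) hb
  · rintro _ ⟨i, t, ht, rfl⟩
    exact mul_mem ((mem_autGroup_iff D.le).2 (D.isMap_theta i)) (autInducedBy_le_autGroup D.le ht)

theorem Datum.not_two_dvd [Finite S] (hS : IsPGroup 2 S) :
    ¬ 2 ∣ (autInducedBy S P).relIndex D.autA := by
  haveI := finite_of_le D.le
  haveI := finite_mulAut (P := P)
  set U := (autInducedBy S P).subgroupOf D.autA with hU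
  show ¬ 2 ∣ U.index
  have hsurj : Function.Surjective fun i : Fin 3 =>
      ((⟨θ ^ (i : ℕ), D.theta_mem_autA _⟩ : D.autA) : D.autA ⧸ U) := by
    intro q
    obtain ⟨⟨_, i, t, ht, rfl⟩, rfl⟩ := QuotientGroup.mk_surjective q
    refine ⟨⟨i % 3, Nat.mod_lt _ (by norm_num)⟩, QuotientGroup.eq.2 (mem_subgroupOf.2 ?_)⟩
    show (θ ^ (i % 3))⁻¹ * (θ ^ i * t) ∈ _
    rw [show θ ^ (i % 3) = θ ^ i by
      conv_rhs => rw [← Nat.mod_add_div i 3, pow_add, pow_mul, D.cube, one_pow, mul_one],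
      inv_mul_cancel_left]
    exact ht
  have hle : U.index ≤ 3 := by
    rw [Subgroup.index_eq_card]
    exact (Nat.card_le_card_of_surjective _ hsurj).trans (by simp)
  have h0 : U.index ≠ 0 := Subgroup.index_ne_zero_of_finite
  have h2 : U.index ≠ 2 := fun h => D.ne_one (by
    have h1 : θ ^ 2 = 1 := D.eq_one_of_mem hS (by
      have := Subgroup.mul_self_mem_of_index_two h (⟨θ ^ 1, D.theta_mem_autA 1⟩ : D.autA)
      simp only [mem_subgroupOf, Subgroup.coe_mul, pow_one] at this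
      rwa [sq])
    have h3 := D.cube
    rwa [pow_succ, h1, one_mul] at h3)
  omega

theorem Datum.receptive [Finite S] (hS : IsPGroup 2 S) : FusionSystem.IsReceptive 𝐅 P := by
  refine isReceptive_iff.2 ⟨D.le, fun R f hf hfi => ?_⟩
  have hfG := (isMap_gSys_iff _ _).1 hf
  obtain ⟨f', hf', hff, hf'P⟩ := hf.exists_inv
  rw [hfi] at hf' hf'P
  obtain ⟨s, hs, b, hb, he⟩ := D.key ((isMap_gSys_iff _ _).1 hf') 1 (one_mem S) (conjBy_one P).le
  simp only [one_mul, inv_one, mul_one] at he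
  -- `f` is `b⁻¹` after conjugation by `s⁻¹`
  have hRs : R = conjBy s P := by
    ext y
    rw [mem_conjBy]
    constructor
    · intro hy
      have hfy : f y ∈ P := hfi.le (hf.mem_img.2 ⟨y, hy, rfl⟩)
      rw [← hff y hy, he _ hfy, show s⁻¹ * (s * autFun b (f y) * s⁻¹) * s = autFun b (f y) by group]
      exact autFun_mem _ hfy
    · intro hy
      have h1 := (hf'P _ (autFun_mem b⁻¹ hy)).1
      rwa [he _ (autFun_mem b⁻¹ hy), ← autFun_mul _ _ hy, mul_inv_cancel, autFun_one hy,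
        show s * (s⁻¹ * y * s) * s⁻¹ = y by group] at h1
  have hfb : ∀ x ∈ P, f (s * x * s⁻¹) = autFun b⁻¹ x := fun x hx => by
    have h1 := (hf'P _ (autFun_mem b⁻¹ hx)).2
    rwa [he _ (autFun_mem b⁻¹ hx), ← autFun_mul _ _ hx, mul_inv_cancel, autFun_one hx] at h1
  by_cases hbT : b ∈ autInducedBy S P
  · obtain ⟨n, hn, hnx⟩ := mem_autInducedBy_iff.1 (inv_mem hbT)
    refine ⟨fun x => n * s⁻¹ * x * (n * s⁻¹)⁻¹,
      isMap_conj (extSub_le.trans inf_le_left) (mul_mem hn (inv_mem hs)), fun x hx => ?_⟩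
    have hx' : s⁻¹ * x * s ∈ P := mem_conjBy.1 (hRs ▸ hx)
    have h1 := hfb _ hx'
    rw [show s * (s⁻¹ * x * s) * s⁻¹ = x by group, hnx _ hx'] at h1
    rw [h1]
    group
  · refine ⟨f, hf.mono fun g hg => ?_, fun _ _ => rfl⟩
    obtain ⟨⟨hgS, hgN⟩, h, hh, hhx⟩ := mem_extSub.1 hg
    have hmN : s⁻¹ * g * s ∈ Subgroup.normalizer (P : Set Ω) := by
      replace hgN : g ∈ Subgroup.normalizer (R : Set Ω) := hgN
      rw [← conjBy_eq_iff] at hgN ⊢
      rw [← conjBy_conjBy, ← conjBy_conjBy, ← hRs, hgN, hRs, conjBy_conjBy, inv_mul_cancel,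
        conjBy_one]
    by_contra hgR
    refine hbT ?_
    obtain ⟨i, t, ht, hbt⟩ := inv_mem hb
    obtain ⟨n, hnS, hnx⟩ := mem_autInducedBy_iff.1 ht
    have hnN := mem_normalizer_of_autFun hnx
    set m := s⁻¹ * g * s with hm
    have hmS : m ∈ S := mul_mem (mul_mem (inv_mem hs) hgS) hs
    -- `θ ^ i` conjugates the action of `n m n⁻¹` to one induced by `S`
    set m' := n * m * n⁻¹ with hm'
    have hm'S : m' ∈ S := mul_mem (mul_mem hnS hmS) (inv_mem hnS)
    have hm'N : m' ∈ Subgroup.normalizer (P : Set Ω) := mul_mem (mul_mem hnN hmN) (inv_mem hnN)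
    have hm'P : m' ∉ P := fun hp => hgR (by
      rw [hRs, mem_conjBy]
      exact (Subgroup.mem_normalizer_iff.1 hnN _).2 hp)
    have hbx : ∀ x ∈ P, autFun b⁻¹ (m * x * m⁻¹) = h * autFun b⁻¹ x * h⁻¹ := fun x hx => by
      have h1 := hhx _ (hRs.ge (conj_mem_conjBy hx))
      rw [show g * (s * x * s⁻¹) * g⁻¹ = s * (m * x * m⁻¹) * s⁻¹ by rw [hm]; group,
        hfb _ ((Subgroup.mem_normalizer_iff.1 hmN x).1 hx), hfb x hx] at h1
      exact h1
    have hτ : θ ^ i * conjAut m' hm'N * (θ ^ i)⁻¹ ∈ autInducedBy S P := by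
      refine mem_autInducedBy_iff.2 ⟨h, hh, fun x hx => ?_⟩
      have h1 := hbx _ (autFun_mem b hx)
      rw [← autFun_mul _ _ hx, inv_mul_cancel, autFun_one hx] at h1
      rw [← h1, hbt]
      have e : (b : MulAut P) = t⁻¹ * (θ ^ i)⁻¹ := by
        rw [← inv_inv b, hbt, mul_inv_rev]
      rw [autFun_mul _ _ hx, autFun_mul _ _ (autFun_mem _ hx), autFun_conjAut _ (autFun_mem _ hx),
        e, autFun_mul _ _ ((Subgroup.mem_normalizer_iff.1 hmN _).1 (autFun_mem _ hx)),
        autFun_mul t⁻¹ _ hx, hnx _ ((Subgroup.mem_normalizer_iff.1 hmN _).1 (autFun_mem _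
          (autFun_mem _ hx)))]
      congr 1
      have h2 := hnx _ (autFun_mem t⁻¹ (autFun_mem (θ ^ i)⁻¹ hx))
      rw [← autFun_mul _ _ (autFun_mem _ hx), mul_inv_cancel, autFun_one (autFun_mem _ hx)] at h2
      generalize autFun t⁻¹ (autFun (θ ^ i)⁻¹ x) = X at h2 ⊢
      rw [hm', h2]
      group
    obtain ⟨p, hp | hp⟩ := D.autInducedBy_cases (conjAut_mem hm'S hm'N)
    · refine absurd ?_ hm'P
      have h1 : (p : Ω)⁻¹ * m' ∈ centralizerIn S P := ⟨Subgroup.mul_mem S (Subgroup.inv_mem S (D.le p.2)) hm'S,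
        Subgroup.mem_centralizer_iff.2 fun x hx => by
          have h2 := congrArg (autFun · x) hp
          simp only [autFun_conjAut _ hx, autFun_apply (MulAut.conj p) hx, MulAut.conj_apply,
            Subgroup.coe_mul, Subgroup.coe_inv] at h2
          calc x * ((p : Ω)⁻¹ * m') = (p : Ω)⁻¹ * ((p : Ω) * x * (p : Ω)⁻¹) * m' := by group
            _ = _ := by rw [← h2]; group⟩
      have := mul_mem p.2 (D.cent h1)
      rwa [mul_inv_cancel_left] at this
    · rw [hp] at hτ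
      obtain ⟨q, hq⟩ := D.mixed (2 * i)
      have e1 : θ ^ i * (conjAut w D.w_norm * MulAut.conj p) * (θ ^ i)⁻¹ =
          θ ^ (2 * i) * (MulAut.conj q * conjAut w D.w_norm * MulAut.conj ((θ ^ (2 * i))⁻¹ p)) := by
        rw [inv_eq_of_mul_eq_one_right (show θ ^ i * θ ^ (2 * i) = 1 by
          rw [← pow_add, show i + 2 * i = 3 * i by ring, pow_mul, D.cube, one_pow]),
          mul_assoc (θ ^ i), mul_assoc (conjAut _ _), conj_mul_aut, ← mul_assoc (conjAut _ _), hq,
          show θ ^ i = θ ^ i * 1 from (mul_one _).symm]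
        simp only [← mul_assoc, mul_one, ← pow_add]
        rw [show i + 2 * 2 * i = 2 * i + 3 * i by ring, pow_add, pow_mul θ 3, D.cube, one_pow,
          mul_one]
      rw [e1] at hτ
      have h2i : θ ^ (2 * i) = 1 := D.eq_one_of_mem hS
        ((mul_mem_cancel_right (mul_mem (mul_mem (conj_mem_autInducedBy D.le q)
          (conjAut_mem D.w_mem D.w_norm)) (conj_mem_autInducedBy D.le _))).1 hτ)
      have hi : θ ^ i = 1 := by
        have h3 : θ ^ (i + 2 * i) = 1 := by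
          rw [show i + 2 * i = 3 * i by ring, pow_mul, D.cube, one_pow]
        rwa [pow_add, h2i, mul_one] at h3
      rw [hi, one_mul] at hbt
      rw [← inv_inv b, hbt]
      exact inv_mem ht

theorem Datum.not_le {s : Ω} (hs : s ∈ S) : ¬ conjBy s S ≤ P := fun h =>
  D.w_out (h (mem_conjBy.2 (mul_mem (mul_mem (inv_mem hs) D.w_mem) hs)))

theorem Datum.satTop [Finite S] (hS : IsPGroup 2 S) : FamilySat.SatAt 𝐅 2 S := by
  haveI : Fact (Nat.Prime 2) := ⟨Nat.prime_two⟩
  have hno : ∀ s ∈ S, ¬ conjBy s S ≤ P := fun s hs => D.not_le hs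
  refine ⟨S, isConj_refl le_rfl, (isFullyAutomized_iff hS).2 ⟨le_rfl, ?_⟩,
    isReceptive_iff.2 ⟨le_rfl, fun R f hf hfi => ?_⟩⟩
  · have h : FusionSystem.autGroup 𝐅 S = autInducedBy S S := by
      refine le_antisymm (fun a ha => ?_) (autInducedBy_le_autGroup le_rfl)
      obtain ⟨s, hs, h⟩ := D.pure ((isMap_gSys_iff _ _).1 ((mem_autGroup_iff le_rfl).1 ha)) S le_rfl hno
      exact mem_autInducedBy_iff.2 ⟨s, hs, h⟩
    rw [h, Subgroup.relIndex_self]
    norm_num
  · have hR : R = S := eq_of_le_of_card_le le_rfl hf.le (by rw [← hf.card_img, hfi])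
    subst hR
    obtain ⟨s, hs, h⟩ := D.pure ((isMap_gSys_iff _ _).1 hf) R le_rfl hno
    exact ⟨fun x => s * x * s⁻¹, isMap_conj (extSub_le.trans inf_le_left) hs,
      fun x hx => (h x hx).symm⟩

theorem Datum.isSaturated [Finite S] (hS : IsPGroup 2 S) : FusionSystem.IsSaturated 𝐅 2 := by
  haveI : Fact (Nat.Prime 2) := ⟨Nat.prime_two⟩
  set F := gSys D.le D.cube with hF
  have hcls : ∀ {Q : Subgroup Ω}, F.IsConj P Q → ∃ s ∈ S, Q = conjBy s P := fun {Q} hQ => by
    obtain ⟨f, hf, rfl⟩ := isConj_iff.1 hQ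
    obtain ⟨s, hs, a, ha, he⟩ := D.key ((isMap_gSys_iff _ _).1 hf) 1 (one_mem S) (conjBy_one P).le
    simp only [one_mul, inv_one, mul_one] at he
    refine ⟨s, hs, eq_of_le_of_card_le ((isMap_conj (F := F) D.le hs).img_le.trans' (img_conj P s).ge)
      (fun y hy => ?_) (by rw [card_conjBy, hf.card_img])⟩
    obtain ⟨x, hx, rfl⟩ := hf.mem_img.1 hy
    rw [he x hx]
    exact conj_mem_conjBy (autFun_mem a hx)
  have hc : ∀ s ∈ S, F.IsConj P (conjBy s P) := fun s hs =>
    isConj_iff.2 ⟨_, isMap_conj D.le hs, img_conj P s⟩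
  refine FamilySat.isSaturated_of_family hS (ℋ := {R | R = S ∨ ∃ s ∈ S, R = conjBy s P})
    ?_ ?_ ?_ ?_
  · rintro R (rfl | ⟨s, hs, rfl⟩) R' hRR'
    · exact Or.inl (eq_of_le_of_card_le le_rfl (isConj_le hRR').2 (isConj_card hRR').ge)
    · exact Or.inr (hcls (isConj_trans (hc s hs) hRR'))
  · rintro R (rfl | ⟨s, hs, rfl⟩)
    · exact D.satTop hS
    · refine ⟨P, isConj_symm (hc s hs), (isFullyAutomized_iff hS).2 ⟨D.le, ?_⟩, D.receptive hS⟩
      rw [hF, D.autGroup_eq]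
      exact D.not_two_dvd hS
  · intro E hE
    refine le_of_isMap fun Q f hf => ?_
    have hθn : ∀ n, IsMap E P (autFun (θ ^ n)) := fun n => by
      obtain ⟨φ, hφ, hφf⟩ := D.isMap_theta n
      exact ⟨φ, hE P (Or.inr ⟨1, one_mem S, (conjBy_one P).symm⟩) hφ, hφf⟩
    have hG := (isMap_gSys_iff _ _).1 hf
    clear hf
    induction hG with
    | conj Q s hQ hs => exact isMap_conj hQ hs
    | theta Q n hQ => exact (hθn n).mono hQ
    | comp Q R f g _ _ hfR ih ih' => exact ih.comp ih' hfR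
    | congr Q f g _ hfg ih => exact ih.congr hfg
  · intro Q hQ hQH
    have hQne : ∀ R, F.IsConj Q R → R ≠ S := fun R hR e => hQH (Or.inl
      (eq_of_le_of_card_le le_rfl hQ (by rw [← isConj_card hR, e])))
    by_cases hcen : ∃ R, F.IsConj Q R ∧ ¬ centralizerIn S R ≤ R
    · obtain ⟨R, hR, hno⟩ := hcen
      obtain ⟨n, hn, hnR⟩ := SetLike.not_le_iff_exists.1 hno
      refine ⟨R, hR, n, ⟨⟨hn.1, Subgroup.centralizer_le_normalizer _ hn.2⟩, 1, one_mem _,
        fun x hx => ?_⟩, hnR⟩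
      rw [autFun_one hx, ← Subgroup.mem_centralizer_iff.1 hn.2 x hx, mul_inv_cancel_right]
    · simp only [not_exists, not_and, not_not] at hcen
      obtain ⟨R, hR, hp⟩ : ∃ R, F.IsConj Q R ∧ IsPGroup 2 (F.autGroup R) := by
        by_cases hin : ∃ s ∈ S, conjBy s Q ≤ P
        · obtain ⟨s, hs, hle⟩ := hin
          have hR : F.IsConj Q (conjBy s Q) := isConj_iff.2 ⟨_, isMap_conj hQ hs, img_conj Q s⟩
          refine ⟨_, hR, ?_⟩
          have hlt : conjBy s Q < P := lt_of_le_of_ne hle fun e => hQH (Or.inr ⟨s⁻¹, inv_mem hs,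
            by rw [← e, conjBy_conjBy, inv_mul_cancel, conjBy_one]⟩)
          set R := conjBy s Q
          haveI := finite_of_le (hle.trans D.le)
          haveI := finite_mulAut (P := R)
          rw [IsPGroup.iff_orderOf]
          intro g
          obtain ⟨k, m, hm, hkm⟩ :=
            Nat.exists_eq_pow_mul_and_not_dvd (orderOf_pos g).ne' 2 (by norm_num)
          refine ⟨k, ?_⟩
          rw [← Subgroup.orderOf_coe] at hkm ⊢
          set ψ := (g : MulAut R) ^ 2 ^ k with hψ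
          have hψo : orderOf ψ = m := by
            rw [hψ, orderOf_pow, hkm, Nat.gcd_mul_right_left, Nat.mul_div_cancel_left _ (by positivity)]
          have h1 : ψ = 1 := by
            refine D.small R hlt (hcen R hR) ψ (fun x hx hxc hxθ => ?_)
              (hψo ▸ Nat.not_even_iff_odd.1 fun he => hm he.two_dvd)
            exact D.fixed ((isMap_gSys_iff _ _).1 ((mem_autGroup_iff (hle.trans D.le)).1
              (pow_mem g.2 _))) hxc hxθ hx (hle hx)
          rw [hkm, ← hψo, h1, orderOf_one, mul_one]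
        · simp only [not_exists, not_and] at hin
          refine ⟨Q, isConj_refl hQ, (isPGroup_autInducedBy hS).to_le fun a ha => ?_⟩
          obtain ⟨s, hs, h⟩ := D.pure ((isMap_gSys_iff _ _).1 ((mem_autGroup_iff hQ).1 ha)) Q
            le_rfl hin
          exact mem_autInducedBy_iff.2 ⟨s, hs, h⟩
      have hRS := (isConj_le hR).2
      obtain ⟨-, n, hn, hnR⟩ := SetLike.lt_iff_le_and_exists.1 (lt_normalizerIn hS hRS (hQne R hR))
      haveI := finite_of_le hRS
      haveI := finite_mulAut (P := R)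
      refine ⟨R, hR, n, ⟨hn, conjAut n hn.2, ⟨⟨_, autInducedBy_le_autGroup hRS
        (conjAut_mem hn.1 hn.2)⟩, ?_, rfl⟩, fun x hx => autFun_conjAut _ hx⟩, hnR⟩
      exact CfsgLib.Coprime.le_pCore (p := 2)
        (hp.of_equiv (Subgroup.topEquiv (G := F.autGroup R)).symm) (Subgroup.mem_top _)

theorem Datum.exists_noninner [Finite S] (hS : IsPGroup 2 S) :
    ∃ F : FusionSystem S, F.IsSaturated 2 ∧ ¬ IsInner F := by
  refine ⟨gSys D.le D.cube, D.isSaturated hS, fun h => D.ne_one ?_⟩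
  obtain ⟨s, hs, hx⟩ := h P _ (D.isMap_theta 1)
  have := D.eq_one_of_mem hS (i := 1) (mem_autInducedBy_iff.2 ⟨s, hs, hx⟩)
  rwa [pow_one] at this

end Main

end CfsgLib.Fusion.Bicyclic
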